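import Mathlib
import Cfsg.Agent.H7.Pr16
import Cfsg.Agent.S2283

/-! Unitary groups are generated by two elements. -/

set_option autoImplicit false

namespace Cfsg.Agent.H7.Pr
open Subgroup H10 H11 H12 H17

theorem su_two {F : Type*} [Field F] [Fintype F] {q : ℕ} (hF : Fintype.card F = q ^ 2) {n : ℕ}
    (hn : 3 ≤ n) (h32 : n = 3 → q ≠ 2) : ∃ a b : SU n F q, closure {a, b} = ⊤ := by
  have h2 := two_le_of_card_eq_sq hF
  by_cases h3 : n = 3
  · subst h3
    obtain ⟨u, g, -, h⟩ := S2283.result q (lt_of_le_of_ne h2 (h32 rfl).symm) hF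
    exact ⟨_, _, h⟩
  have hσ := ((qConj_conjQ hF).isHerm (Fin n)).ne
  obtain ⟨x, hx⟩ := exists_trace_eq hσ ((qConj_conjQ hF).isHerm (Fin n)).invol (map_one _)
  have hτ : trHom (conjQ hF) ≠ 0 := fun e => one_ne_zero (hx.symm.trans (DFunLike.congr_fun e x))
  refine two_map (suOm hF n).symm.toMonoidHom (MulEquiv.surjective _) ?_
  obtain ⟨m, rfl | rfl⟩ := Nat.even_or_odd' n
  · obtain ⟨P, -⟩ := frame_su_even hF m
    exact two_dim0 P (show 2 ≤ m by omega) rfl hσ hτ (by simp [ctC])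
  · obtain ⟨P, -⟩ := frame_su_odd hF m
    obtain ⟨y, hy⟩ := exists_ne_conj hσ
    exact two_dim1 P (show 2 ≤ m by omega) rfl hτ (x₀ := y) (by rintro rfl; simp at hy)
      (by rintro rfl; simp at hy) (by simp [ctB])

end Cfsg.Agent.H7.Pr
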