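import Cfsg.Agent.H7.Bf0
import Cfsg.Agent.H2.Cores
import Cfsg.Agent.H16.GtS
import Cfsg.Agent.S3344
import Cfsg.Agent.S2767
import Cfsg.Agent.S1169
import Cfsg.Agent.S1175
import Cfsg.Agent.S1225
import Cfsg.Agent.S0205
import Cfsg.Agent.H28.Bfb0
import Cfsg.Agent.H19.Bfb1b
import Cfsg.Agent.H15.Bfb2
import Cfsg.Agent.H27.Bfb3
import Cfsg.Agent.H8.Bfb4
import Cfsg.Agent.H26.Bfb5
import Cfsg.Agent.H23.Bfb6a
import Cfsg.Agent.H12.Bfb6b
import Cfsg.Agent.H11.Bfb6c0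
import Cfsg.Agent.H18.Bfb7
import Cfsg.Agent.H13.Bfb8a
import Cfsg.Agent.H9.Bfb8b
import Cfsg.Agent.H25.Bfb9


set_option autoImplicit false
namespace Cfsg.Agent.H7.Bf
open Subgroup Cfsg.Agent.H19.Gt Cfsg.Agent.H1.G2
open scoped commutatorElement
universe u
variable {G : Type u} {K : Type*} [Group G] [Finite G] [CommGroup K] {τ : K × K →* G} {u v : G} {z : K}
  {S : Sylow 2 G}

theorem g_nse [IsSimpleGroup G] (h2 : ∃ x y : G, orderOf x = 2 ∧ orderOf y = 2 ∧ ¬ IsConj x y) :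
    ¬ ∃ H : Subgroup G, IsStronglyEmbedded H := by
  rintro ⟨H, hH⟩
  obtain ⟨x, y, hx, hy, n⟩ := h2
  obtain ⟨s, hs⟩ := exists_prime_orderOf_dvd_card' (G := H) 2 hH.2.1.two_dvd
  have hs' : orderOf (s : G) = 2 := by rw [orderOf_coe, hs]
  obtain ⟨g, hg⟩ : ∃ g : G, g * s * g⁻¹ ∉ H := by
    by_contra hc
    push Not at hc
    rcases (normalCore_normal H).eq_bot_or_eq_top with e | e
    · have : (s : G) ∈ H.normalCore := hc
      rw [e, mem_bot] at this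
      rw [this, orderOf_one] at hs'
      omega
    · exact hH.1 (top_le_iff.1 (e ▸ H.normalCore_le))
  exact n ((Cfsg.Agent.S1225.result H hH _ (((MulAut.conj g).orderOf_eq s).trans hs') hg s s hs' s.2 hs' s.2).2
    x y hx hy)

theorem g_nrm (h : Cw S τ u v z) (hO : oddCore G = ⊥) : h.gz.M.Normal :=
  b5 h hO (fun W _ _ S S₁ S₂ => Cfsg.Agent.S2767.result S S₁ S₂) (b4 h).1 (b4 h).2

theorem g_s3 : Group.IsSolvable (Equiv.Perm (Fin 3)) :=
  ⟨⟨2, by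
    have h1 : derivedSeries (Equiv.Perm (Fin 3)) 1 ≤ alternatingGroup (Fin 3) :=
      commutator_le.2 fun a _ b _ => by simp [commutatorElement_def, mul_comm, mul_left_comm]
    have h2 : ∀ a b : Equiv.Perm (Fin 3), Equiv.Perm.sign a = 1 → Equiv.Perm.sign b = 1 → ⁅a, b⁆ = 1 := by decide
    exact le_bot_iff.1 (commutator_le.2 fun a ha b hb => h2 a b (h1 ha) (h1 hb))⟩⟩

theorem g_sol (h : Cw S τ u v z) : Group.IsSolvable G ∧
    (h.gz.M.map (QuotientGroup.mk' (oddCore G))).Normal := by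
  obtain ⟨S', h'⟩ := b3 h
  have hO : oddCore (G ⧸ oddCore G) = ⊥ := H2.pPrimeCore_quotient_self
  have n := g_nrm h' hO
  constructor
  · obtain ⟨-, ⟨e⟩⟩ := b6b h' hO n
    have := g_s3
    have := H2.isSolvable_of_equiv e.symm
    have := (H2.pCore_isPGroup (p := 2) (G := G ⧸ oddCore G)).isNilpotent
    have := Group.isSolvable_of_ker_le_range (pCore 2 (G ⧸ oddCore G)).subtype (QuotientGroup.mk' (pCore 2 (G ⧸ oddCore G)))
      (by rw [QuotientGroup.ker_mk', range_subtype])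
    have := Cfsg.Agent.S0205.result (G := oddCore G) (Nat.coprime_two_right.1 H2.pPrimeCore_coprime)
    exact Group.isSolvable_of_ker_le_range (oddCore G).subtype (QuotientGroup.mk' (oddCore G))
      (by rw [QuotientGroup.ker_mk', range_subtype])
  · convert n using 1
    ext x
    constructor
    · rintro ⟨_, ⟨a, b, e, f⟩, rfl⟩
      refine ⟨a, b, e, ?_⟩
      simp only [MonoidHom.comp_apply, ← map_mul]
      rcases f with rfl | rfl | rfl | rfl <;> simp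
    · rintro ⟨a, b, e, f⟩
      simp only [MonoidHom.comp_apply, ← map_mul] at f
      rcases f with rfl | rfl | rfl | rfl
      exacts [⟨_, ⟨a, b, e, .inl rfl⟩, rfl⟩, ⟨_, ⟨a, b, e, .inr (.inl rfl)⟩, rfl⟩,
        ⟨_, ⟨a, b, e, .inr (.inr (.inl rfl))⟩, rfl⟩, ⟨_, ⟨a, b, e, .inr (.inr (.inr rfl))⟩, rfl⟩]

theorem g_main [IsSimpleGroup G] (h : Gz (S : Subgroup G) τ u v z) (h4 : Nat.card K = 4)
    (h2 : ∃ x y : G, orderOf x = 2 ∧ orderOf y = 2 ∧ ¬ IsConj x y) : Spor.IsoM12 G := by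
  have hSE := g_nse h2
  obtain ⟨ρ, hρ, -⟩ := h.rho
  obtain ⟨u, hT⟩ := b1b h h4 h2 fun A a1 a2 a3 => (Cfsg.Agent.S1169.result S A a1 a2 a3).elim (fun c => h.z1 (by
    have := congrArg Subtype.val (c.is_comm.comm (⟨_, h.toGs.tS ρ ρ⟩ : (S : Subgroup G))
      ⟨_, mul_mem (h.toGs.tS 1 1) h.toGs.uS⟩)
    exact hρ ▸ (h.toGs.cu.1 this).1)) hSE
  have ot : orderOf (τ (z, z)) = 2 := orderOf_eq_prime (by rw [pow_two, h.tt]) h.t_ne
  obtain ⟨S', τ', u', v', hC, e1, e2, e3⟩ := b2 hT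
  have tr : ∀ m, m ∈ hC.gz.M ↔ (m : G) ∈ hT.gz.M := fun m => by
    simp only [Gz.memM, Subtype.ext_iff, coe_mul, e1, e2, e3]
  obtain ⟨s1, s2⟩ := g_sol hC
  have hθ := b8b hT (b8a s1) (fun c hc => by
    obtain ⟨o, ho, f⟩ := b9 (S'.2.to_le hC.gz.M_le) s2 ⟨c, mem_centralizer_singleton_iff.2 hc⟩
    exact ⟨o, ⟨o, ho, rfl⟩, fun m hm => (tr _).1 (f ⟨m, mem_centralizer_singleton_iff.2
      (hT.gz.t_cen (hT.gz.M_le hm))⟩ ((tr _).2 hm))⟩) fun M a1 a2 a3 => by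
    by_contra hM
    exact hSE (Cfsg.Agent.S1175.result M hM _ ot a1 ⟨S, h.toGs.tS z z, fun s hs => h.t_cen hs⟩ a2 a3)
  have hO : oddCore (centralizer ({τ (z, z)} : Set G)) = ⊥ :=
    (map_eq_bot_iff_of_injective _ (subtype_injective _)).1 hθ
  have n := g_nrm hC hO
  obtain ⟨p1, ⟨e⟩⟩ := b6b hC hO n
  obtain ⟨q1, q2, s, q3⟩ := b7 hT.gz h4
  have hQ : (pCore 2 (centralizer ({τ (z, z)} : Set G))).map (centralizer ({τ (z, z)} : Set G)).subtype =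
      hT.gz.M := by
    rw [p1]
    ext x
    exact ⟨fun ⟨m, hm, f⟩ => f ▸ (tr m).1 hm, fun hx => ⟨⟨x, mem_centralizer_singleton_iff.2
      (hT.gz.t_cen (hT.gz.M_le hx))⟩, (tr _).2 hx, rfl⟩⟩
  have : Fact (Nat.Prime 3) := ⟨by norm_num⟩
  obtain ⟨X⟩ : Nonempty (Sylow 3 (centralizer ({τ (z, z)} : Set G))) := inferInstance
  have c := b6c_of hC n ((show 3 ∣ _ by
    rw [Nat.card_congr e.toEquiv, Nat.card_perm, Nat.card_fin]; decide).trans (card_quotient_dvd_card _)) X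
    (fun m ho hn => b6a hC hO n ho hn)
  obtain ⟨g, hg⟩ := isConj_iff.1 ((hT.cl _ (h.toGs.tS z 1)).2 (.inr (.inl rfl))).symm
  have hX : hT.gz.M ⊓ centralizer (((X : Subgroup (centralizer ({τ (z, z)} : Set G))).map
      (centralizer ({τ (z, z)} : Set G)).subtype : Subgroup G) : Set G) = zpowers (τ (z, z)) := by
    refine le_antisymm (fun x hx => ?_) (zpowers_le.2 ⟨hT.gz.Q_le hT.gz.tQ, ?_⟩)
    · obtain ⟨m, hm, rfl⟩ := hQ.ge hx.1
      obtain ⟨k, hk⟩ := c.le ⟨p1 ▸ hm, fun y hy => Subtype.ext (hx.2 y ⟨y, hy, rfl⟩)⟩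
      exact ⟨k, (congrArg (· ^ k) (e1 _)).symm.trans (congrArg Subtype.val hk)⟩
    · rintro _ ⟨y, -, rfl⟩
      exact mem_centralizer_singleton_iff.1 y.2
  rcases Cfsg.Agent.S3344.result _ ot _ rfl _ hQ.symm q1 q2 e X hX
    ⟨g, hg ▸ hT.gz.yM, fun f => h.z1 (h.toGs.teq.1 (hg.symm.trans f)).2.symm⟩ with
    ⟨N, hN, -, -, c8, -⟩ | ⟨⟨f⟩⟩ | ⟨⟨f⟩⟩ | f
  · rcases hN.eq_bot_or_eq_top with rfl | rfl
    · simp at c8
    · have := hT.gz.M.card_subgroup_dvd_card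
      rw [card_top] at c8
      rw [q2, c8] at this
      omega
  · exact absurd ((f.orderOf_eq s).trans q3) (b11 (by norm_num) _)
  · exact absurd ((f.orderOf_eq s).trans q3) (b11 (by norm_num) _)
  · exact f

theorem g_all {G : Type*} [Group G] [Finite G] [IsSimpleGroup G] (S : Sylow 2 G) (P : Sylow 2 ↥Cfsg.Spor.M12)
    (hS : Nonempty (↥(S : Subgroup G) ≃* ↥(P : Subgroup ↥Cfsg.Spor.M12)))
    (h2 : ∃ x y : G, orderOf x = 2 ∧ orderOf y = 2 ∧ ¬ IsConj x y) : Cfsg.Spor.IsoM12 G := by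
  obtain ⟨e⟩ := hS
  obtain ⟨H, τ0, u0, v0, g0, i0⟩ := b0
  obtain ⟨K, τ, u, v, hK, hg⟩ := H16.GtS.gS g0 i0 S P e
  obtain ⟨ρ, r1, r2, -, -⟩ := cyc_data hg.cyc hg.four
  exact g_main ⟨hg, inferInstance, hK, r1, r2⟩
    (Nat.dvd_antisymm (by simpa using K.card_subgroup_dvd_card) hg.four) h2

end Cfsg.Agent.H7.Bf
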