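import Mathlib
import Cfsg.Agent.H7.BR3
import Cfsg.Agent.H6.TI

/-!
Self-centralizing elements of prime order `p` with normalizer of order `2 p`.
-/

set_option autoImplicit false
set_option linter.unusedSectionVars false
set_option linter.unusedVariables false
set_option linter.style.haveILetI false

namespace Cfsg.Agent.H7

open Cfsg Subgroup Finset Cfsg.Agent.H24.D1 Cfsg.Agent.H23
open scoped MatrixGroups ComplexConjugate

variable {G : Type*} [Group G] [Finite G] {p : ℕ} [hp : Fact p.Prime] {x : G}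

theorem ind_zp_sing (h : SC p x) {g : G} (hg : p ∣ orderOf g) :
    ind (zpowers x).subtype (fun _ => 1) g = (CC x).relIndex (NN x) := by
  obtain ⟨s, hs, h1⟩ := SC_sing h hg
  rw [← ind_cf (zpowers x).subtype (fun _ => 1) g s, ind_one_apply_eq_card']
  have : Nat.card {y : G // y⁻¹ * (s * g * s⁻¹) * y ∈ zpowers x} = Nat.card (NN x) :=
    Nat.card_congr (Equiv.subtypeEquivRight fun y => ⟨fun hy => by
      have ho : p ∣ orderOf (s * g * s⁻¹) := (h.syl1.orderOf_eq hs h1).symm ▸ dvd_rfl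
      exact h.syl1.mem_NN_of_conj (zp_le_CC x hs) ho (zp_le_CC x hy),
      fun hy => by simpa using conj_mem_zp (inv_mem hy) hs⟩)
  rw [this, h.card_NN, h.syl1.card_zp, Nat.cast_mul, ← mul_assoc,
    inv_mul_cancel₀ (Nat.cast_ne_zero.2 hp.out.ne_zero), one_mul]

theorem sum_eq_card_mul_ip [Fintype G] (φ : G → ℂ) : ∑ g, φ g = Nat.card G * ip φ 1 := by
  rw [ip_def, ← mul_assoc, mul_inv_cancel₀ (card_ne_zero' G), one_mul]
  simp

theorem dvd_orderOf_sq (hp2 : p ≠ 2) {g : G} (hg : p ∣ orderOf g) : p ∣ orderOf (g * g) := by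
  have h1 : orderOf g ∣ 2 * orderOf (g * g) := orderOf_dvd_of_pow_eq_one (by
    rw [pow_mul, pow_two, pow_orderOf_eq_one])
  exact ((Nat.coprime_primes hp.out Nat.prime_two).2 hp2).dvd_of_dvd_mul_left (hg.trans h1)

theorem SC_pair_mem (h : SC p x) {a b u : G} (ha : orderOf a = 2) (hb : orderOf b = 2)
    (hu : u ∈ zpowers x) (h1 : u ≠ 1) (e : a * b = u) : a ∈ NN x := by
  refine h.syl1.mem_NN_of_conj (zp_le_CC x hu) ((h.syl1.orderOf_eq hu h1).symm ▸ dvd_rfl) ?_
  have h4 := H20.inverts_mul_left (H20.mul_self_of_orderOf_two ha) (H20.mul_self_of_orderOf_two hb)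
  rw [H20.inv_eq_self_of_orderOf_two ha] at h4 ⊢
  rw [← e, h4, e]
  exact zp_le_CC x (inv_mem hu)

theorem SC_pairSum [Fintype G] (h : SC p x) (hp2 : p ≠ 2) {j : G} (hj : orderOf j = 2)
    (hN : j ∈ NN x) {Θ : G → ℂ} (hΘ : ∀ g, ¬ p ∣ orderOf g → Θ g = 0) :
    H6.pairSum j j Θ = p * (Nat.card G * ip Θ 1) := by
  rw [H6.pairSum_eq_sum_card, ← sum_eq_card_mul_ip, mul_sum]
  refine sum_congr rfl fun g _ => ?_
  by_cases hg : p ∣ orderOf g
  swap
  · rw [hΘ g hg, zero_mul, mul_zero]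
  obtain ⟨s, hs, h1⟩ := SC_sing h hg
  have h2 := H6.isClassFunction_card_pairs j j g s
  simp only at h2
  rw [← h2, mul_comm]
  congr 2
  generalize s * g * s⁻¹ = u at hs h1
  rw [← SC_card_inv h hp2 hj hN]
  refine Nat.card_congr ⟨fun q => ⟨q.1.1, (H20.orderOf_eq_of_isConj q.2.1).symm.trans hj,
    SC_pair_mem h ((H20.orderOf_eq_of_isConj q.2.1).symm.trans hj)
      ((H20.orderOf_eq_of_isConj q.2.2.1).symm.trans hj) hs h1 q.2.2.2⟩,
    fun k => ⟨(k.1, k.1⁻¹ * u), SC_inv_conj h hp2 hj hN k.2.1 k.2.2, ?_, by simp⟩,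
    fun q => Subtype.ext (Prod.ext rfl (inv_mul_eq_of_eq_mul q.2.2.2.symm)), fun k => rfl⟩
  have h3 := (SC_inv_iff h hp2 k.2.1 k.2.2 (k := k.1⁻¹ * u)).2 (by
    rw [H20.inv_eq_self_of_orderOf_two k.2.1, ← mul_assoc, H20.mul_self_of_orderOf_two k.2.1,
      one_mul]; exact hs)
  exact SC_inv_conj h hp2 hj hN h3.1 h3.2

theorem SC_pairSum_zero [Fintype G] (h : SC p x) {i : G} (hi : orderOf i = 2)
    (hN : ∀ y, y⁻¹ * i * y ∉ NN x) {Θ : G → ℂ} (hΘ : ∀ g, ¬ p ∣ orderOf g → Θ g = 0) :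
    H6.pairSum i i Θ = 0 :=
  H6.pairSum_eq_zero fun a b ha hb => hΘ _ fun hd => by
    obtain ⟨s, hs, h1⟩ := SC_sing h hd
    obtain ⟨y, rfl⟩ := isConj_iff.1 ha
    refine hN (s * y)⁻¹ ?_
    have := SC_pair_mem h (a := s * (y * i * y⁻¹) * s⁻¹) (b := s * b * s⁻¹)
      (by rw [H20.orderOf_conj, H20.orderOf_conj, hi])
      (by rw [H20.orderOf_conj, ← H20.orderOf_eq_of_isConj hb, hi]) hs h1 (by group)
    simpa [mul_assoc] using this

theorem SC_exists_inv_NN (h : SC p x) (he : Even ((CC x).relIndex (NN x))) :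
    ∃ j, orderOf j = 2 ∧ j ∈ NN x := by
  obtain ⟨j, hj⟩ := exists_prime_orderOf_dvd_card' (G := NN x) 2 (by
    rw [h.card_NN]; exact he.two_dvd.mul_left _)
  exact ⟨j, by rw [orderOf_coe, hj], j.2⟩

theorem e2_fam (h : SC p x) (he : (CC x).relIndex (NN x) = 2) (hp3 : 3 < p)
    {M : Ideal AlgInt} (hM : IsPModular p M) {X : Finset (IrrCharacter G)}
    {ψ : (ZMod p)ˣ → IrrCharacter G} {ε : IrrCharacter G → ℤ} {δ : ℤ}
    (F : Fam h.syl1 (principalBlock M G) (fun _ => 1) X ψ ε δ) (h1 : H8.irrOne G ∈ X)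
    {χ : IrrCharacter G} (hd : charDegree χ.1 = p - 1) :
    χ ∈ X ∧ χ ≠ H8.irrOne G ∧ ε χ = -1 := by
  have hp1 : ((p - 1 : ℕ) : ℤ) = p - 1 := by push_cast [Nat.cast_sub hp.out.one_le]; ring
  have hX : χ ∈ X := by
    rcases (F.mem χ).1 (h.mem_principal hM (by
      rw [hd]; exact Nat.not_dvd_of_pos_of_lt (by omega) (by omega))) with e | ⟨j, rfl⟩
    · exact e
    · exfalso
      have h2 := (F.degY₀ j).dvd
      rw [hd, he, hp1] at h2
      have h3 : (p : ℤ) ∣ δ * 2 + 1 := by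
        have := dvd_add h2 (dvd_refl (p : ℤ))
        push_cast at this
        rwa [show δ * 2 - ((p : ℤ) - 1) + p = δ * 2 + 1 by ring] at this
      rcases F.sδ with e | e <;> rw [e] at h3
      · have := Int.le_of_dvd (by norm_num) h3; omega
      · have := Int.le_of_dvd (by norm_num) (dvd_neg.2 h3); omega
  refine ⟨hX, ?_, (F.sε χ hX).resolve_left fun e => ?_⟩
  · rintro rfl
    rw [show charDegree (H8.irrOne G).1 = 1 from charDegree_one] at hd
    omega
  · have h2 := (F.degX₀ hX).dvd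
    rw [hd, e, hp1] at h2
    have h3 : (p : ℤ) ∣ 2 := by
      have := dvd_add h2 (dvd_refl (p : ℤ))
      rwa [show 1 - ((p : ℤ) - 1) + p = 2 by ring] at this
    have := Int.le_of_dvd (by norm_num) h3; omega

/-- The case of a faithful orthogonal character of degree `p - 1`. -/
theorem e2_main (h : SC p x) (he : (CC x).relIndex (NN x) = 2)
    (hp3 : 3 < p) {χ₀ : G → ℂ} (hχ : IsIrrCharacter G χ₀) (hd : charDegree χ₀ = p - 1)
    (hfa : ∀ g, χ₀ g = χ₀ 1 → g = 1)
    (hν : ∀ [Fintype G], H6.fsInd χ₀ ≠ -1) : ∃ j : G, orderOf j = 2 ∧ j ∈ NN x ∧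
      (∀ i : G, orderOf i = 2 → IsConj j i) ∧ Nat.card (CC j) = p - 1 ∧
      (∀ w ∈ CC j, w * w = 1) ∧ Nat.card G = p * (p - 1) * (p - 2) ∧
      (∀ i : G, orderOf i = 2 → χ₀ i = 0) ∧
      (∀ g : G, ¬ p ∣ orderOf g → g * g ≠ 1 → χ₀ g = 1) ∧
      ∃ (a : ℕ) (F : Type) (_ : Field F) (_ : Fintype F), Fintype.card F = 2 ^ a ∧
        p = 2 ^ a + 1 ∧ Nonempty (G ≃* PSL(2, F)) ∧ Nonempty (G ≃* SL(2, F)) := by
  classical
  haveI := Fintype.ofFinite G
  obtain ⟨M, hM⟩ := H9.exists_pmod p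
  obtain ⟨X, ψ, ε, δ, F, h1⟩ := h.syl1.exists_fam_principal hM
  obtain ⟨χ, rfl⟩ : ∃ χ : IrrCharacter G, χ.1 = χ₀ := ⟨⟨χ₀, hχ⟩, rfl⟩
  obtain ⟨hX, hne, hε⟩ := e2_fam h he hp3 hM F h1 hd
  have hp2 : p ≠ 2 := by omega
  obtain ⟨t, ht⟩ := exists_t h.syl1
  have hXe : X = {H8.irrOne G, χ} := (eq_of_subset_of_card_le (by
    intro φ hφ
    rcases mem_insert.1 hφ with rfl | hφ
    · exact h1
    · rwa [mem_singleton.1 hφ]) (by rw [F.card₀, he, card_pair hne.symm])).symm
  have hsum : ∀ f : IrrCharacter G → ℂ, ∑ φ ∈ X, (ε φ : ℂ) * f φ = f (H8.irrOne G) - f χ :=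
    fun f => by rw [hXe, sum_pair hne.symm, PB.eps_one F h1, hε]; push_cast; ring
  obtain ⟨Y, hY, hYc⟩ : ∃ Y : Finset (IrrCharacter G), (∀ φ ∈ Y, ∃ j, ψ j = φ) ∧ Y.card = t :=
    ⟨_, fun φ hφ => by simpa using hφ, card_image_psi F ht⟩
  obtain ⟨q, rfl⟩ : ∃ q, p = q + 2 := ⟨p - 2, by omega⟩
  simp only [show q + 2 - 1 = q + 1 from rfl, Nat.add_sub_cancel] at hd ht ⊢
  have hχ1 : χ.1 1 = q + 1 := by rw [H8.irr_one_eq, hd]; push_cast; rfl
  have hz : δ = -1 ∧ ∀ j, charDegree (ψ j).1 = q := by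
    have h2 : ∀ j, δ * charDegree (ψ j).1 = -q := fun j => by
      rw [F.deg_rel j, hXe, sum_pair hne.symm, PB.eps_one F h1, hε, hd,
        show charDegree (H8.irrOne G).1 = 1 from charDegree_one]
      push_cast; ring
    have h3 : δ = -1 := F.sδ.resolve_left fun e => by
      have := h2 1; rw [e] at this; omega
    exact ⟨h3, fun j => by have := h2 j; rw [h3] at this; omega⟩
  obtain ⟨hδ, hz⟩ := hz
  have hreg : ∀ j g, ¬ (q + 2) ∣ orderOf g → (ψ j).1 g = χ.1 g - 1 := fun j g hg => by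
    have := F.reg j hg
    rw [hsum (fun φ => φ.1 g), hδ, H8.irrOne_apply] at this
    push_cast at this
    linear_combination -this
  have hsing : ∀ g, (q + 2) ∣ orderOf g → χ.1 g = -1 := fun g hg => by
    rw [F.val₀ hX hg, hε]; simp
  have hPhi : ∀ j : (ZMod (q + 2))ˣ, Phi (q + 2) x (fun _ => 1) j = 1 - χ.1 + (ψ j).1 := fun j => by
    rw [F.phi, hXe, sum_pair hne.symm, PB.eps_one F h1, hε, hδ]
    ext g; simp; ring
  have hfix : ∀ τ : ℂ →+* ℂ, (fun g => τ (χ.1 g)) = χ.1 := fun τ => by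
    have h2 := e2_fam h he hp3 hM F h1 (χ := ⟨_, H6.isIrr_map τ χ.2⟩)
      (charDegree_eq (by simp only [hχ1]; simp))
    rw [hXe] at h2
    exact congrArg Subtype.val (mem_singleton.1 ((mem_insert.1 h2.1).resolve_left h2.2.1))
  choose f hf using fun g => H6.exists_int_of_fixed (H6.isCharacter_isIntegral (irr_char χ.2) g)
    fun τ => congrFun (hfix τ.toRingHom) g
  have hreal : (fun g => conj (χ.1 g)) = χ.1 := hfix (starRingEnd ℂ)
  have hfs : H6.fsInd χ.1 = 1 := (H6.fsInd_of_real χ.2 hreal).resolve_right hν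
  have hΛ := H6.isCharacter_altSq (irr_char χ.2)
  set Λ : G → ℂ := fun g => (χ.1 g ^ 2 - χ.1 (g * g)) / 2 with hΛd
  have hΛ1 : ip Λ 1 = 0 := by
    have h2 := ip_irr_self χ.2
    rw [ip_def] at h2 ⊢
    rw [H6.fsInd_def] at hfs
    simp only [hΛd, Pi.one_apply, map_one, mul_one]
    rw [← sum_div, sum_sub_distrib, ← mul_div_assoc, mul_sub, hfs, ← h2]
    simp only [congrFun hreal, pow_two, sub_self, zero_div]
  have hΛe := eq_sum_of_deg hΛ Y (fun _ => 1) (fun φ hφ => by
      obtain ⟨j, rfl⟩ := hY φ hφ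
      have h2 : ip (Phi (q + 2) x (fun _ => 1) j) Λ = ip (Phi (q + 2) x (fun _ => 1) j) (fun _ => 1) :=
        ip_congr_sing (fun g hg => h.syl1.Phi_reg _ _ hg) fun g hg => by
          simp only [hΛd, hsing g hg, hsing _ (dvd_orderOf_sq hp2 hg)]; norm_num
      rw [h.syl1.ip_Phi_one] at h2
      have h3 := ip_natCast_comm (n := 1) (by rw [h2, Nat.cast_one])
      obtain ⟨r, hr⟩ := ip_char_nat hΛ (irr_char χ.2)
      rw [hPhi, ip_add_right, ip_sub_right, hΛ1, hr] at h3
      exact ⟨r + 1, by push_cast at h3 ⊢; linear_combination h3, by omega⟩) (by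
      rw [sum_congr rfl (g := fun _ => q) fun φ hφ => by
        obtain ⟨j, rfl⟩ := hY φ hφ
        rw [one_mul, hz], sum_const, hYc]
      have h2 : (t * 2 : ℂ) = q + 1 := by rw [he] at ht; exact_mod_cast ht
      simp only [hΛd, mul_one, hχ1, smul_eq_mul]
      push_cast
      linear_combination (-(q : ℂ) / 2) * h2)
  have hsq : ∀ g, ¬ (q + 2) ∣ orderOf g → f (g * g) = f g ^ 2 - (q + 1) * (f g - 1) :=
    fun g hg => by
      have h2 := congrFun hΛe g
      rw [Finset.sum_apply, sum_congr rfl (g := fun _ => χ.1 g - 1) fun φ hφ => by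
        obtain ⟨j, rfl⟩ := hY φ hφ
        simp [hreg j g hg], sum_const, hYc, nsmul_eq_mul] at h2
      have h3 : (t * 2 : ℂ) = q + 1 := by rw [he] at ht; exact_mod_cast ht
      simp only [hΛd, hf] at h2
      have h4 : (f (g * g) : ℂ) = f g ^ 2 - (q + 1) * (f g - 1) := by
        rw [← h3]; linear_combination (-2) * h2
      exact_mod_cast h4
  have hf1 : f 1 = q + 1 := by
    have := hf 1; rw [hχ1] at this; exact_mod_cast this.symm
  have hfle : ∀ g, g ≠ 1 → f g ≤ q := fun g hg => by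
    have h2 := H6.isCharacter_norm_le' (irr_char χ.2) (n := q + 1) (by rw [hχ1]; simp) g
    rw [hf, Complex.norm_intCast] at h2
    have h3 : f g ≤ q + 1 := by
      have := (abs_le.1 h2).2
      exact_mod_cast this
    have h4 : f g ≠ q + 1 := fun e => hg (hfa g (by rw [hf, hf, e, hf1]))
    omega
  have hinv_reg : ∀ i : G, orderOf i = 2 → ¬ (q + 2) ∣ orderOf i := fun i hi hd' =>
    hp2 ((Nat.prime_dvd_prime_iff_eq hp.out Nat.prime_two).1 (hi ▸ hd'))
  have hfi : ∀ i : G, orderOf i = 2 → f i = 0 := fun i hi => by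
    have h2 := hsq i (hinv_reg i hi)
    rw [H20.mul_self_of_orderOf_two hi, hf1] at h2
    have h3 := hfle i (H20.ne_one_of_orderOf_two hi)
    have h4 : f i * (f i - (q + 1)) = 0 := by linear_combination -h2
    rcases mul_eq_zero.1 h4 with e | e <;> omega
  have hfge : ∀ g, ¬ (q + 2) ∣ orderOf g → g * g ≠ 1 → 1 ≤ f g := fun g hg h2 => by
    have h3 := hsq g hg
    have h4 := hfle _ h2
    by_contra hc
    nlinarith [sq_nonneg (f g)]
  have hq : (q : ℂ) ≠ 0 := Nat.cast_ne_zero.2 (by omega)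
  have hpair : ∀ i : G, orderOf i = 2 → (Nat.card (CC i) : ℂ) * Nat.card (CC i) *
      H6.pairSum i i (Phi (q + 2) x (fun _ => 1) (1 : (ZMod (q + 2))ˣ)) * q =
      (Nat.card G : ℂ) ^ 2 * (q + 1) := fun i hi => by
    rw [hPhi, H6.pairSum_add, H6.pairSum_sub, mul_add, mul_sub, H6.card_mul_pairSum_irr _ _ irr_one,
      H6.card_mul_pairSum_irr _ _ χ.2, H6.card_mul_pairSum_irr _ _ (ψ 1).2,
      hreg 1 i (hinv_reg i hi), hf i, hfi i hi, H8.irr_one_eq (ψ 1), hz]
    simp only [Pi.one_apply]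
    field_simp
    push_cast; ring
  obtain ⟨j, hj, hN⟩ := SC_exists_inv_NN h (by rw [he]; exact even_two)
  have hG0 := card_ne_zero' G
  have hconj : ∀ i : G, orderOf i = 2 → IsConj j i := fun i hi => by
    by_contra hc
    have h2 := hpair i hi
    rw [SC_pairSum_zero h hi (fun y hy => hc ((SC_inv_conj h hp2 hj hN
      ((H20.orderOf_conj' y i).trans hi) hy).trans (isConj_iff.2 ⟨y, by group⟩)))
      fun g hg => h.syl1.Phi_reg _ _ hg, mul_zero, zero_mul] at h2
    exact mul_ne_zero (pow_ne_zero 2 hG0) (by exact_mod_cast Nat.succ_ne_zero q) h2.symm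
  set c := Nat.card (CC j) with hc
  set I := Nat.card {k : G // orderOf k = 2} with hI
  have hIc : I * c = Nat.card G := by
    rw [← H20.card_isConj_mul_card_cent j, hI]
    congr 1
    exact Nat.card_congr (Equiv.subtypeEquivRight fun k =>
      ⟨hconj k, fun a => (H20.orderOf_eq_of_isConj a).symm.trans hj⟩)
  have hc0 : 0 < c := Nat.card_pos
  have hord : c * ((q + 2) * q) = I * (q + 1) := by
    have h2 := hpair j hj
    rw [SC_pairSum h hp2 hj hN fun g hg => h.syl1.Phi_reg _ _ hg,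
      show ip (Phi (q + 2) x (fun _ => 1) (1 : (ZMod (q + 2))ˣ)) 1 = 1 from h.syl1.ip_Phi_one 1,
      ← hc] at h2
    have h3 : (c * c * ((q + 2) * q) : ℂ) = Nat.card G * (q + 1) := by
      apply mul_left_cancel₀ hG0
      push_cast at h2
      linear_combination h2
    rw [← hIc] at h3
    have h4 : c * (c * ((q + 2) * q)) = c * (I * (q + 1)) := by
      have : (c * (c * ((q + 2) * q)) : ℂ) = c * (I * (q + 1)) := by
        push_cast at h3; linear_combination h3
      exact_mod_cast this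
    exact Nat.eq_of_mul_eq_mul_left hc0 h4
  have hdv : q + 1 ∣ c := by
    have h2 : (q + 1).Coprime ((q + 2) * q) :=
      Nat.Coprime.mul_right (by simp [show q + 2 = (q + 1) + 1 from rfl]) (by simp)
    exact h2.dvd_of_dvd_mul_right (hord ▸ dvd_mul_left _ _)
  -- counting
  set k := (zpowers x).index with hk
  have hkG : (q + 2) * k = Nat.card G := by
    rw [← (zpowers x).card_mul_index, h.syl1.card_zp]
  let w : G → ℤ := fun g => f g - 1 + (if (q + 2) ∣ orderOf g then 2 else 0) +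
    (if orderOf g = 2 then 1 else 0) - (if g = 1 then (q : ℤ) else 0)
  have hw0 : ∀ g, 0 ≤ w g := fun g => by
    simp only [w]
    by_cases h2 : (q + 2) ∣ orderOf g
    · have h3 : f g = -1 := by have := hsing g h2; rw [hf] at this; exact_mod_cast this
      have h4 : g ≠ 1 := by
        rintro rfl
        rw [orderOf_one] at h2
        have := Nat.le_of_dvd one_pos h2
        omega
      rw [if_pos h2, if_neg h4, h3]
      split_ifs <;> norm_num
    rw [if_neg h2]
    by_cases h3 : g = 1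
    · rw [if_pos h3, h3, hf1]; split_ifs <;> omega
    rw [if_neg h3]
    by_cases h4 : orderOf g = 2
    · rw [if_pos h4, hfi g h4]; norm_num
    · have := hfge g h2 fun e => h4 (H20.orderOf_two_of e h3)
      rw [if_neg h4]; omega
  have hwsum : ∑ g, w g = I - q - k := by
    have h2 : ∑ g, f g = 0 := by
      have := sum_eq_card_mul_ip χ.1
      rw [ip_irr_ne χ.2 irr_one fun e => hne (Subtype.ext e), mul_zero] at this
      simp only [hf] at this
      exact_mod_cast this
    have h3 : (k : ℤ) + ∑ g : G, (if (q + 2) ∣ orderOf g then 2 else 0 : ℤ) = Nat.card G := by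
      have h4 := sum_eq_card_mul_ip (ind (zpowers x).subtype fun _ => 1)
      rw [ip_ind_left _ _ cf_one, show (ip (fun _ : zpowers x => (1 : ℂ))
        fun a => (1 : G → ℂ) ((zpowers x).subtype a)) = 1 from ip_irr_self irr_one, mul_one, sum_congr rfl (g := fun g => (if g = 1 then (k : ℂ) else 0) +
          if (q + 2) ∣ orderOf g then 2 else 0) fun g _ => by
        by_cases h5 : (q + 2) ∣ orderOf g
        · rw [ind_zp_sing h h5, he, if_pos h5, if_neg]
          · simp
          · rintro rfl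
            rw [orderOf_one] at h5
            have := Nat.le_of_dvd one_pos h5
            omega
        · rw [if_neg h5, add_zero]
          split_ifs with h6
          · rw [h6, ind_apply_one (subtype_injective _), range_subtype, mul_one]
          · exact ind_zp_reg h.syl1 h5 h6, sum_add_distrib, sum_ite_eq'] at h4
      simp only [mem_univ, if_true] at h4
      exact_mod_cast h4
    simp only [w, sum_sub_distrib, sum_add_distrib, h2, sum_ite_eq', mem_univ, if_true, sum_const,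
      card_univ, ← Nat.card_eq_fintype_card, sum_boole]
    rw [hI, H20.natCard_subtype_eq_filter]
    simp only [nsmul_eq_mul, mul_one]
    linarith
  have hIk : k + q ≤ I := by
    have := sum_nonneg fun g (_ : g ∈ univ) => hw0 g
    omega
  have hcq : c = q + 1 := by
    have h2 : c < q + 2 := by
      by_contra h3
      have : I * (q + 2) ≤ I * c := Nat.mul_le_mul_left _ (by omega)
      nlinarith
    have := Nat.le_of_dvd hc0 hdv
    omega
  have hIq : I = (q + 2) * q := by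
    rw [hcq, mul_comm I] at hord
    exact (Nat.eq_of_mul_eq_mul_left (by omega) hord).symm
  have hGq : Nat.card G = (q + 2) * (q + 1) * q := by rw [← hIc, hIq, hcq]; ring
  have hkq : k = (q + 1) * q :=
    Nat.eq_of_mul_eq_mul_left (show 0 < q + 2 by omega) (by rw [hkG, hGq]; ring)
  have hwz : ∀ g, w g = 0 := fun g => (sum_eq_zero_iff_of_nonneg fun g _ => hw0 g).1 (by
    rw [hwsum, hIq, hkq]; push_cast; ring) g (mem_univ g)
  have hall : ∀ w ∈ CC j, w * w = 1 := fun v hv => by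
    by_cases hvN : v ∈ NN x
    · have h2 := SC_card_inf h hp2 hj hN
      rw [he] at h2
      have h3 : orderOf (⟨v, hv, hvN⟩ : (CC j ⊓ NN x : Subgroup G)) ≤ 2 :=
        (_root_.orderOf_le_card).trans h2
      have h4 := orderOf_pos (⟨v, hv, hvN⟩ : (CC j ⊓ NN x : Subgroup G))
      rw [← orderOf_coe] at h3 h4
      rw [← pow_two, ← orderOf_dvd_iff_pow_eq_one]
      change orderOf v ≤ 2 at h3
      change 0 < orderOf v at h4
      interval_cases orderOf v <;> norm_num
    · exact SC_outside h hp2 hj hN (by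
        rw [← hI, hIq, hGq, h.card_NN, he]; apply le_of_eq; ring) hv hvN
  refine ⟨j, hj, hN, hconj, hcq, hall, hGq, fun i hi => by rw [hf, hfi i hi, Int.cast_zero],
    fun g hg hg2 => ?_, ?_⟩
  · have h2 := hwz g
    simp only [w] at h2
    rw [if_neg hg, if_neg fun e => hg2 (H20.mul_self_of_orderOf_two e),
      if_neg fun e => hg2 (by rw [e, mul_one])] at h2
    rw [hf, show f g = 1 by omega, Int.cast_one]
  obtain ⟨K, _, _, hK, e1⟩ := psl_of_cen hj hconj hall (by omega) fun T hT => by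
    have h2 : ¬ (q + 2) ∣ Nat.card T := fun hd => by
      obtain ⟨k, hk⟩ := T.isPGroup'.exists_card_eq
      exact hp2 ((Nat.prime_dvd_prime_iff_eq hp.out Nat.prime_two).1
        (hp.out.dvd_of_dvd_pow (hk ▸ hd)))
    have h3 := h.disjoint h2 fun s hs => hT.conj_mem s hs x
    obtain ⟨Q, hQ⟩ := (H8.isPGroup_zpowers (p := 2) ⟨1, by rw [hj, pow_one]⟩).exists_le_sylow
    haveI := Sylow.unique_of_normal T hT
    rw [Subsingleton.elim Q T] at hQ
    exact H20.ne_one_of_orderOf_two hj (disjoint_def.1 h3 (hQ (mem_zpowers j)) hN)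
  have hev : Even (Nat.card K) := by
    rw [Nat.card_eq_fintype_card, hK, ← hc, hcq, ← ht, he]
    exact even_two.mul_left _
  obtain ⟨b, -, hb⟩ := card_eq_two_pow_of_even hev
  obtain ⟨f⟩ := psl_sl_of_even hev
  obtain ⟨e1⟩ := e1
  exact ⟨b, K, inferInstance, inferInstance, hb, by omega, ⟨e1⟩, ⟨e1.trans f⟩⟩

end Cfsg.Agent.H7
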