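import Mathlib
import Cfsg.Agent.H6.Ortho
import Cfsg.Agent.H6.Values
import Cfsg.Agent.H6.Kernel
import Cfsg.Agent.H5.HH
import Cfsg.Agent.H9.NormalP
import Cfsg.Agent.H4.SylowIn
import Cfsg.Prelude.Def_Blocks

/-!
Reduction modulo `p` of complex representations through a valuation subring of `ℂ`.
Application: small representations and Sylow subgroups with trivial intersections.
-/

set_option autoImplicit false

namespace Cfsg.Agent.H7

open Module
open scoped Pointwise commutatorElement

theorem exists_val {p : ℕ} (hp : p.Prime) : ∃ A : ValuationSubring ℂ, (p : ℂ) ∈ A.nonunits := by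
  have hI : Ideal.span {(p : (⊥ : Subring ℂ))} ≠ ⊤ := by
    intro h
    rw [Ideal.span_singleton_eq_top] at h
    obtain ⟨⟨b, hb⟩, e⟩ := isUnit_iff_exists_inv.1 h
    obtain ⟨n, rfl⟩ := Subring.mem_bot.1 hb
    have e' : (p : ℂ) * n = 1 := by simpa using congrArg Subtype.val e
    have e'' : (p : ℤ) * n = 1 := by exact_mod_cast e'
    have : (p : ℤ) ∣ 1 := ⟨n, e''.symm⟩
    have : p ∣ 1 := by exact_mod_cast this
    exact hp.one_lt.ne' (Nat.dvd_one.1 this)
  obtain ⟨B, -, hB⟩ := Ideal.image_subset_nonunits_valuationSubring _ hI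
  exact ⟨B, hB ⟨_, Ideal.subset_span rfl, by simp⟩⟩

theorem charP_res {p : ℕ} [hp : Fact p.Prime] {A : ValuationSubring ℂ} (hA : (p : ℂ) ∈ A.nonunits) :
    CharP (IsLocalRing.ResidueField A) p := by
  refine (CharP.charP_iff_prime_eq_zero hp.out).2 ?_
  rw [← map_natCast (IsLocalRing.residue A), IsLocalRing.residue_eq_zero_iff,
    ← ValuationSubring.coe_mem_nonunits_iff]
  simpa using hA

variable {G : Type*} [Group G] {V : Type*} [AddCommGroup V] [Module ℂ V]

/-- In a representation of dimension less than `|P|` the sum of `P` acts as zero modulo `p`. -/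
theorem sum_eq_nonunit {p : ℕ} [hp : Fact p.Prime] {A : ValuationSubring ℂ}
    (hA : (p : ℂ) ∈ A.nonunits) [FiniteDimensional ℂ V] [Fintype G] (hG : IsPGroup p G)
    (ρ : Representation ℂ G V) (hdim : finrank ℂ V < Nat.card G) (z : V) :
    ∃ m : G → A, (∀ u, m u ∈ IsLocalRing.maximalIdeal A) ∧
      ∑ u, ρ u z = ∑ u, (m u : ℂ) • ρ u z := by
  classical
  haveI := charP_res hA
  have hdep : ¬ LinearIndependent ℂ (fun u : G => ρ u z) := fun h => by
    have := h.fintype_card_le_finrank
    rw [Nat.card_eq_fintype_card] at hdim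
    omega
  obtain ⟨c, hc, u₁, hu₁⟩ := Fintype.not_linearIndependent_iff.1 hdep
  obtain ⟨u₀, -, hu₀⟩ := Finset.exists_max_image Finset.univ (fun u => A.valuation (c u))
    Finset.univ_nonempty
  have hc0 : c u₀ ≠ 0 := by
    intro h
    have := hu₀ u₁ (Finset.mem_univ _)
    rw [h, map_zero, le_zero_iff, map_eq_zero] at this
    exact hu₁ this
  have hmem : ∀ u, c u / c u₀ ∈ A := fun u => by
    rw [← A.valuation_le_one_iff, map_div₀]
    exact div_le_one_of_le₀ (hu₀ u (Finset.mem_univ _)) zero_le'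
  set k := IsLocalRing.ResidueField A
  let W : Submodule k (G → k) :=
    { carrier := {f | ∃ c : G → A, ∑ u, (c u : ℂ) • ρ u z = 0 ∧ ∀ u, f u = IsLocalRing.residue A (c u)}
      add_mem' := by
        rintro f g ⟨a, ha, ha'⟩ ⟨b, hb, hb'⟩
        refine ⟨a + b, ?_, fun u => by simp [ha', hb']⟩
        simp only [Pi.add_apply, AddMemClass.coe_add, add_smul, Finset.sum_add_distrib, ha, hb,
          add_zero]
      zero_mem' := ⟨0, by simp, fun u => by simp⟩
      smul_mem' := by
        rintro r f ⟨a, ha, ha'⟩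
        obtain ⟨r, rfl⟩ := IsLocalRing.residue_surjective r
        refine ⟨fun u => r * a u, ?_, fun u => by simp [ha']⟩
        simp only [MulMemClass.coe_mul, mul_smul, ← Finset.smul_sum, ha, smul_zero] }
  let τ : G →* Module.End k (G → k) :=
    { toFun := fun g => LinearMap.funLeft k k (fun u => g⁻¹ * u)
      map_one' := by ext f u; simp
      map_mul' := fun g h => by ext f u; simp [mul_assoc] }
  have hW : ∀ x ∈ (⊤ : Subgroup G), ∀ v ∈ W, τ x v ∈ W := by
    rintro x - v ⟨a, ha, ha'⟩
    refine ⟨fun u => a (x⁻¹ * u), ?_, fun u => by simp [τ, ha']⟩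
    have : ρ x (∑ u, (a u : ℂ) • ρ u z) = 0 := by rw [ha, map_zero]
    rw [map_sum] at this
    rw [← this]
    refine (Fintype.sum_equiv (Equiv.mulLeft x) _ _ fun u => ?_).symm
    simp [map_mul]
  have h0 : (fun u => IsLocalRing.residue A ⟨c u / c u₀, hmem u⟩) ∈ W := by
    refine ⟨fun u => ⟨c u / c u₀, hmem u⟩, ?_, fun u => rfl⟩
    simp only [div_eq_inv_mul, mul_smul, ← Finset.smul_sum, hc, smul_zero]
  have hne : (fun u => IsLocalRing.residue A ⟨c u / c u₀, hmem u⟩) ≠ 0 := by
    intro h
    have := congrFun h u₀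
    have e : (⟨c u₀ / c u₀, hmem u₀⟩ : A) = 1 := Subtype.ext (div_self hc0)
    simp only [e, map_one, Pi.zero_apply] at this
    exact one_ne_zero this
  obtain ⟨v, hv, hv0, hvf⟩ := H9.exists_fixed_vec τ (hG.to_subgroup ⊤) W hW h0 hne
  have hconst : ∀ u, v u = v 1 := fun u => by
    have := congrFun (hvf u⁻¹ trivial) 1
    simpa [τ] using this
  have hv1 : v 1 ≠ 0 := fun h => hv0 (funext fun u => by rw [hconst u, h]; rfl)
  obtain ⟨a, ha, ha'⟩ := W.smul_mem (v 1)⁻¹ hv
  refine ⟨fun u => 1 - a u, fun u => ?_, ?_⟩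
  · rw [← IsLocalRing.residue_eq_zero_iff, map_sub, map_one, ← ha' u]
    rw [Pi.smul_apply, hconst u, smul_eq_mul, inv_mul_cancel₀ hv1, sub_self]
  · simp only [AddSubgroupClass.coe_sub, OneMemClass.coe_one, sub_smul, one_smul,
      Finset.sum_sub_distrib, ha, sub_zero]

/-- A Sylow subgroup with trivial intersections acts freely on the cosets of an overgroup `H` of its
normalizer other than `H`. -/
theorem mem_of_TI [Finite G] {p : ℕ} [Fact p.Prime] (P : Sylow p G)
    (hTI : ∀ g : G, g ∉ Subgroup.normalizer ((P : Subgroup G) : Set G) →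
      (P : Subgroup G) ⊓ (MulAut.conj g • (P : Subgroup G)) = ⊥)
    {H : Subgroup G} (hH : Subgroup.normalizer ((P : Subgroup G) : Set G) ≤ H) {u g : G}
    (hu : u ∈ (P : Subgroup G)) (hu1 : u ≠ 1) (hg : g⁻¹ * u * g ∈ H) : g ∈ H := by
  have hPH : (P : Subgroup G) ≤ H := Subgroup.le_normalizer.trans hH
  have hQ : IsPGroup p (Subgroup.zpowers (g⁻¹ * u * g)) := by
    obtain ⟨k, hk⟩ := P.isPGroup' ⟨u, hu⟩
    have hk' : u ^ p ^ k = 1 := by simpa using congrArg Subtype.val hk
    rintro ⟨y, n, rfl⟩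
    refine ⟨k, Subtype.ext ?_⟩
    have : (g⁻¹ * u * g) ^ p ^ k = 1 := by
      have := conj_pow (a := g⁻¹) (b := u) (i := p ^ k)
      rw [inv_inv] at this
      rw [this, hk']; simp
    change ((g⁻¹ * u * g) ^ n) ^ p ^ k = 1
    rw [← zpow_natCast, ← zpow_mul, mul_comm, zpow_mul, zpow_natCast, this, one_zpow]
  obtain ⟨x, hx, hle⟩ := (H4.IsSylowIn.sylow_of_le P hPH).exists_conj_le hQ
    (Subgroup.zpowers_le.2 hg)
  have h1 : x * (g⁻¹ * u * g) * x⁻¹ ∈ (P : Subgroup G) :=
    hle (Subgroup.smul_mem_pointwise_smul _ (MulAut.conj x) _ (Subgroup.mem_zpowers _))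
  by_contra hgH
  have hn : g * x⁻¹ ∉ Subgroup.normalizer ((P : Subgroup G) : Set G) := fun h =>
    hgH (by simpa using H.mul_mem (hH h) hx)
  have : u ∈ (P : Subgroup G) ⊓ (MulAut.conj (g * x⁻¹) • (P : Subgroup G)) := by
    refine ⟨hu, ?_⟩
    have := Subgroup.smul_mem_pointwise_smul _ (MulAut.conj (g * x⁻¹)) _ h1
    have e : MulAut.conj (g * x⁻¹) • (x * (g⁻¹ * u * g) * x⁻¹) = u := by
      change (g * x⁻¹) * (x * (g⁻¹ * u * g) * x⁻¹) * (g * x⁻¹)⁻¹ = u
      group
    rwa [e] at this
  rw [hTI _ hn] at this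
  exact hu1 this

theorem eq_zero_of_TI [Fintype G] {p : ℕ} [hp : Fact p.Prime] (P : Sylow p G)
    (hTI : ∀ g : G, g ∉ Subgroup.normalizer ((P : Subgroup G) : Set G) →
      (P : Subgroup G) ⊓ (MulAut.conj g • (P : Subgroup G)) = ⊥)
    {H : Subgroup G} (hH : Subgroup.normalizer ((P : Subgroup G) : Set G) ≤ H)
    [FiniteDimensional ℂ V] (ρ : Representation ℂ G V)
    (hdim : finrank ℂ V < Nat.card (P : Subgroup G)) {w : V} (hw : ∀ h ∈ H, ρ h w = w)
    (h0 : ρ.invariants = ⊥) : w = 0 := by
  classical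
  obtain ⟨A, hA⟩ := exists_val hp.out
  have hPH : (P : Subgroup G) ≤ H := Subgroup.le_normalizer.trans hH
  let f : G ⧸ H → V := fun x => ρ x.out w
  have hf : ∀ g : G, f (g : G ⧸ H) = ρ g w := fun g => by
    obtain ⟨h, hh⟩ := QuotientGroup.mk_out_eq_mul H g
    simp only [f, hh, map_mul, Module.End.mul_apply, hw _ h.2]
  have hfs : ∀ (g : G) (x : G ⧸ H), f (g • x) = ρ g (f x) := fun g x => by
    induction x using QuotientGroup.induction_on with
    | H y => rw [MulAction.Quotient.smul_mk, hf, hf, smul_eq_mul, map_mul]; rfl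
  have hsum : ∑ x, f x = 0 := by
    have : ∑ x, f x ∈ ρ.invariants := fun g => by
      rw [map_sum]
      exact Fintype.sum_equiv (MulAction.toPerm g) _ _ fun x => (hfs g x).symm
    rw [h0] at this
    exact this
  let L : Submodule A V := Submodule.span A (Set.range fun g : G => ρ g w)
  have hL : ∀ g : G, ∀ v ∈ L, ρ g v ∈ L := fun g v hv => by
    induction hv using Submodule.span_induction with
    | mem x hx =>
      obtain ⟨y, rfl⟩ := hx
      exact Submodule.subset_span ⟨g * y, by simp [map_mul]⟩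
    | zero => simp
    | add x y _ _ hx hy => rw [map_add]; exact L.add_mem hx hy
    | smul a x _ hx =>
      have : ρ g (a • x) = a • ρ g x := (ρ g).map_smul (a : ℂ) x
      rw [this]; exact L.smul_mem a hx
  have hmL : ∀ g : G, ∀ v ∈ IsLocalRing.maximalIdeal A • L,
      ρ g v ∈ IsLocalRing.maximalIdeal A • L := fun g v hv => by
    refine Submodule.smul_induction_on hv (fun a ha x hx => ?_) (fun x y hx hy => ?_)
    · have : ρ g (a • x) = a • ρ g x := (ρ g).map_smul (a : ℂ) x
      rw [this]; exact Submodule.smul_mem_smul ha (hL g x hx)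
    · rw [map_add]; exact Submodule.add_mem _ hx hy
  let Q : Subgroup G := P
  let π : G ⧸ H → MulAction.orbitRel.Quotient Q (G ⧸ H) := Quotient.mk''
  have hfib := Finset.sum_fiberwise (Finset.univ : Finset (G ⧸ H)) π f
  rw [hsum, ← Finset.add_sum_erase _ _ (Finset.mem_univ (π ((1 : G) : G ⧸ H)))] at hfib
  have h1 : ∑ x with π x = π ((1 : G) : G ⧸ H), f x = w := by
    rw [Finset.sum_eq_single_of_mem ((1 : G) : G ⧸ H) (by simp)]
    · rw [hf]; simp
    · intro x hx hne
      exfalso
      obtain ⟨u, hu⟩ := Quotient.exact' (Finset.mem_filter.1 hx).2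
      apply hne
      rw [← hu]
      change ((u : G) • ((1 : G) : G ⧸ H)) = _
      rw [MulAction.Quotient.smul_mk, QuotientGroup.eq]
      simpa using hPH u.2
  have h2 : ∀ ω ∈ Finset.univ.erase (π ((1 : G) : G ⧸ H)),
      ∑ x with π x = ω, f x ∈ IsLocalRing.maximalIdeal A • L := by
    intro ω hω
    induction ω using Quotient.inductionOn' with
    | h y =>
    induction y using QuotientGroup.induction_on with
    | H g =>
    have hg : g ∉ H := fun h => by
      refine (Finset.mem_erase.1 hω).1 (congrArg π ?_)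
      rw [QuotientGroup.eq]; simpa using h
    have e : ∑ x with π x = Quotient.mk'' (g : G ⧸ H), f x = ∑ u : Q, ρ u (ρ g w) := by
      symm
      refine Finset.sum_bij (fun u _ => (u : G) • (g : G ⧸ H)) (fun u _ => ?_) ?_ ?_ ?_
      · exact Finset.mem_filter.2 ⟨Finset.mem_univ _, Quotient.sound' ⟨u, rfl⟩⟩
      · intro u _ u' _ h
        rw [MulAction.Quotient.smul_mk, MulAction.Quotient.smul_mk, QuotientGroup.eq] at h
        by_contra hne
        refine hg (mem_of_TI P hTI hH (u := (u : G)⁻¹ * u') (Q.mul_mem (Q.inv_mem u.2) u'.2) ?_ ?_)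
        · intro h'
          exact hne (Subtype.ext (inv_mul_eq_one.1 h'))
        · simpa [mul_assoc] using h
      · intro x hx
        obtain ⟨u, hu⟩ := Quotient.exact' (Finset.mem_filter.1 hx).2
        exact ⟨u, Finset.mem_univ _, hu⟩
      · intro u _
        rw [hfs, hf]
    obtain ⟨m, hm, hm'⟩ := sum_eq_nonunit hA P.isPGroup' (ρ.comp Q.subtype) hdim (ρ g w)
    rw [e]
    have e2 : ∑ u : Q, ρ u (ρ g w) = ∑ u : Q, (m u : ℂ) • ρ u (ρ g w) := hm'
    rw [e2]
    refine Submodule.sum_mem _ fun u _ => ?_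
    exact Submodule.smul_mem_smul (hm u) (hL _ _ (Submodule.subset_span ⟨g, rfl⟩))
  have hwm : w ∈ IsLocalRing.maximalIdeal A • L := by
    rw [h1] at hfib
    rw [eq_neg_of_add_eq_zero_left hfib]
    exact Submodule.neg_mem _ (Submodule.sum_mem _ h2)
  have hbot : L = ⊥ := by
    refine Submodule.eq_bot_of_le_smul_of_le_jacobson_bot (IsLocalRing.maximalIdeal A) L
      (Submodule.fg_span (Set.finite_range _)) ?_ (IsLocalRing.maximalIdeal_le_jacobson _)
    refine Submodule.span_le.2 ?_
    rintro _ ⟨g, rfl⟩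
    exact hmL g w hwm
  have : w ∈ L := Submodule.subset_span ⟨1, by simp⟩
  rw [hbot] at this
  exact this

open H6 in
theorem ip_res_one_of_TI [Fintype G] {p : ℕ} [hp : Fact p.Prime] (P : Sylow p G)
    (hTI : ∀ g : G, g ∉ Subgroup.normalizer ((P : Subgroup G) : Set G) →
      (P : Subgroup G) ⊓ (MulAut.conj g • (P : Subgroup G)) = ⊥)
    {H : Subgroup G} [Fintype H] (hH : Subgroup.normalizer ((P : Subgroup G) : Set G) ≤ H)
    {ζ : G → ℂ} (hζ : IsIrrCharacter G ζ) (h1 : ζ ≠ fun _ => 1)
    (hd : charDegree ζ < Nat.card (P : Subgroup G)) :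
    classInner (fun h : H => ζ h) (fun _ => 1) = 0 := by
  have h0 := classInner_irr_of_ne hζ isIrr_one h1
  obtain ⟨n, ρ, -, rfl⟩ := hζ
  rw [classInner_character_one, Nat.cast_eq_zero, Submodule.finrank_eq_zero] at h0
  have hdim : finrank ℂ (Fin n → ℂ) < Nat.card (P : Subgroup G) := by
    have : charDegree ρ.character = n := by simp [charDegree]
    simpa [this] using hd
  have := classInner_character_one (G := H) (ρ.comp H.subtype)
  refine Eq.trans this ?_
  rw [Nat.cast_eq_zero, Submodule.finrank_eq_zero, eq_bot_iff]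
  intro w hw
  exact eq_zero_of_TI P hTI hH ρ hdim (fun h hh => hw ⟨h, hh⟩) h0

open H6 ComplexConjugate in
/-- Norms of small characters do not change on restriction to an overgroup of the normalizer of a
Sylow subgroup with trivial intersections. -/
theorem ip_res_eq_of_TI [Fintype G] {p : ℕ} [hp : Fact p.Prime] (P : Sylow p G)
    (hTI : ∀ g : G, g ∉ Subgroup.normalizer ((P : Subgroup G) : Set G) →
      (P : Subgroup G) ⊓ (MulAut.conj g • (P : Subgroup G)) = ⊥)
    {H : Subgroup G} [Fintype H] (hH : Subgroup.normalizer ((P : Subgroup G) : Set G) ≤ H)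
    {χ : G → ℂ} (hχ : IsCharacter G χ) (hd : charDegree χ ^ 2 ≤ Nat.card (P : Subgroup G)) :
    classInner χ χ = classInner (fun h : H => χ h) (fun h : H => χ h) := by
  classical
  by_cases h0 : χ = 0
  · subst h0; simp [classInner]
  haveI : Fintype (IrrCharacter G) := Fintype.ofFinite _
  have hψ : IsCharacter G (χ * fun g => conj (χ g)) := isCharacter_mul hχ (isCharacter_conj hχ)
  obtain ⟨m, hm, hm'⟩ := isCharacter_exists_mult hψ
  have e1 : classInner χ χ = m (trivIrr G) := by
    rw [← hm]; simp [classInner, trivIrr]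
  have e2 : classInner (fun h : H => χ h) (fun h : H => χ h) =
      ∑ ζ : IrrCharacter G, (m ζ : ℂ) * classInner (fun h : H => ζ.1 h) (fun _ => 1) := by
    have : classInner (fun h : H => χ h) (fun h : H => χ h) =
        classInner (∑ ζ : IrrCharacter G, (m ζ : ℂ) • fun h : H => ζ.1 h) (fun _ => 1) := by
      have e : (∑ ζ : IrrCharacter G, (m ζ : ℂ) • fun h : H => ζ.1 h) =
          fun h : H => χ h * conj (χ h) := by
        funext h
        have := congrFun hm' h
        simp only [Pi.mul_apply, Finset.sum_apply, Pi.smul_apply] at this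
        simp only [Finset.sum_apply, Pi.smul_apply, this]
      rw [e]; simp [classInner]
    rw [this, classInner_sum_left]
    simp only [classInner_smul_left]
  have hm1 : m (trivIrr G) ≠ 0 := fun h => by
    rw [h, Nat.cast_zero, classInner_self_eq_zero] at e1
    exact h0 e1
  have hdeg : ∀ θ : G → ℂ, IsCharacter G θ → θ 1 = charDegree θ := fun θ hθ => by
    obtain ⟨n, hn⟩ := isCharacter_degree hθ
    simp [charDegree, hn]
  have e3 : charDegree χ ^ 2 = ∑ ζ : IrrCharacter G, m ζ * charDegree ζ.1 := by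
    have := congrFun hm' 1
    simp only [Pi.mul_apply, Finset.sum_apply, Pi.smul_apply, smul_eq_mul] at this
    rw [hdeg χ hχ, map_natCast] at this
    rw [Finset.sum_congr rfl fun ζ _ => by rw [hdeg ζ.1 (isCharacter_of_irr ζ.2)]] at this
    rw [sq]
    exact_mod_cast this
  rw [e1, e2, Finset.sum_eq_single_of_mem (trivIrr G) (Finset.mem_univ _)]
  · have : classInner (fun h : H => (trivIrr G).1 h) (fun _ => 1) = 1 := classInner_one_one
    rw [this, mul_one]
  · intro ζ _ hne
    by_cases hz : m ζ = 0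
    · simp [hz]
    rw [ip_res_one_of_TI P hTI hH ζ.2 (fun h => hne (Subtype.ext h)), mul_zero]
    have h2 : ∑ x ∈ ({trivIrr G, ζ} : Finset (IrrCharacter G)), m x * charDegree x.1 ≤
        ∑ ζ : IrrCharacter G, m ζ * charDegree ζ.1 :=
      Finset.sum_le_sum_of_subset (Finset.subset_univ _)
    rw [Finset.sum_pair hne.symm] at h2
    have h3 : charDegree (trivIrr G).1 = 1 := by simp [charDegree, trivIrr]
    rw [h3] at h2
    have h4 : charDegree ζ.1 ≤ m ζ * charDegree ζ.1 := Nat.le_mul_of_pos_left _ (Nat.pos_of_ne_zero hz)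
    omega

open H6 in
theorem mem_center_of_TI [Finite G] {p : ℕ} [hp : Fact p.Prime] (P : Sylow p G)
    (hTI : ∀ g : G, g ∉ Subgroup.normalizer ((P : Subgroup G) : Set G) →
      (P : Subgroup G) ⊓ (MulAut.conj g • (P : Subgroup G)) = ⊥)
    {χ : G → ℂ} (hχ : IsCharacter G χ) (hf : ∀ g : G, χ g = χ 1 → g = 1)
    (hd : charDegree χ ^ 2 ≤ Nat.card (P : Subgroup G)) {z : G}
    (hz : z ∈ Subgroup.normalizer ((P : Subgroup G) : Set G))
    (hc : ∀ n ∈ Subgroup.normalizer ((P : Subgroup G) : Set G), n * z = z * n) :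
    z ∈ Subgroup.center G := by
  classical
  haveI := Fintype.ofFinite G
  rw [Subgroup.mem_center_iff]
  intro y
  have : ⁅z, y⁆ ∈ charKer χ := by
    refine mem_charKer_of_forall_constituent (isClassFunction_of_isCharacter hχ) fun ψ hψ hne => ?_
    have hψc := isCharacter_of_irr hψ
    have hdeg : charDegree ψ ≤ charDegree χ := by
      obtain ⟨a, ha⟩ := isCharacter_degree (isCharacter_sub_irr hχ hψ hne)
      obtain ⟨b, hb⟩ := isCharacter_degree hψc
      rw [Pi.sub_apply, hb, sub_eq_iff_eq_add, ← Nat.cast_add] at ha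
      simp only [charDegree, ha, hb, Complex.natCast_re, Nat.floor_natCast]
      omega
    have h1 := ip_res_eq_of_TI P hTI le_rfl hψc ((Nat.pow_le_pow_left hdeg 2).trans hd)
    rw [classInner_irr_self hψ] at h1
    have h2 := isIrr_of_norm_one (isCharacter_restrict _ hψc) h1.symm
    have h3 : (⟨z, hz⟩ : Subgroup.normalizer ((P : Subgroup G) : Set G)) ∈ Subgroup.center _ :=
      Subgroup.mem_center_iff.2 fun n => Subtype.ext (hc n n.2)
    have h4 := (mem_charCenter_iff (isCharacter_of_irr h2)).1 (center_le_charCenter h2 h3)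
    exact commutator_mem_charKer (isClassFunction_of_irr hψ) ((mem_charCenter_iff hψc).2 h4) y
  have := hf _ ((mem_charKer_iff hχ).1 this)
  exact (commutatorElement_eq_one_iff_mul_comm.1 this).symm

theorem normal_of_TI_psolv [Finite G] {p : ℕ} [hp : Fact p.Prime] (hsolv : IsPSolvable p G)
    (P : Sylow p G)
    (hTI : ∀ g : G, g ∉ Subgroup.normalizer ((P : Subgroup G) : Set G) →
      (P : Subgroup G) ⊓ (MulAut.conj g • (P : Subgroup G)) = ⊥)
    {χ : G → ℂ} (hχ : IsCharacter G χ) (hf : ∀ g : G, χ g = χ 1 → g = 1)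
    (hd : charDegree χ ^ 2 ≤ Nat.card (P : Subgroup G)) : (P : Subgroup G).Normal := by
  classical
  by_cases hO : pCore p G = ⊥
  · by_cases hP : (P : Subgroup G) = ⊥
    · rw [hP]; infer_instance
    exfalso
    have hC := H5b.centralizer_pPrimeCore_le hsolv hO
    set K := pPrimeCore p G
    haveI : K.Characteristic := H2.pPrimeCore_characteristic
    haveI hKn : K.Normal := inferInstance
    have hKP : K ⊓ (P : Subgroup G) = ⊥ := by
      obtain ⟨k, hk⟩ := IsPGroup.iff_card.1 P.isPGroup'
      refine Subgroup.inf_eq_bot_of_coprime ?_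
      rw [hk]
      exact (H2.pPrimeCore_coprime).pow_right k
    haveI : Nontrivial (P : Subgroup G) := (Subgroup.nontrivial_iff_ne_bot _).2 hP
    haveI := IsPGroup.center_nontrivial P.isPGroup'
    obtain ⟨⟨⟨z, hzP⟩, hz⟩, hz1⟩ := exists_ne (1 : Subgroup.center (P : Subgroup G))
    have hz' : ∀ u ∈ (P : Subgroup G), u * z = z * u := fun u hu =>
      congrArg Subtype.val (Subgroup.mem_center_iff.1 hz ⟨u, hu⟩)
    set L := K ⊔ (P : Subgroup G)
    have hPL : (P : Subgroup G) ≤ L := le_sup_right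
    let Q : Sylow p L := P.subtype hPL
    have hQ : ∀ x : L, x ∈ (Q : Subgroup L) ↔ (x : G) ∈ (P : Subgroup G) := fun x => Iff.rfl
    have hN : ∀ x : L, x ∈ Subgroup.normalizer ((Q : Subgroup L) : Set L) ↔
        (x : G) ∈ Subgroup.normalizer ((P : Subgroup G) : Set G) := fun x => by
      have := Subgroup.subgroupOf_normalizer_eq (H := (P : Subgroup G)) hPL
      change x ∈ Subgroup.normalizer (((P : Subgroup G).subgroupOf L : Subgroup L) : Set L) ↔ _
      rw [← this]; rfl
    have hTI' : ∀ g : L, g ∉ Subgroup.normalizer ((Q : Subgroup L) : Set L) →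
        (Q : Subgroup L) ⊓ (MulAut.conj g • (Q : Subgroup L)) = ⊥ := by
      intro g hg
      rw [eq_bot_iff]
      rintro x ⟨hx1, hx2⟩
      have h := hTI g (fun h => hg ((hN g).2 h))
      have : (x : G) ∈ (P : Subgroup G) ⊓ (MulAut.conj (g : G) • (P : Subgroup G)) := by
        refine ⟨hx1, ?_⟩
        have h2 := Subgroup.mem_pointwise_smul_iff_inv_smul_mem.1 hx2
        exact Subgroup.mem_pointwise_smul_iff_inv_smul_mem.2 h2
      rw [h] at this
      exact Subtype.ext this
    have hcard : Nat.card (Q : Subgroup L) = Nat.card (P : Subgroup G) :=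
      Nat.card_congr (Subgroup.subgroupOfEquivOfLe hPL).toEquiv
    have hzc := mem_center_of_TI Q hTI' (H6.isCharacter_restrict L hχ)
      (fun g hg => Subtype.ext (hf g hg)) (by rw [hcard]; exact hd) (z := ⟨z, hPL hzP⟩)
      (Subgroup.le_normalizer ((hQ _).2 hzP)) fun n hn => by
        have hn' := (hN n).1 hn
        have hn2 : (n : G) ∈ ((K ⊔ (P : Subgroup G) : Subgroup G) : Set G) := n.2
        rw [Subgroup.normal_mul] at hn2
        obtain ⟨k, hk, u, hu, e⟩ := hn2
        have e : k * u = n := e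
        have hkN : k ∈ Subgroup.normalizer ((P : Subgroup G) : Set G) := by
          have := mul_mem hn' (inv_mem (Subgroup.le_normalizer hu))
          rwa [← e, mul_inv_cancel_right] at this
        have hkz : k * z * k⁻¹ * z⁻¹ ∈ K ⊓ (P : Subgroup G) := by
          refine ⟨?_, (P : Subgroup G).mul_mem ((Subgroup.mem_normalizer_iff.1 hkN z).1 hzP)
            ((P : Subgroup G).inv_mem hzP)⟩
          have := mul_mem hk (hKn.conj_mem _ (inv_mem hk) z)
          simpa [mul_assoc] using this
        rw [hKP, Subgroup.mem_bot, mul_inv_eq_one, mul_inv_eq_iff_eq_mul] at hkz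
        apply Subtype.ext
        change (n : G) * z = z * n
        rw [← e, mul_assoc, hz' u hu, ← mul_assoc, hkz, mul_assoc]
    have hzK : z ∈ K := hC (Subgroup.mem_centralizer_iff.2 fun k hk =>
      congrArg Subtype.val (Subgroup.mem_center_iff.1 hzc ⟨k, Subgroup.mem_sup_left hk⟩))
    have : z ∈ K ⊓ (P : Subgroup G) := ⟨hzK, hzP⟩
    rw [hKP] at this
    exact hz1 (Subtype.ext (Subtype.ext this))
  · rw [← Subgroup.normalizer_eq_top_iff, eq_top_iff]
    intro g _
    by_contra hg
    apply hO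
    rw [eq_bot_iff, ← hTI g hg]
    haveI : (pCore p G).Characteristic := H2.pCore_characteristic
    exact le_inf (H2.pCore_isPGroup.le_sylow_of_normal P)
      (H2.pCore_isPGroup.le_sylow_of_normal (g • P))

end Cfsg.Agent.H7
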