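import Mathlib
import Cfsg.Agent.H7.BR4
import Cfsg.Agent.H7.VR
import Cfsg.Agent.H7.Small
import Cfsg.Agent.H9.P1f

/-!
Self-centralizing elements of prime order `p` with exceptional characters of degree `p - e`.
-/

set_option autoImplicit false
set_option linter.unusedSectionVars false
set_option linter.unusedVariables false
set_option linter.style.haveILetI false

namespace Cfsg.Agent.H7

open Cfsg Subgroup Finset Cfsg.Agent.H24.D1 Cfsg.Agent.H23 Cfsg.Agent.H9.P1
open Cfsg.Agent.H8 (irrOne)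
open scoped MatrixGroups ComplexConjugate Pointwise

variable {G : Type*} [Group G] [Finite G] {p : ℕ} [hp : Fact p.Prime] {x : G}

theorem mul_pow_mem_NN {j : G} (hj : j ∈ NN x) (k : ℕ) : j * x ^ k ∈ NN x :=
  mul_mem hj (zp_le_NN x (npow_mem_zpowers x k))

theorem pow_mod_p (h : Syl1 p x) (k : ℕ) : x ^ (k % p) = x ^ k := by
  have := pow_mod_orderOf x k
  rwa [h.ord] at this

theorem exists_pow_val (h : Syl1 p x) {u : G} (hu : u ∈ zpowers x) :
    ∃ a : ZMod p, u = x ^ a.val := by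
  obtain ⟨k, hk⟩ := (Submonoid.mem_powers_iff _ _).1 (mem_powers_iff_mem_zpowers.2 hu)
  exact ⟨k, by rw [ZMod.val_natCast, pow_mod_p h, hk]⟩

theorem sum_coset_N (h : Syl1 p x) [Fintype (NN x)] {j : G} (hj : j ∈ NN x) (f : NN x → ℂ)
    (hf : ∀ n : NN x, j⁻¹ * n ∉ zpowers x → f n = 0) :
    ∑ n, f n = ∑ a : ZMod p, f ⟨j * x ^ a.val, mul_pow_mem_NN hj _⟩ := by
  symm
  refine Fintype.sum_of_injective (fun a : ZMod p => (⟨j * x ^ a.val, mul_pow_mem_NN hj _⟩ : NN x))
    (fun a b e => ?_) _ _ (fun n hn => hf n fun hc => hn ?_) fun a => rfl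
  · have e' : x ^ a.val = x ^ b.val := mul_left_cancel (congrArg Subtype.val e)
    rw [pow_eq_pow_iff_modEq, h.ord] at e'
    exact (ZMod.val_injective p) (e'.eq_of_lt_of_lt (ZMod.val_lt a) (ZMod.val_lt b))
  · obtain ⟨k, hk⟩ := exists_pow_val h hc
    refine ⟨k, Subtype.ext ?_⟩
    simp only [← hk, mul_inv_cancel_left]

variable (p) in
/-- The part fixed by `x` as a function on the normalizer. -/
noncomputable def rho (x : G) (φ : G → ℂ) : NN x → ℂ :=
  fun n => (p : ℂ)⁻¹ * ∑ a : ZMod p, φ (x ^ a.val * n)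

theorem char_rho (h : Syl1 p x) {φ : G → ℂ} (hφ : IsCharacter G φ) :
    IsCharacter (NN x) (rho p x φ) := char_fix h hφ

theorem rho_one (φ : G → ℂ) : rho p x φ 1 = ml p x 0 φ := by simp [rho, ml]

theorem rho_out (h : Syl1 p x) {φ : G → ℂ} (hφ : IsClassFunction G φ) {n : NN x}
    (hc : (n : G) ∉ CC x) : rho p x φ n = φ n := by
  rw [rho, sum_congr rfl fun a _ => show φ (x ^ a.val * n) = φ n by
    obtain ⟨u, -, hu⟩ := h.exists_conj_eq n.2 hc (npow_mem_zpowers x a.val)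
    rw [cf_mul_comm hφ, ← hu, hφ], sum_const, card_univ, ZMod.card,
    nsmul_eq_mul, inv_mul_cancel_left₀ p_ne]

theorem rho_mul (h : Syl1 p x) (φ : G → ℂ) (b : ZMod p) (n : NN x) {m : NN x}
    (hm : (m : G) = x ^ b.val * n) : rho p x φ m = rho p x φ n := by
  simp only [rho, hm]
  congr 1
  refine Fintype.sum_equiv (Equiv.addRight b) _ _ fun a => ?_
  rw [← mul_assoc, ← pow_add, Equiv.coe_addRight, ZMod.val_add, pow_mod_p h]

theorem ml_zero_eq (φ : G → ℂ) : p * ml p x 0 φ = ∑ a : ZMod p, φ (x ^ a.val) := by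
  simp [mul_ml]

theorem SC_TI (h : Syl1 p x) (g : G) (hg : g ∉ normalizer ((h.syl : Subgroup G) : Set G)) :
    (h.syl : Subgroup G) ⊓ (MulAut.conj g • (h.syl : Subgroup G)) = ⊥ := by
  rw [h.coe_syl] at hg ⊢
  rw [eq_bot_iff]
  rintro u ⟨h1, h2⟩
  by_contra hu
  have h3 : g⁻¹ * u * g ∈ zpowers x := by
    simpa using mem_pointwise_smul_iff_inv_smul_mem.1 h2
  exact hg (h.mem_NN_of_conj (zp_le_CC x h1) (by rw [h.orderOf_eq h1 hu]) (zp_le_CC x h3))

section Neg

variable (h : SC p x) {M : Ideal AlgInt} (hM : IsPModular p M) {X : Finset (IrrCharacter G)}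
  {ψ : (ZMod p)ˣ → IrrCharacter G} {ε : IrrCharacter G → ℤ}
  (F : Fam h.syl1 (principalBlock M G) (fun _ => 1) X ψ ε (-1)) (h1 : irrOne G ∈ X)
  (hd : ∀ j, charDegree (ψ j).1 + ee x = p) (he : 2 * ee x < p) (he2 : 2 ≤ ee x)

include F hd in
open Classical in
theorem N_ml (j : (ZMod p)ˣ) (k : ZMod p) :
    ml p x k (ψ j).1 = if ∃ α ∈ h.syl1.al.range, k = j * α then 0 else 1 := by
  have h2 := H9.P1.Fam.ml_psi F j k
  have h3 : (charDegree (ψ j).1 : ℂ) + ee x = p := by exact_mod_cast hd j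
  rw [H8.irr_one_eq] at h2
  apply mul_left_cancel₀ (p_ne (p := p))
  rw [h2]
  split_ifs <;> push_cast <;> linear_combination h3

include F hd in
theorem N_ml0 (j : (ZMod p)ˣ) : ml p x 0 (ψ j).1 = 1 := by
  rw [N_ml h F hd, if_neg]
  rintro ⟨α, -, e⟩
  exact (j * α).ne_zero (by simpa using e.symm)

include F hd in
theorem N_sum (j : (ZMod p)ˣ) : ∑ a : ZMod p, (ψ j).1 (x ^ a.val) = p := by
  rw [← ml_zero_eq, N_ml0 h F hd, mul_one]

include hd he he2 in
theorem N_not_dvd (j : (ZMod p)ˣ) : ¬ p ∣ charDegree (ψ j).1 := fun hc => by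
  have := Nat.le_of_dvd (deg_pos _) hc
  have := hd j
  omega

include hM F hd he he2 in
theorem N_star (j : (ZMod p)ˣ) : ∃ k, star (ψ j).1 = (ψ k).1 := by
  have h2 : charDegree (star (ψ j).1) = charDegree (ψ j).1 :=
    charDegree_eq (by rw [Pi.star_apply, H8.irr_one_eq]; simp)
  have h3 := h.mem_principal hM (χ := ⟨_, irr_star (ψ j).2⟩) (h2 ▸ N_not_dvd hd he he2 j)
  rcases (F.mem _).1 h3 with hX | ⟨k, hk⟩
  · exfalso
    have h4 := H9.P1.Fam.degX F rfl h.syl1.card_AA_one hX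
    have h5 := hd j
    simp only [h2] at h4
    rcases F.sε _ hX with e | e <;> rw [e] at h4
    · have : (p : ℤ) ∣ ee x + 1 := ⟨2 - m0 p x (star (ψ j).1), by
        rw [mul_sub, h4]; omega⟩
      have := Int.le_of_dvd (by omega) this
      omega
    · have : (0 : ℤ) ≤ p * m0 p x (star (ψ j).1) := by positivity
      omega
  · exact ⟨k, (congrArg Subtype.val hk).symm⟩

include hM F hd he he2 in
theorem N_real_reg (j : (ZMod p)ˣ) {g : G} (hg : ¬ p ∣ orderOf g) :
    conj ((ψ j).1 g) = (ψ j).1 g := by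
  obtain ⟨k, hk⟩ := N_star h hM F hd he he2 j
  exact (congrFun hk g).trans (F.reg_eq k j hg)

include h in
theorem N_reg {n : G} (hn : n ∈ NN x) (hc : n ∉ zpowers x) : ¬ p ∣ orderOf n := fun hd =>
  hc (h.cent ▸ h.syl1.mem_CC_of_dvd hn hd)

include F hd in
theorem N_rho_one : rho p x (ψ 1).1 1 = 1 := by rw [rho_one, N_ml0 h F hd]

include F hd in
theorem N_rho_pow (a : ZMod p) {n : NN x} (hn : (n : G) = x ^ a.val) : rho p x (ψ 1).1 n = 1 := by
  rw [rho_mul h.syl1 _ a 1 (by simpa using hn), N_rho_one h F hd]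

include F in
theorem N_rho_out (j : (ZMod p)ˣ) {n : NN x} (hc : (n : G) ∉ zpowers x) :
    (ψ j).1 n = rho p x (ψ 1).1 n := by
  rw [rho_out h.syl1 (irr_cf (ψ 1).2) (h.cent ▸ hc), F.reg_eq j 1 (N_reg h n.2 hc)]

include hM F hd he he2 in
theorem N_rho_real (n : NN x) : conj (rho p x (ψ 1).1 n) = rho p x (ψ 1).1 n := by
  by_cases hc : (n : G) ∈ zpowers x
  · obtain ⟨k, hk⟩ := exists_pow_val h.syl1 hc
    rw [N_rho_pow h F hd k hk, map_one]
  · rw [← N_rho_out h F 1 hc, N_real_reg h hM F hd he he2 1 (N_reg h n.2 hc)]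

include hM F hd he he2 in
theorem N_rho_sq (n : NN x) : rho p x (ψ 1).1 n * rho p x (ψ 1).1 n = 1 := by
  have := linear_mul_conj (char_rho h.syl1 (irr_char (ψ 1).2)) (N_rho_one h F hd) n
  rwa [N_rho_real h hM F hd he he2] at this

include F hd in
theorem N_R_psi (j : (ZMod p)ˣ) : ip (fun n : NN x => (ψ j).1 n) (rho p x (ψ 1).1) = 1 := by
  haveI := Fintype.ofFinite (NN x)
  have hl := linear_mul_conj (char_rho h.syl1 (irr_char (ψ 1).2)) (N_rho_one h F hd)
  have h2 := sum_coset_N h.syl1 (one_mem _)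
    (fun n => (ψ j).1 n * conj (rho p x (ψ 1).1 n) - 1) fun n hn => by
      rw [N_rho_out h F j (by simpa using hn), hl, sub_self]
  rw [sum_congr rfl (g := fun a : ZMod p => (ψ j).1 (x ^ a.val) - 1) fun a _ => by
    rw [N_rho_pow h F hd a (by simp)]; simp, sum_sub_distrib, sum_sub_distrib, N_sum h F hd] at h2
  simp only [sum_const, card_univ, ZMod.card, nsmul_eq_mul, mul_one, sub_self,
    ← Nat.card_eq_fintype_card] at h2
  rw [Nat.card_zmod, sub_self, sub_eq_zero] at h2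
  rw [ip_def, h2, inv_mul_cancel₀ (card_ne_zero' _)]

include F h1 hd he2 in
theorem N_rho_ne : rho p x (ψ 1).1 ≠ 1 := by
  classical
  intro e
  haveI := Fintype.ofFinite G
  have h2 := ip_res_one_of_TI h.syl1.syl (SC_TI h.syl1) (H := NN x)
    (by rw [h.syl1.coe_syl]) (ψ 1).2 (fun e => PB.psi_ne F h1 1 (Subtype.ext e))
    (by rw [h.syl1.coe_syl, h.syl1.card_zp]; have := hd 1; omega)
  have h3 := N_R_psi h F hd 1
  rw [e, ip_eq_classInner] at h3
  exact one_ne_zero (h3.symm.trans h2)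

include F h1 hd he2 in
theorem N_rho_sum [Fintype (NN x)] : ∑ n, rho p x (ψ 1).1 n = 0 := by
  rw [sum_eq_card_mul_ip, ip_irr_ne (irr_of_char_one (char_rho h.syl1 (irr_char (ψ 1).2))
    (N_rho_one h F hd)) irr_one (N_rho_ne h F h1 hd he2), mul_zero]

include hM F h1 hd he he2 in
theorem N_even : Even (ee x) := by
  obtain ⟨n, hn⟩ := Function.ne_iff.1 (N_rho_ne h F h1 hd he2)
  obtain ⟨lam, hl⟩ := H6.exists_linear_of_degree_one (char_rho h.syl1 (irr_char (ψ 1).2))
    (N_rho_one h F hd)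
  have h2 := N_rho_sq h hM F hd he he2 n
  rw [hl] at hn h2
  have h3 : orderOf (lam n) = 2 := by
    refine orderOf_eq_prime ?_ fun e => hn (by simp [e])
    rw [pow_two]; exact Units.ext h2
  have h4 : 2 ∣ p * ee x := by
    rw [← h.card_NN, ← h3]
    exact (orderOf_map_dvd lam n).trans (orderOf_dvd_natCard n)
  rcases (Nat.Prime.dvd_mul Nat.prime_two).1 h4 with e | e
  · have := (Nat.prime_dvd_prime_iff_eq Nat.prime_two hp.out).1 e
    omega
  · exact even_iff_two_dvd.2 e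

include hM F h1 hd he he2 in
theorem N_real (j : (ZMod p)ˣ) : star (ψ j).1 = (ψ j).1 := by
  funext g
  by_cases hg : p ∣ orderOf g
  · obtain ⟨i, hi, hN⟩ := SC_exists_inv_NN h (N_even h hM F h1 hd he he2)
    obtain ⟨s, hs, -⟩ := SC_sing h hg
    have h2 := SC_inv_inverts h (by omega) hi hN hs
    change conj _ = _
    rw [← irr_cf (ψ j).2 g s, ← char_inv (irr_char (ψ j).2), ← h2, irr_cf (ψ j).2]
  · exact N_real_reg h hM F hd he he2 j hg

include hM F h1 hd he he2 in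
theorem N_R_mul (i j : (ZMod p)ˣ) :
    ee x * ip (fun n : NN x => ((ψ i).1 * (ψ j).1) n) (rho p x (ψ 1).1) =
      ml p x 0 ((ψ i).1 * (ψ j).1) - 1 := by
  haveI := Fintype.ofFinite (NN x)
  have h2 := sum_coset_N h.syl1 (one_mem _)
    (fun n => ((ψ i).1 * (ψ j).1) n * conj (rho p x (ψ 1).1 n) - rho p x (ψ 1).1 n) fun n hn => by
      rw [Pi.mul_apply, N_rho_out h F j (by simpa using hn), N_rho_out h F i (by simpa using hn),
        N_rho_sq h hM F hd he he2, N_rho_real h hM F hd he he2, one_mul, sub_self]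
  rw [sum_congr rfl (g := fun a : ZMod p => ((ψ i).1 * (ψ j).1) (x ^ a.val) - 1) fun a _ => by
    rw [N_rho_pow h F hd a (by simp)]; simp, sum_sub_distrib, sum_sub_distrib, ← ml_zero_eq,
    N_rho_sum h F h1 hd he2, sub_zero] at h2
  simp only [sum_const, card_univ, ZMod.card, nsmul_eq_mul, mul_one] at h2
  rw [ip_def, h2, h.card_NN]
  have := p_ne (p := p)
  have : (ee x : ℂ) ≠ 0 := Nat.cast_ne_zero.2 (by omega)
  push_cast
  field_simp

include hM F h1 hd he he2 in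
theorem N_ml_sq (i : (ZMod p)ˣ) : ml p x 0 ((ψ i).1 * (ψ i).1) = charDegree (ψ i).1 := by
  have h2 := ml_mul_star (p := p) (x := x) (ψ i).1 (ψ i).1
  rw [N_real h hM F h1 hd he he2] at h2
  rw [h2, ← H8.irr_one_eq, ← sum_ml_one (p := p) (x := x) (ψ i).1]
  refine sum_congr rfl fun k _ => ?_
  rw [N_ml h F hd]; split_ifs <;> simp

include hM F h1 hd he he2 in
theorem N_ml_ne {i j : (ZMod p)ˣ} (hij : ψ i ≠ ψ j) :
    ml p x 0 ((ψ i).1 * (ψ j).1) = p - 2 * ee x := by
  have h2 := ml_mul_star (p := p) (x := x) (ψ i).1 (ψ j).1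
  rw [N_real h hM F h1 hd he he2] at h2
  have h3 : (charDegree (ψ i).1 : ℂ) + ee x = p := by exact_mod_cast hd i
  have h4 : (charDegree (ψ j).1 : ℂ) + ee x = p := by exact_mod_cast hd j
  rw [h2, sum_congr rfl (g := fun k => ml p x k (ψ i).1 + ml p x k (ψ j).1 - 1) fun k _ => ?_,
    sum_sub_distrib, sum_add_distrib, sum_ml_one, sum_ml_one, H8.irr_one_eq, H8.irr_one_eq]
  · simp only [sum_const, card_univ, ZMod.card, nsmul_eq_mul, mul_one]
    linear_combination h3 + h4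
  · rw [N_ml h F hd, N_ml h F hd]
    split_ifs with a b
    · exfalso
      obtain ⟨α, hα, a⟩ := a
      obtain ⟨β, hβ, b⟩ := b
      apply hij
      rw [F.inj, h.syl1.AA_one]
      have : i * α = j * β := Units.ext (by simpa using a.symm.trans b)
      have e : j⁻¹ * i = β * α⁻¹ := by
        rw [inv_mul_eq_iff_eq_mul, ← mul_assoc, ← this, mul_inv_cancel_right]
      rw [e]
      exact mul_mem hβ (inv_mem hα)
    all_goals simp

include F hd in
open Classical in
theorem N_sum_le {φ : G → ℂ} (hφ : IsCharacter G φ) {r : ℕ}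
    (hr : ip (fun n : NN x => φ n) (rho p x (ψ 1).1) = r) :
    ∑ χ ∈ univ.image ψ, mu φ χ ≤ r := by
  have h2 := char_sub_sum hφ (univ.image ψ) (mu φ) fun χ _ => ⟨_, mu_eq hφ χ, le_rfl⟩
  obtain ⟨s, hs⟩ := ip_char_nat (char_comp (NN x).subtype h2) (char_rho h.syl1 (irr_char (ψ 1).2))
  have e : (fun n : NN x => (φ - ∑ χ ∈ univ.image ψ, (mu φ χ : ℂ) • χ.1) ((NN x).subtype n)) =
      (fun n : NN x => φ n) - ∑ χ ∈ univ.image ψ, (mu φ χ : ℂ) • fun n : NN x => χ.1 n := by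
    funext n; simp [Finset.sum_apply]
  rw [e, ip_sub_left, ip_sum_left, hr, sum_congr rfl (g := fun χ => (mu φ χ : ℂ)) fun χ hχ => by
    obtain ⟨j, -, rfl⟩ := mem_image.1 hχ
    rw [ip_smul_left, N_R_psi h F hd, mul_one], sub_eq_iff_eq_add] at hs
  have : r = s + ∑ χ ∈ univ.image ψ, mu φ χ := by exact_mod_cast hs
  omega

end Neg

end Cfsg.Agent.H7
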