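import Mathlib
import Cfsg.Agent.H7.BT1

/-!
Exceptional characters of degree `p - e`: the number of exceptional characters.
-/

set_option autoImplicit false
set_option linter.unusedSectionVars false
set_option linter.unusedVariables false
set_option linter.style.haveILetI false

namespace Cfsg.Agent.H7

open Cfsg Subgroup Finset Cfsg.Agent.H24.D1 Cfsg.Agent.H23 Cfsg.Agent.H9.P1
open Cfsg.Agent.H8 (irrOne)
open scoped MatrixGroups ComplexConjugate Pointwise

variable {G : Type*} [Group G] [Finite G] {p : ℕ} [hp : Fact p.Prime] {x : G}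

theorem two_ne_zmod (h2 : p ≠ 2) : (2 : ZMod p) ≠ 0 := fun e => by
  have : ((2 : ℕ) : ZMod p) = 0 := by exact_mod_cast e
  rw [ZMod.natCast_eq_zero_iff] at this
  exact h2 ((Nat.prime_dvd_prime_iff_eq hp.out Nat.prime_two).1 this)

theorem pow_val_mul_self (h : Syl1 p x) (a : ZMod p) :
    x ^ a.val * x ^ a.val = x ^ (2 * a).val := by
  rw [two_mul, ZMod.val_add, pow_mod_p h, pow_add]

theorem vanish_of_dvd (h : Syl1 p x) {χ : IrrCharacter G} (hχ : p ∣ charDegree χ.1) {g : G}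
    (hg : p ∣ orderOf g) : χ.1 g = 0 :=
  defectZero_vanish hp.out χ.2 (by
    rw [h.fact]
    exact (hp.out.dvd_iff_one_le_factorization (deg_pos χ).ne').1 hχ) hg

section Neg

variable (h : SC p x) {M : Ideal AlgInt} (hM : IsPModular p M) {X : Finset (IrrCharacter G)}
  {ψ : (ZMod p)ˣ → IrrCharacter G} {ε : IrrCharacter G → ℤ}
  (F : Fam h.syl1 (principalBlock M G) (fun _ => 1) X ψ ε (-1)) (h1 : irrOne G ∈ X)
  (hd : ∀ j, charDegree (ψ j).1 + ee x = p) (he : 2 * ee x < p) (he2 : 2 ≤ ee x)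

include F hd in
theorem N_rho_mul (m n : NN x) :
    rho p x (ψ 1).1 (m * n) = rho p x (ψ 1).1 m * rho p x (ψ 1).1 n := by
  obtain ⟨lam, hl⟩ := H6.exists_linear_of_degree_one (char_rho h.syl1 (irr_char (ψ 1).2))
    (N_rho_one h F hd)
  simp [hl]

include hM F h1 hd he he2 in
theorem N_R_sq (i : (ZMod p)ˣ) {j : NN x} (hj : orderOf (j : G) = 2) :
    ee x * ip (fun n : NN x => (ψ i).1 (n * n)) (rho p x (ψ 1).1) =
      (charDegree (ψ i).1 - 1) * rho p x (ψ 1).1 j := by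
  classical
  haveI := Fintype.ofFinite (NN x)
  have hp2 : p ≠ 2 := by omega
  set f : NN x → ℂ := fun n => ((ψ i).1 (n * n) - 1) * rho p x (ψ 1).1 n with hf
  have h2 := sum_coset_N h.syl1 (one_mem _) (fun n => if (n : G) ∈ zpowers x then f n else 0)
    fun n hn => if_neg (by simpa using hn)
  have h3 := sum_coset_N h.syl1 j.2 (fun n => if (n : G) ∈ zpowers x then 0 else f n)
    fun n hn => by
      split_ifs with hc
      · rfl
      have h4 : ((n * n : NN x) : G) ∉ zpowers x := fun h5 => by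
        have h6 : (n : G) * n = 1 := by
          by_contra h6
          exact N_reg h n.2 hc ((h.syl1.orderOf_eq h5 h6).symm ▸ by
            rw [Subgroup.coe_mul, ← pow_two]; exact orderOf_pow_dvd 2)
        exact hn ((SC_inv_iff h hp2 hj j.2).1
          ⟨H20.orderOf_two_of h6 fun e => hc (e ▸ one_mem _), n.2⟩)
      have h5 := N_rho_out h F i h4
      rw [N_rho_mul h F hd, N_rho_sq h hM F hd he he2, Subgroup.coe_mul] at h5
      simp only [hf, h5, sub_self, zero_mul]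
  rw [sum_congr rfl (g := fun a : ZMod p => (ψ i).1 (x ^ (2 * a).val) - 1) fun a _ => by
    rw [if_pos (by simp), hf]
    simp only [one_mul]
    rw [N_rho_pow h F hd a (by simp), pow_val_mul_self h.syl1, mul_one], sum_sub_distrib,
    Fintype.sum_equiv (Equiv.mulLeft₀ 2 (two_ne_zmod hp2))
      (fun a : ZMod p => (ψ i).1 (x ^ (2 * a).val)) (fun a : ZMod p => (ψ i).1 (x ^ a.val)) (fun a => rfl), N_sum h F hd] at h2
  rw [sum_congr rfl (g := fun a : ZMod p => (charDegree (ψ i).1 - 1) * rho p x (ψ 1).1 j)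
    fun a _ => by
      have h4 := ((SC_inv_iff h hp2 hj j.2 (k := j * x ^ a.val)).2 (by simp)).1
      rw [if_neg fun hc => SC_inv_notMem h hp2 h4 (zp_le_CC x hc), hf]
      simp only [H20.mul_self_of_orderOf_two h4, H8.irr_one_eq]
      congr 1
      rw [show (⟨j * x ^ a.val, mul_pow_mem_NN j.2 _⟩ : NN x) =
        j * ⟨x ^ a.val, zp_le_NN x (npow_mem_zpowers x _)⟩ from rfl, N_rho_mul h F hd,
        N_rho_pow h F hd a (n := ⟨x ^ a.val, _⟩) rfl, mul_one]] at h3
  have h4 : ∑ n, f n = p * ((charDegree (ψ i).1 - 1) * rho p x (ψ 1).1 j) := by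
    rw [sum_congr rfl (g := fun n : NN x => (if (n : G) ∈ zpowers x then f n else 0) +
      if (n : G) ∈ zpowers x then 0 else f n) fun n _ => by split_ifs <;> simp, sum_add_distrib,
      h2, h3]
    simp [ZMod.card]
  simp only [hf, sub_mul, one_mul, sum_sub_distrib, N_rho_sum h F h1 hd he2, sub_zero] at h4
  rw [ip_def]
  simp only [N_rho_real h hM F hd he he2]
  rw [h4, h.card_NN]
  have := p_ne (p := p)
  have : (ee x : ℂ) ≠ 0 := Nat.cast_ne_zero.2 (by omega)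
  push_cast
  field_simp

include h F in
theorem N_sq_sing (hp2 : p ≠ 2) (i : (ZMod p)ˣ) {g : G} (hg : p ∣ orderOf g) :
    (ψ i).1 (g * g) = (ψ (Units.mk0 2 (two_ne_zmod hp2) * i)).1 g := by
  obtain ⟨s, hs, hs1⟩ := SC_sing h hg
  obtain ⟨a, ha⟩ := exists_pow_val h.syl1 hs
  have ha0 : a ≠ 0 := by rintro rfl; simp at ha; exact hs1 (by simp [ha])
  rw [← irr_cf (ψ i).2 (g * g) s, ← irr_cf (ψ _).2 g s, show s * (g * g) * s⁻¹ =
    (s * g * s⁻¹) * (s * g * s⁻¹) by group, ha, pow_val_mul_self h.syl1,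
    H9.P1.Fam.psi_pow F _ ha0, H9.P1.Fam.psi_pow F _ (mul_ne_zero (two_ne_zmod hp2) ha0)]
  simp only [Units.val_mul, Units.val_mk0]
  congr 2; ring

include F in
open Classical in
theorem N_Theta {g : G} (hg : p ∣ orderOf g) : (∑ χ ∈ univ.image ψ, χ.1) g = 1 := by
  have h2 := F.sum_valY hg
  rw [h.syl1.Lf_one hg, sum_comp (fun χ : IrrCharacter G => χ.1 g) ψ,
    sum_congr rfl (g := fun χ => (ee x : ℂ) * χ.1 g) fun χ hχ => ?_, ← mul_sum] at h2
  · apply mul_left_cancel₀ (Nat.cast_ne_zero.2 (ee_pos x).ne' : (ee x : ℂ) ≠ 0)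
    rw [Finset.sum_apply, h2]; simp
  · obtain ⟨j, -, rfl⟩ := mem_image.1 hχ
    rw [nsmul_eq_mul]
    congr 1
    have h3 := sum_ite_mem h.syl1.al.range j
    rw [sum_boole, ← h.syl1.relIndex_eq] at h3
    rw [← h3]
    congr 2
    ext k
    simp only [mem_filter, mem_univ, true_and, F.inj, h.syl1.AA_one]

include hM F h1 hd he he2 in
theorem N_ip_one (i j : (ZMod p)ˣ) : ip ((ψ i).1 * (ψ j).1) 1 = ip (ψ i).1 (ψ j).1 := by
  rw [ip_mul_right, one_mul, N_real h hM F h1 hd he he2]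

include F in
theorem N_diff (i j k : (ZMod p)ˣ) {g : G} (hg : ¬ p ∣ orderOf g) :
    ((ψ i).1 * (ψ j).1 - (ψ i).1 * (ψ k).1) g = 0 := by
  simp [F.reg_eq j k hg]

include hM F h1 hd he he2 in
open Classical in
theorem N_D {i l : (ZMod p)ˣ} (hil : ψ i ≠ ψ l) :
    ∑ χ ∈ univ.image ψ, mu ((ψ i).1 * (ψ l).1) χ + 1 =
      ∑ χ ∈ univ.image ψ, mu ((ψ i).1 * (ψ i).1) χ := by
  have h2 := ip_congr_sing (fun g hg => N_diff h F i l i hg) (w := 1) fun g hg => N_Theta h F hg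
  rw [ip_sub_left, ip_sub_left, N_ip_one h hM F h1 hd he he2, N_ip_one h hM F h1 hd he he2,
    ip_irr_self (ψ i).2, ip_irr_ne (ψ i).2 (ψ l).2 fun e => hil (Subtype.ext e), ip_sum_right,
    ip_sum_right] at h2
  simp only [mu_eq (char_mul (irr_char (ψ _).2) (irr_char (ψ _).2))] at h2
  have : ((∑ χ ∈ univ.image ψ, mu ((ψ i).1 * (ψ l).1) χ + 1 : ℕ) : ℂ) =
      (∑ χ ∈ univ.image ψ, mu ((ψ i).1 * (ψ i).1) χ : ℕ) := by
    push_cast; linear_combination h2
  exact_mod_cast this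

include hM F h1 hd he he2 in
open Classical in
theorem N_D_le {t : ℕ} (ht : t * ee x = p - 1) (i : (ZMod p)ˣ) :
    ∑ χ ∈ univ.image ψ, mu ((ψ i).1 * (ψ i).1) χ + 1 ≤ t := by
  have h2 := N_R_mul h hM F h1 hd he he2 i i
  obtain ⟨r, hr⟩ := ip_char_nat (char_comp (NN x).subtype
    (char_mul (irr_char (ψ i).2) (irr_char (ψ i).2))) (char_rho h.syl1 (irr_char (ψ 1).2))
  have hr' : ip (fun n : NN x => ((ψ i).1 * (ψ i).1) n) (rho p x (ψ 1).1) = r := hr
  have h3 := N_sum_le h F hd (char_mul (irr_char (ψ i).2) (irr_char (ψ i).2)) hr'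
  rw [hr', N_ml_sq h hM F h1 hd he he2, eq_sub_iff_add_eq] at h2
  have h4 : ee x * r + 1 = charDegree (ψ i).1 := by exact_mod_cast h2
  have h5 := hd i
  have h6 : ee x * (r + 1) = ee x * t := by rw [mul_comm _ t, ht, mul_add]; omega
  have := Nat.eq_of_mul_eq_mul_left (ee_pos x) h6
  omega

include hM F h1 hd he he2 in
open Classical in
theorem N_D_one {j : NN x} (hj : orderOf (j : G) = 2) (hρ : rho p x (ψ 1).1 j = 1)
    (i : (ZMod p)ˣ) : ∑ χ ∈ univ.image ψ, mu ((ψ i).1 * (ψ i).1) χ = 1 := by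
  have hp2 : p ≠ 2 := by omega
  obtain ⟨t, ht⟩ := exists_t h.syl1
  have hΛ := H6.isCharacter_altSq (irr_char (ψ i).2)
  set Λ : G → ℂ := fun g => ((ψ i).1 g ^ 2 - (ψ i).1 (g * g)) / 2 with hΛd
  have e1 : (fun g => (ψ i).1 (g * g)) = (ψ i).1 * (ψ i).1 - (2 : ℂ) • Λ := by
    funext g; simp only [hΛd, Pi.sub_apply, Pi.mul_apply, Pi.smul_apply, smul_eq_mul]; ring
  have h2 : ip (fun n : NN x => Λ n) (rho p x (ψ 1).1) = (0 : ℕ) := by
    have h3 := N_R_sq h hM F h1 hd he he2 i hj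
    have h4 := N_R_mul h hM F h1 hd he he2 i i
    rw [N_ml_sq h hM F h1 hd he he2] at h4
    rw [show (fun n : NN x => (ψ i).1 (n * n)) = (fun n : NN x => ((ψ i).1 * (ψ i).1) n) -
      (2 : ℂ) • fun n : NN x => Λ n from funext fun n => congrFun e1 n, ip_sub_left, ip_smul_left,
      hρ, mul_sub, h4] at h3
    apply mul_left_cancel₀ (Nat.cast_ne_zero.2 (ee_pos x).ne' : (ee x : ℂ) ≠ 0)
    push_cast
    linear_combination (-1 / 2 : ℂ) * h3
  have h3 : ∀ k, ip Λ (ψ k).1 = 0 := fun k => by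
    have := N_sum_le h F hd hΛ h2
    rw [Nat.le_zero, sum_eq_zero_iff] at this
    rw [mu_eq hΛ, this _ (mem_image_of_mem _ (mem_univ k)), Nat.cast_zero]
  set m := Units.mk0 2 (two_ne_zmod hp2) * i
  have h4 : ∀ k, ψ k ≠ ψ m → mu ((ψ i).1 * (ψ i).1) (ψ k) + 1 = mu ((ψ i).1 * (ψ i).1) (ψ m) :=
    fun k hk => by
      have h5 := ip_congr_sing (u := (ψ k).1 - (ψ m).1) (fun g hg => by simp [F.reg_eq k m hg])
        fun g hg => N_sq_sing h F hp2 i hg
      rw [← ip_conj_symm, ← ip_conj_symm (ψ m).1] at h5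
      have h6 := (starRingEnd ℂ).injective h5
      rw [e1, ip_sub_right, ip_sub_left, ip_sub_left, ip_smul_left, ip_smul_left, h3, h3,
        ip_sub_right, ip_irr_self (ψ m).2, ip_irr_ne (ψ m).2 (ψ k).2 fun e => hk (Subtype.ext e.symm),
        mu_eq (char_mul (irr_char (ψ _).2) (irr_char (ψ _).2)),
        mu_eq (char_mul (irr_char (ψ _).2) (irr_char (ψ _).2))] at h6
      have : ((mu ((ψ i).1 * (ψ i).1) (ψ k) + 1 : ℕ) : ℂ) = mu ((ψ i).1 * (ψ i).1) (ψ m) := by
        push_cast; linear_combination h6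
      exact_mod_cast this
  have h5 := N_D_le h hM F h1 hd he he2 ht i
  have h6 := card_image_psi F ht
  change t * ee x = p - 1 at ht
  have hm := mem_image_of_mem ψ (mem_univ m)
  have h7 : ∑ χ ∈ (univ.image ψ).erase (ψ m), (mu ((ψ i).1 * (ψ i).1) χ + 1) =
      (t - 1) * mu ((ψ i).1 * (ψ i).1) (ψ m) := by
    rw [sum_congr rfl (g := fun _ => mu ((ψ i).1 * (ψ i).1) (ψ m)) fun χ hχ => by
      obtain ⟨k, -, rfl⟩ := mem_image.1 (mem_erase.1 hχ).2
      exact h4 k (mem_erase.1 hχ).1, sum_const, card_erase_of_mem hm, h6, smul_eq_mul]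
  rw [sum_add_distrib, sum_const, card_erase_of_mem hm, h6, smul_eq_mul, mul_one] at h7
  rw [← add_sum_erase _ _ hm] at h5 ⊢
  have ht2 : 2 ≤ t := by
    by_contra hc
    have : t * ee x ≤ 1 * ee x := Nat.mul_le_mul_right _ (by omega)
    omega
  obtain ⟨s, rfl⟩ : ∃ s, t = s + 1 := ⟨t - 1, by omega⟩
  rw [Nat.add_sub_cancel] at h7
  generalize mu ((ψ i).1 * (ψ i).1) (ψ m) = a at h5 h7 ⊢
  generalize ∑ χ ∈ (univ.image ψ).erase (ψ m), mu ((ψ i).1 * (ψ i).1) χ = b at h5 h7 ⊢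
  have : a ≤ 1 := by nlinarith
  interval_cases a <;> omega

include hM F h1 hd he he2 in
theorem N_t_two {j : NN x} (hj : orderOf (j : G) = 2) (hρ : rho p x (ψ 1).1 j = 1) :
    2 * ee x + 1 = p := by
  classical
  obtain ⟨t, ht⟩ := exists_t h.syl1
  have h0 : ∀ i l k, ψ i ≠ ψ l → ip ((ψ i).1 * (ψ l).1) (ψ k).1 = 0 := fun i l k hil => by
    have h2 := N_D h hM F h1 hd he he2 hil
    rw [N_D_one h hM F h1 hd he he2 hj hρ, Nat.add_eq_right, sum_eq_zero_iff] at h2
    rw [mu_eq (char_mul (irr_char (ψ _).2) (irr_char (ψ _).2)),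
      h2 _ (mem_image_of_mem _ (mem_univ k)), Nat.cast_zero]
  have h2 : ∀ l m, ψ 1 ≠ ψ l → ψ 1 ≠ ψ m → ψ l = ψ m := fun l m hl hm => by
    have h3 : (ψ 1).1 * (ψ l).1 - (ψ 1).1 * (ψ m).1 = 0 := by
      refine cf_eq_zero (cf_sub (cf_mul (irr_cf (ψ _).2) (irr_cf (ψ _).2))
        (cf_mul (irr_cf (ψ _).2) (irr_cf (ψ _).2))) fun χ hχ => ?_
      by_cases hc : p ∣ charDegree χ
      · rw [ip_congr_sing (fun g hg => N_diff h F 1 l m hg) (w := 0)
          fun g hg => vanish_of_dvd h.syl1 (χ := ⟨χ, hχ⟩) hc hg, ip_zero_right]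
      rcases (F.mem _).1 (h.mem_principal hM (χ := ⟨χ, hχ⟩) hc) with hX | ⟨k, hk⟩
      · have := ip_of_reg F (fun g hg => N_diff h F 1 l m hg) hX
        rw [this, ip_sub_left, N_ip_one h hM F h1 hd he he2, N_ip_one h hM F h1 hd he he2,
          ip_irr_ne (ψ 1).2 (ψ l).2 fun e => hl (Subtype.ext e),
          ip_irr_ne (ψ 1).2 (ψ m).2 fun e => hm (Subtype.ext e), sub_self, mul_zero]
      · rw [show χ = (ψ k).1 from (congrArg Subtype.val hk).symm, ip_sub_left, h0 _ _ _ hl,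
          h0 _ _ _ hm, sub_self]
    refine Subtype.ext (funext fun g => ?_)
    by_cases hg : p ∣ orderOf g
    · have h4 := congrFun h3 g
      rw [Pi.sub_apply, Pi.mul_apply, Pi.mul_apply, ← mul_sub, Pi.zero_apply, mul_eq_zero,
        sub_eq_zero] at h4
      refine h4.resolve_left fun e => N_not_dvd hd he he2 1
        (dvd_degree_of_vanish (k := 1) hp.out (irr_char (ψ 1).2) ?_ e)
      rw [pow_one, ← order_eq h hg, pow_orderOf_eq_one]
    · exact F.reg_eq l m hg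
  have h3 : t ≤ 2 := by
    rw [← card_image_psi F ht]
    by_contra hc
    have h4 : 1 < ((univ.image ψ).erase (ψ 1)).card := by
      rw [card_erase_of_mem (mem_image_of_mem ψ (mem_univ 1))]; omega
    obtain ⟨a, ha, b, hb, hab⟩ := one_lt_card.1 h4
    obtain ⟨l, -, rfl⟩ := mem_image.1 (mem_erase.1 ha).2
    obtain ⟨m, -, rfl⟩ := mem_image.1 (mem_erase.1 hb).2
    exact hab (h2 l m (mem_erase.1 ha).1.symm (mem_erase.1 hb).1.symm)
  change t * ee x = p - 1 at ht
  interval_cases t <;> omega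

end Neg

end Cfsg.Agent.H7
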