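import Mathlib
import Cfsg.Agent.H7.BT2

/-!
Exceptional characters of degree `(p + 1) / 2`.
-/

set_option autoImplicit false
set_option linter.unusedSectionVars false
set_option linter.unusedVariables false
set_option linter.style.haveILetI false

namespace Cfsg.Agent.H7

open Cfsg Subgroup Finset Cfsg.Agent.H24.D1 Cfsg.Agent.H23 Cfsg.Agent.H9.P1
open Cfsg.Agent.H8 (irrOne)
open scoped MatrixGroups ComplexConjugate Pointwise

variable {G : Type*} [Group G] [Finite G] {p : ℕ} [hp : Fact p.Prime] {x : G}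

theorem exists_central_invol (T : Sylow 2 G) (h : 2 ∣ Nat.card G) :
    ∃ z : G, orderOf z = 2 ∧ (T : Subgroup G) ≤ CC z := by
  haveI : Nontrivial (T : Subgroup G) := (nontrivial_iff_ne_bot _).2 (T.ne_bot_of_dvd_card h)
  haveI := IsPGroup.center_nontrivial T.isPGroup'
  obtain ⟨n, hn0, hn⟩ := (T.isPGroup'.to_subgroup (center T)).nontrivial_iff_card.1 inferInstance
  obtain ⟨z, hz⟩ := exists_prime_orderOf_dvd_card' (G := center (T : Subgroup G)) 2
    (hn ▸ dvd_pow_self 2 hn0.ne')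
  refine ⟨z, by rw [orderOf_coe, orderOf_coe, hz], fun t ht => mem_CC.2 ?_⟩
  exact (congrArg Subtype.val (mem_center_iff.1 z.2 ⟨t, ht⟩)).symm

theorem char_invol_int {χ : G → ℂ} (hχ : IsCharacter G χ) {i : G} (hi : orderOf i = 2) :
    ∃ k : ℤ, χ i = k := by
  obtain ⟨k, hk⟩ := char_invol hχ (H20.mul_self_of_orderOf_two hi)
  exact ⟨charDegree χ - 2 * k, by rw [hk, char_one_eq hχ]; push_cast; rfl⟩

section Neg

variable (h : SC p x) {M : Ideal AlgInt} (hM : IsPModular p M) {X : Finset (IrrCharacter G)}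
  {ψ : (ZMod p)ˣ → IrrCharacter G} {ε : IrrCharacter G → ℤ}
  (F : Fam h.syl1 (principalBlock M G) (fun _ => 1) X ψ ε (-1)) (h1 : irrOne G ∈ X)
  (hd : ∀ j, charDegree (ψ j).1 + ee x = p) (he : 2 * ee x + 1 = p) (he2 : 2 ≤ ee x)
  (hG : commutator G = ⊤) (hev : ∀ χ ∈ X, charDegree χ.1 + 1 ≠ 2 * p)

include F hG in
theorem N_pos {χ : IrrCharacter G} (hχ : χ ∈ X) (hne : χ ≠ irrOne G) (hε : ε χ = 1) :
    ∃ m, m0 p x χ.1 = m + 2 ∧ charDegree χ.1 = p + 1 + m * p := by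
  have h2 := H9.P1.Fam.degX F rfl h.syl1.card_AA_one hχ
  have h3 := deg_ne_one hG hne
  rw [hε] at h2
  obtain ⟨m, hm⟩ : ∃ m, m0 p x χ.1 = m + 2 := ⟨m0 p x χ.1 - 2, by
    by_contra hc
    have : (p : ℤ) * m0 p x χ.1 ≤ p * 1 := by gcongr; omega
    omega⟩
  refine ⟨m, hm, ?_⟩
  rw [hm] at h2
  push_cast at h2
  have : (charDegree χ.1 : ℤ) = p + 1 + m * p := by linear_combination -h2
  exact_mod_cast this

include hM F h1 hd he he2 hG hev in
open Classical in
theorem N_two_deg : (∀ χ ∈ X, ε χ = -1 → charDegree χ.1 + 1 = p) ∧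
    (∀ χ ∈ X, χ ≠ irrOne G → ε χ = 1 → charDegree χ.1 = p + 1) ∧
    2 * #{χ ∈ X.erase (irrOne G) | ε χ = 1} + 2 = ee x := by
  have he' : 2 * ee x < p := by omega
  have ht : 2 * ee x = p - 1 := by omega
  obtain ⟨l, hl⟩ := exists_psi_ne F ht (by norm_num)
  have hφ := char_mul (irr_char (ψ 1).2) (irr_char (ψ l).2)
  set φ := (ψ 1).1 * (ψ l).1 with hφd
  have h0 : m0 p x φ = 1 := by
    have h2 := N_ml_ne h hM F h1 hd he' he2 hl.symm
    rw [m0_eq h.syl1 hφ] at h2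
    have h3 : (2 * ee x + 1 : ℂ) = p := by exact_mod_cast he
    have : (m0 p x φ : ℂ) = (1 : ℕ) := by rw [h2]; push_cast; linear_combination -h3
    exact_mod_cast this
  have hψ : ∀ k, mu φ (ψ k) = 0 := fun k => by
    have h2 := N_D h hM F h1 hd he' he2 hl.symm
    have h3 := N_D_le h hM F h1 hd he' he2 ht 1
    rw [← hφd] at h2
    have h4 : ∑ χ ∈ univ.image ψ, mu φ χ = 0 := by omega
    exact sum_eq_zero_iff.1 h4 _ (mem_image_of_mem _ (mem_univ k))
  have hle : ∀ χ, mu φ χ * m0 p x χ.1 ≤ 1 := fun χ => by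
    rw [← h0, m0_expand h.syl1 hφ]
    exact single_le_sum (f := fun χ : IrrCharacter G => mu φ χ * m0 p x χ.1)
      (fun _ _ => Nat.zero_le _) (mem_univ χ)
  have hneg : ∀ χ ∈ X, ε χ = -1 → 1 ≤ mu φ χ := fun χ hχ hε => by
    have h2 := ip_of_reg F (fun g hg => N_diff h F 1 l 1 hg) hχ
    rw [ip_sub_left, ip_sub_left, N_ip_one h hM F h1 hd he' he2, N_ip_one h hM F h1 hd he' he2,
      ip_irr_self (ψ 1).2, ip_irr_ne (ψ 1).2 (ψ l).2 fun e => hl (Subtype.ext e.symm), hε,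
      mu_eq hφ, mu_eq (char_mul (irr_char (ψ 1).2) (irr_char (ψ 1).2))] at h2
    have : (mu φ χ : ℂ) = (mu ((ψ 1).1 * (ψ 1).1) χ + 1 : ℕ) := by
      push_cast at h2 ⊢; linear_combination h2
    have : mu φ χ = mu ((ψ 1).1 * (ψ 1).1) χ + 1 := by exact_mod_cast this
    omega
  have hdn : ∀ χ ∈ X, ε χ = -1 → charDegree χ.1 + 1 = p := fun χ hχ hε => by
    have h2 := H9.P1.Fam.degX F rfl h.syl1.card_AA_one hχ
    have h3 : m0 p x χ.1 ≤ 1 := (Nat.le_mul_of_pos_left _ (hneg χ hχ hε)).trans (hle χ)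
    have h4 := hev χ hχ
    rw [hε] at h2
    interval_cases m0 p x χ.1 <;> omega
  have hsum : ∑ χ ∈ X with ε χ = -1, (mu φ χ * (p - 1) : ℤ) = ee x ^ 2 := by
    have h2 := m0_expand h.syl1 hφ
    have h3 := deg_expand hφ
    have h4 : charDegree φ = (ee x + 1) ^ 2 := charDegree_eq (by
      rw [hφd, Pi.mul_apply, H8.irr_one_eq, H8.irr_one_eq, show charDegree (ψ 1).1 = ee x + 1 by
        have := hd 1; omega, show charDegree (ψ l).1 = ee x + 1 by have := hd l; omega]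
      push_cast; ring)
    rw [h0] at h2
    rw [h4] at h3
    have h5 : ∑ χ : IrrCharacter G, (mu φ χ * (charDegree χ.1 - p * m0 p x χ.1) : ℤ) =
        ee x ^ 2 := by
      simp only [mul_sub, sum_sub_distrib, mul_left_comm _ (p : ℤ), ← mul_sum]
      zify at h2 h3 he
      rw [← h2, ← h3, ← he]; ring
    rw [← h5]
    symm
    refine (sum_subset (subset_univ _) fun χ _ hχ => ?_).symm.trans (sum_congr rfl fun χ hχ => ?_)
    · by_cases hc : p ∣ charDegree χ.1
      · have h6 := ml_const h.syl1 (φ := χ.1) (c := 0)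
          (fun a ha => vanish_of_dvd h.syl1 hc (dvd_pow h.syl1 ha)) 0
        rw [m0_eq h.syl1 (irr_char χ.2), H8.irr_one_eq] at h6
        have : (p * m0 p x χ.1 : ℤ) = charDegree χ.1 := by
          have : (p * m0 p x χ.1 : ℂ) = charDegree χ.1 := by simpa using h6
          exact_mod_cast this
        rw [this, sub_self, mul_zero]
      rcases (F.mem _).1 (h.mem_principal hM hc) with hX | ⟨k, rfl⟩
      · have hε : ε χ = 1 := (F.sε χ hX).resolve_right fun e => hχ (mem_filter.2 ⟨hX, e⟩)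
        by_cases hc1 : χ = irrOne G
        · rw [hc1, show mu φ (irrOne G) = 0 by
            have := mu_eq hφ (irrOne G)
            rw [show (irrOne G).1 = 1 from rfl, N_ip_one h hM F h1 hd he' he2,
              ip_irr_ne (ψ 1).2 (ψ l).2 fun e => hl (Subtype.ext e.symm)] at this
            exact_mod_cast this.symm]
          simp
        · obtain ⟨m, hm, -⟩ := N_pos h F hG hX hc1 hε
          have h6 := hle χ
          rw [hm] at h6
          rw [show mu φ χ = 0 by nlinarith]; simp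
      · rw [hψ]; simp
    · obtain ⟨hX, hε⟩ := mem_filter.1 hχ
      rw [H9.P1.Fam.degX F rfl h.syl1.card_AA_one hX, hε]; ring
  have hb : #{χ ∈ X | ε χ = -1} * (p - 1 : ℤ) ≤ ee x ^ 2 := by
    rw [← hsum, ← nsmul_eq_mul, ← sum_const]
    refine sum_le_sum fun χ hχ => le_mul_of_one_le_left (by omega) ?_
    exact_mod_cast hneg χ (mem_filter.1 hχ).1 (mem_filter.1 hχ).2
  have hc := sum_X_split F h1 (fun _ => 1)
  simp only [sum_const, smul_eq_mul, mul_one, F.card₀] at hc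
  have hr := F.deg_rel 1
  rw [sum_X_split F h1, PB.eps_one F h1, deg_one,
    sum_congr rfl (s₁ := {χ ∈ X | ε χ = -1}) (g := fun _ => 1 - (p : ℤ)) fun χ hχ => by
      obtain ⟨hX, hε⟩ := mem_filter.1 hχ
      have := hdn χ hX hε
      rw [hε]; omega,
    sum_congr rfl (s₁ := {χ ∈ X.erase (irrOne G) | ε χ = 1})
      (g := fun χ => (charDegree χ.1 - (p + 1) : ℤ) + (p + 1)) fun χ hχ => by
      rw [(mem_filter.1 hχ).2]; ring, sum_add_distrib, sum_const, sum_const] at hr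
  have hge : ∀ χ ∈ ({χ ∈ X.erase (irrOne G) | ε χ = 1} : Finset _),
      (0 : ℤ) ≤ charDegree χ.1 - (p + 1) := fun χ hχ => by
    obtain ⟨hX, hε⟩ := mem_filter.1 hχ
    obtain ⟨m, -, hm⟩ := N_pos h F hG (mem_erase.1 hX).2 (mem_erase.1 hX).1 hε
    rw [hm]; push_cast; nlinarith [Int.natCast_nonneg (m * p)]
  have hs := sum_nonneg hge
  have hz := sum_eq_zero_iff_of_nonneg hge
  have hd1 := hd 1
  change ee x = _ at hc
  generalize ∑ χ ∈ X.erase (irrOne G) with ε χ = 1, (charDegree χ.1 - (p + 1) : ℤ) = s at hr hs hz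
  generalize #{χ ∈ X.erase (irrOne G) | ε χ = 1} = a at hc hr ⊢
  generalize #{χ ∈ X | ε χ = -1} = b at hc hr hb
  simp only [nsmul_eq_mul] at hr
  zify at hc hd1 he he2
  have h2 : 2 * (b : ℤ) ≤ ee x := by nlinarith
  have h3 : (ee x : ℤ) ≤ 2 * b := by nlinarith
  have h4 : s = 0 := by
    have e1 : (a : ℤ) = b - 1 := by omega
    have e2 : (p : ℤ) = 4 * b + 1 := by omega
    have e3 : (charDegree (ψ 1).1 : ℤ) = 2 * b + 1 := by omega
    rw [e1, e2, e3] at hr
    push_cast at hr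
    linear_combination -hr
  refine ⟨hdn, fun χ hχ hne hε => ?_, by omega⟩
  have := hz.1 h4 χ (mem_filter.2 ⟨mem_erase.2 ⟨hne, hχ⟩, hε⟩)
  omega

include hM F h1 hd he he2 hG hev in
theorem N_two_bound (hZ : ∀ χ : IrrCharacter G, χ ≠ irrOne G → H6.charCenter χ.1 = ⊥)
    {m : ℕ} (hm : p = 2 ^ m + 1) (T : Sylow 2 G) :
    Nat.card T ^ 2 * (p * (p + 1)) ≤ Nat.card G * (4 * ee x) := by
  classical
  have he' : 2 * ee x < p := by omega
  have hp2 : p ≠ 2 := by omega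
  obtain ⟨hdn, hdp, ha⟩ := N_two_deg h hM F h1 hd he he2 hG hev
  obtain ⟨A, hA, hAs, ha⟩ : ∃ A : Finset (IrrCharacter G),
      (∀ χ ∈ A, χ ∈ X ∧ χ ≠ irrOne G ∧ ε χ = 1) ∧ (∀ f : IrrCharacter G → ℂ,
        (∀ χ ∈ X, ε χ = -1 → f χ = 0) → ∑ χ ∈ X, f χ = f (irrOne G) + ∑ χ ∈ A, f χ) ∧
      2 * #A + 2 = ee x :=
    ⟨_, fun χ hχ => ⟨(mem_erase.1 (mem_filter.1 hχ).1).2, (mem_erase.1 (mem_filter.1 hχ).1).1,
      (mem_filter.1 hχ).2⟩, fun f hf => by
        rw [sum_X_split F h1, sum_eq_zero (s := {χ ∈ X | ε χ = -1}) fun χ hχ =>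
          hf χ (mem_filter.1 hχ).1 (mem_filter.1 hχ).2, add_zero], ha⟩
  haveI := Fintype.ofFinite G
  obtain ⟨j₀, hj₀, -⟩ := SC_exists_inv_NN h (N_even h hM F h1 hd he' he2)
  obtain ⟨z, hz, hT⟩ := exists_central_invol T (hj₀ ▸ orderOf_dvd_natCard j₀)
  have hβ : ∀ χ ∈ X, ε χ = -1 → χ.1 z = 0 := fun χ hχ hε => by
    have h2 := hdn χ hχ hε
    refine (H6.eq_zero_or_mem_charCenter_of_coprime χ.2 (H8.irr_one_eq χ) ?_).resolve_right
      fun hc => ?_
    · rw [show charDegree χ.1 = 2 ^ m by omega]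
      exact Nat.Coprime.pow_left _ ((Nat.Prime.coprime_iff_not_dvd Nat.prime_two).2 fun hc =>
        T.not_dvd_index (hc.trans (index_dvd_of_le hT)))
    · rw [hZ χ (by rintro rfl; rw [PB.eps_one F h1] at hε; omega)] at hc
      exact H20.ne_one_of_orderOf_two hz hc
  choose v hv using fun χ : IrrCharacter G => char_invol_int (irr_char χ.2) hz
  set S : ℝ := 1 + ∑ χ ∈ A, (v χ : ℝ) ^ 2 / (p + 1) +
    (v (ψ 1) : ℝ) ^ 2 / (ee x + 1) with hS
  have hpair : ∀ i : G, IsConj z i → (Nat.card (CC i) : ℂ) * Nat.card (CC i) *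
      H6.pairSum i i (Phi p x (fun _ => 1) (1 : (ZMod p)ˣ)) = (Nat.card G : ℂ) ^ 2 * S :=
    fun i hi => by
      have hv' : ∀ χ : IrrCharacter G, χ.1 i = v χ := fun χ => by
        rw [← cf_isConj (irr_cf χ.2) hi, hv]
      rw [F.phi, H6.pairSum_sub, H6.pairSum_sum, H6.pairSum_smul, mul_sub, mul_sum,
        sum_congr rfl (g := fun χ => (Nat.card G : ℂ) ^ 2 * (ε χ * (v χ * v χ / charDegree χ.1)))
        fun χ _ => by
          rw [H6.pairSum_smul, mul_left_comm, H6.card_mul_pairSum_irr _ _ χ.2, hv', H8.irr_one_eq]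
          ring, mul_left_comm, H6.card_mul_pairSum_irr _ _ (ψ 1).2, hv', H8.irr_one_eq, ← mul_sum,
        hAs _ fun χ hχ hε => by rw [← hv, hβ χ hχ hε]; simp,
        PB.eps_one F h1, deg_one, ← hv (irrOne G), H8.irrOne_apply,
        sum_congr rfl (s₁ := A) (g := fun χ => (v χ : ℂ) ^ 2 / (p + 1)) fun χ hχ => by
          obtain ⟨hX, hne, hε⟩ := hA χ hχ
          rw [hε, hdp χ hX hne hε]; push_cast; ring,
        show charDegree (ψ 1).1 = ee x + 1 by have := hd 1; omega, hS]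
      push_cast; ring
  have hS1 : 1 ≤ S := by
    rw [hS, add_assoc]
    refine le_add_of_nonneg_right (add_nonneg (sum_nonneg fun _ _ => ?_) ?_) <;> positivity
  have hG0 := card_ne_zero' G
  obtain ⟨y, hy⟩ : ∃ y, y⁻¹ * z * y ∈ NN x := by
    by_contra hc
    have h2 := hpair z (IsConj.refl z)
    rw [SC_pairSum_zero h hz (not_exists.1 hc) fun g hg => h.syl1.Phi_reg _ _ hg, mul_zero] at h2
    refine mul_ne_zero (pow_ne_zero 2 hG0) ?_ h2.symm
    exact_mod_cast (by linarith : S ≠ 0)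
  set j := y⁻¹ * z * y
  have hzj : IsConj z j := isConj_iff.2 ⟨y⁻¹, by simp [j]⟩
  have hj : orderOf j = 2 := (H20.orderOf_conj' y z).trans hz
  have hjC := SC_inv_notMem h hp2 hj
  have h2 := hpair j hzj
  rw [SC_pairSum h hp2 hj hy fun g hg => h.syl1.Phi_reg _ _ hg,
    show ip (Phi p x (fun _ => 1) (1 : (ZMod p)ˣ)) 1 = 1 from h.syl1.ip_Phi_one 1] at h2
  have h3 : (Nat.card (CC j) : ℝ) ^ 2 * p = Nat.card G * S := by
    have : (Nat.card (CC j) : ℂ) ^ 2 * p = Nat.card G * S := by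
      apply mul_left_cancel₀ hG0
      linear_combination h2
    exact_mod_cast this
  have hsq : ∀ (χ : IrrCharacter G) (k : ℕ), ml p x 0 χ.1 = k → (v χ : ℝ) ^ 2 ≤ k ^ 2 :=
    fun χ k hk => by
      have := norm_le_ml h.syl1 (irr_char χ.2) hk hy hjC
      rw [← cf_isConj (irr_cf χ.2) hzj, hv, Complex.norm_intCast] at this
      exact sq_le_sq' (abs_le.1 this).1 (abs_le.1 this).2
  have hp0 : (0 : ℝ) < p + 1 := by positivity
  have hpe : (p : ℝ) = 2 * ee x + 1 := by exact_mod_cast he.symm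
  have hS2 : S * (p + 1) ≤ 4 * ee x := by
    have h4 : ∑ χ ∈ A, (v χ : ℝ) ^ 2 ≤
        #A * 4 := by
      rw [← nsmul_eq_mul, ← sum_const]
      refine sum_le_sum fun χ hχ => ?_
      obtain ⟨hX, hne, hε⟩ := hA χ hχ
      obtain ⟨k, hk, hk'⟩ := N_pos h F hG hX hne hε
      rw [hdp χ hX hne hε] at hk'
      have hk0 : k = 0 := by
        have := hp.out.pos
        have : k * p = 0 := by omega
        exact (Nat.mul_eq_zero.1 this).resolve_right (by omega)
      have := hsq χ 2 (by rw [m0_eq h.syl1 (irr_char χ.2), hk, hk0])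
      norm_num at this ⊢
      exact this
    have h5 := hsq (ψ 1) 1 (by rw [N_ml0 h F hd, Nat.cast_one])
    have h6 : (2 * #A + 2 : ℝ) = ee x := by exact_mod_cast ha
    have h7 : (v (ψ 1) : ℝ) ^ 2 / (ee x + 1) * (p + 1) = 2 * (v (ψ 1) : ℝ) ^ 2 := by
      rw [hpe]; field_simp; ring
    rw [hS, add_mul, add_mul, h7, ← sum_div, div_mul_cancel₀ _ hp0.ne']
    push_cast at h5
    linarith
  have h4 : Nat.card T ≤ Nat.card (CC j) := by
    rw [← H20.card_cent_of_isConj hzj]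
    exact card_le_of_le hT
  have h5 : (Nat.card T : ℝ) ^ 2 * (p * (p + 1)) ≤ Nat.card G * (4 * ee x) := by
    calc (Nat.card T : ℝ) ^ 2 * (p * (p + 1)) ≤ (Nat.card (CC j) : ℝ) ^ 2 * (p * (p + 1)) := by
          gcongr
      _ = Nat.card G * (S * (p + 1)) := by rw [← mul_assoc, h3, mul_assoc]
      _ ≤ _ := by gcongr
  exact_mod_cast h5

end Neg

end Cfsg.Agent.H7
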