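import Mathlib
import Cfsg.Prelude.Def_E6
import Cfsg.Agent.H12.Tb
import Cfsg.Agent.H12.Orb
import Cfsg.Agent.H17.ChIso

/-!
The root elements of `E₆` on the 27-dimensional module.
-/

set_option autoImplicit false
set_option maxRecDepth 100000

namespace Cfsg.Agent.H7.Cub

open Cfsg.Lie Cfsg.Agent.H12 Matrix

/-- packed table -/
def cN (r i : ℕ) : ℕ :=
  Nat.mod (Nat.shiftRight 0x3a39381413123433323130502e2d4d2b2a4a2827262524232221205453523736353433323130112e2d0e2b2a0b28272625242322212050393811363534333231302f2e2d462b2a072827265224231321204d39380e36353433323130062e2d2c2b2a482827262552232213204a39380b36353433323130472e2d082b2a292827262524522221133a103837513534333231302f2e2d032b2a445227262524231421203a0d38374e353433323130432e2d2c2b2a052852262524232214203a0a38374b353433323130042e2d452b2a292827522524232221143a393843063534333231302f2e2d2c122a582827262524234d10203a393804473534333231302f522d182b2a292827262524234a21103a39384508353433321230582e2d2c2b2a29282726252423224a0d03463837363534333231302f2e2d2c2b12552827262524230e512044073837363534333231302f2e52152b2a29282726252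4230b21510548383736353433323112552e2d2c2b2a29282726252423220b4e58393855363552333231302f2e2d2c2b2a292827262524230807063a183837153534123231302f2e2d2c2b2a292827262524234544433a391037365134333231302f2e2d002b2a411327265424232221203a390d37364e3433323130402e2d2c2b2a022813262554232221203a390a37364b3433323130012e2d422b2a292827132524542221203a393840360634333231302f2e2d2c532a192827260d50232221203a393801364734333231302f132d592b2a292827260a24502221203a39384236083433325330192e2d2c2b2a29282726250a4d2221203a393837004334333231302f2e2d2c542a1a0d50262524232221203a393837410434333231302f142d5a2b2a290a27502524232221203a393837024534333254301a2e2d2c2b2a29280a4d2524232221203a39381a191834333250302f4d2d2c4a2a2928272625242322212000394637363534333231302f2e2d2c2b53162827264e112322212041390737363534333231302f2e13562b2a292827264b24112221200239483736353433323153162e2d2c2b2a29282726254b0e22212019393816363513333231302f2e2d2c2b2a292827264847462221203a004337363534333231302f2e2d2c2b14570e51262524232221203a410437363534333231302f2e54172b2a290b27512524232221203a02453736353433323114572e2d2c2b2a29280b4e2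524232221203a393837363534333231302f2e2d2c51504f0627260324230021203a393837363534333231302f11100f2b2a294727264424234121203a393837363534333231302f2e2d2c0e0d0c2846262543232240203a393837363534333231302f0b0a092b2a292827472524442221413a39383736353433320e0d0c2e2d2c2b2a292848262545232242203a39383736353433324b4a492e2d2c2b2a292827082524052221023a39384f363510333231302f462d2c072a292827265824231921203a39380c36354d333246302f2e2d2c082a292827262518232259203a39384936350a333247302f082d2c2b2a292827262524582221193a1a3837173534143231302f2e2d2c2b2a294544432524232221203a3938370f3534503231302f032d2c442a295827262524231a21203a3938374c35340d3203302f2e2d2c452a29281826252423225a203a3938370935344a3204302f452d2c2b2a2928275825242322211a17161537363534333231512f2e4e2c2b4b292827262524232221200f393837363551333231302f2e462c2b07292827265524231621204c39383736350e333231462f2e2d2c2b08292827262515232256200939383736354b333231472f2e082c2b2a292827262524552221163a0f3837363534513231302f2e432c2b04291527262524235721203a4c38373635340e3231432f2e2d2c2b05292855262524232217203a0938373635344b3231442f2e052c2b2a2928271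52524232221573a393837363543063231302f2e2d2c5518292827262524234c0f203a393837363544073231302f55182c2b2a2928272625242309214f3a393837363545083255182f2e2d2c2b2a2928272625242322490c3a391937361634331331302f2e2d2c2b2a292827264241402221203a395a37365734335431302f2e2d2c2b2a290201002524232221203a393837364f34331031302f402d2c012a295927261a24232221203a393837360c34334d40302f2e2d2c022a29281926255a232221203a393837364934330a41302f022d2c2b2a2928275925241a2221203a394f37363534331131302f2e002c2b41291627265724232221203a390c37363534334e31002f2e2d2c2b42292856262517232221203a394937363534330b31012f2e422c2b2a292827162524572221203a393837363500334631302f2e2d2c5619292827264c0f232221203a393837363501334731302f56192c2b2a2928272609244f2221203a393837363502334856192f2e2d2c2b2a2928272625490c2221203a393837363534004331302f2e2d2c175a290c4f262524232221203a393837363534014431302f175a2c2b2a2949270f2524232221203a3938373635340245175a2f2e2d2c2b2a2928094c2524232221203a39383736355a59580f302f0c2d2c092a292827262524232221203a3938373635171615314f2f2e4c2c2b4929282726252423222120 (Nat.mul 8 (Nat.add (Nat.mul 27 r) i)))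 256

/-- code of a coordinate -/
def ix (a : I27) : ℕ := 9 * a.1 + 3 * a.2.1 + a.2.2

/-- coordinate of a code -/
def un (n : ℕ) : I27 := (Fin.ofNat 3 (n / 9), Fin.ofNat 3 (n / 3), Fin.ofNat 3 n)

/-- sign of a cell -/
def sN (x : ℕ) : ℤ := Int.subNatNat (Nat.div x 32) 1

/-- source coordinate -/
def src (r : ℕ) (a : I27) : I27 := un (cN r (ix a) % 32)

/-- sign -/
def sg (r : ℕ) (a : I27) : ℤ := sN (cN r (ix a))

theorem ix_lt : ∀ a, ix a < 27 := by decide +kernel

theorem ix_src {r : ℕ} (h : r < 72) (a : I27) : ix (src r a) = cN r (ix a) % 32 :=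
  (show ∀ r < 72, ∀ i < 27, ix (un (cN r i % 32)) = cN r i % 32 by decide +kernel) r h _ (ix_lt a)

variable {F : Type*} [Field F]

variable (F) in
/-- nilpotent part of a root element -/
def E (r : ℕ) : Matrix I27 I27 F := of fun i j => if src r i = j then (sg r i : F) else 0

theorem E_mul (r : ℕ) (M : Matrix I27 I27 F) (i j : I27) :
    (E F r * M) i j = sg r i * M (src r i) j := by simp [E, mul_apply]

theorem E_mulVec (r : ℕ) (w : I27 → F) (i : I27) : (E F r *ᵥ w) i = sg r i * w (src r i) := by
  simp [E, mulVec, dotProduct]

theorem E_mul_eq_zero {r s : ℕ} (h : ∀ a, sg r a * sg s (src r a) = 0) : E F r * E F s = 0 := by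
  ext a j
  rw [E_mul, E, of_apply]
  split_ifs
  · rw [← Int.cast_mul, h a]; simp
  · simp

theorem E_sq (r : Fin chevE6.nroots) : E F r * E F r = 0 := E_mul_eq_zero fun a => by
  rw [sg, sg, ix_src r.2]
  exact (show ∀ r < 72, ∀ i < 27, sN (cN r i) * sN (cN r (cN r i % 32)) = 0 by decide +kernel)
    r r.2 _ (ix_lt a)

/-- one row of the commutator relation -/
def Row (e : ℤ) (a b c a' b' c₁ c₂ : ℕ) : Prop :=
  (sN a = 0 ∧ sN b = 0 ∧ e * sN c = 0) ∨ (sN a * sN a' = sN b * sN b' - e * sN c ∧
    (sN a * sN a' = 0 ∨ sN b * sN b' = 0 ∨ a' % 32 = b' % 32) ∧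
    (sN a * sN a' = 0 ∨ e * sN c = 0 ∨ a' % 32 = c % 32) ∧
    (sN b * sN b' = 0 ∨ e * sN c = 0 ∨ b' % 32 = c % 32) ∧
    (e = 0 ∨ sN b * sN c₁ = 0 ∧ sN a * sN c₂ = 0))

instance (e : ℤ) (a b c a' b' c₁ c₂ : ℕ) : Decidable (Row e a b c a' b' c₁ c₂) := by
  unfold Row; infer_instance

/-- the commutator relation -/
noncomputable def cm (r s q : ℕ) (e : ℤ) : Bool := allLt 27 fun i => forceN (cN s i) fun a =>
  forceN (cN r i) fun b => forceN (cN q i) fun c =>
    decide (Row e a b c (cN r (a % 32)) (cN s (b % 32)) (cN q (b % 32)) (cN q (a % 32)))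

theorem cm_eq {r s q : ℕ} {e : ℤ} (hr : r < 72) (hs : s < 72) (h : cm r s q e = true) :
    E F s * E F r = E F r * E F s - (e : F) • E F q ∧
      (e ≠ 0 → E F r * E F q = 0 ∧ E F s * E F q = 0) := by
  simp only [cm, allLt_iff, forceN_eq, decide_eq_true_eq] at h
  replace h := fun a => h _ (ix_lt a)
  refine ⟨?_, fun he => ⟨E_mul_eq_zero fun a => ?_, E_mul_eq_zero fun a => ?_⟩⟩
  · ext a j
    have : ∀ (x y : ℤ) (P : Prop) [Decidable P], ((x : F) * if P then (y : F) else 0) =
        ((if P then x * y else 0 : ℤ) : F) := fun x y P _ => by split_ifs <;> simp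
    rw [Matrix.sub_apply, Matrix.smul_apply, E_mul, E_mul, E, E, E, of_apply, of_apply, of_apply,
      smul_eq_mul, this, this, this, ← Int.cast_sub, src, src.eq_1 s (src r a), src.eq_1 q, sg, sg, sg,
      sg, sg, ix_src hr, ix_src hs]
    congr 1
    have := h a
    unfold Row at this
    split_ifs <;> grind
  all_goals
    have := h a
    simp only [sg, ix_src hr, ix_src hs]
    unfold Row at this
    grind

/-- the check for one pair -/
noncomputable def ck (r s : ℕ) (L : List (ℕ × ℤ × ℕ × ℕ)) : Bool :=
  List.rec (cm r s 0 0) (fun a l _ => forceN a.1 fun q => forceZ a.2.1 fun e =>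
    decide (l = [] ∧ a.2.2 = (1, 1) ∧ q < 72 ∧ e ≠ 0) && cm r s q e) L

theorem chkC : (allLt 72 fun r => allLt 72 fun s => decide (s = r ∨ s = fastE6.tab.neg r) ||
    ck r s (fastE6.tab.commTerms r s)) = true := by
  decide +kernel

/-- root elements -/
noncomputable def X (r : Fin chevE6.nroots) (t : F) : GL I27 F :=
  ⟨1 + t • E F r, 1 + (-t) • E F r, by simp [mul_add, add_mul, E_sq], by simp [mul_add, add_mul, E_sq]⟩

theorem X_val (r : Fin chevE6.nroots) (t : F) : (X r t).1 = 1 + t • E F r := rfl

variable (F) in
/-- the Steinberg system on the 27-dimensional module -/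
noncomputable def st : StSys (cdOf chevE6) F (GL I27 F) where
  x := X
  add := fun r t u => Units.ext (by
    simp [X_val, mul_add, add_mul, E_sq, add_smul]; abel)
  comm := fun r s h1 h2 t u => by
    have := allLt_iff.1 (allLt_iff.1 chkC r r.2) s s.2
    rw [← tbE6, Bool.or_eq_true, decide_eq_true_eq, or_assoc] at this
    replace : ck r s (chevE6.commTerms r s) = true :=
      (this.resolve_left fun e => h1 (Fin.ext e)).resolve_left fun e => h2 (Fin.ext e)
    refine Units.ext ?_
    rcases e : chevE6.commTerms r s with _ | ⟨⟨q, c, ij⟩, l⟩ <;> rw [e] at this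
    · simp [cdOf, e, X_val, mul_add, add_mul, (cm_eq r.2 s.2 this).1, smul_smul, mul_comm]; abel
    · simp only [ck, forceN_eq, forceZ_eq, Bool.and_eq_true, decide_eq_true_eq] at this
      obtain ⟨⟨rfl, rfl, hq, hc⟩, h⟩ := this
      obtain ⟨h, h'⟩ := cm_eq (F := F) r.2 s.2 h
      simp only [cdOf, e, List.map_cons, List.map_nil, List.prod_cons, List.prod_nil, Units.val_mul,
        X_val, finR_val r hq, mul_add, add_mul, mul_one, one_mul, smul_mul_assoc, mul_smul_comm, h,
        mul_assoc, (h' hc).1, (h' hc).2, mul_zero, smul_zero, add_zero, pow_one]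
      module

theorem X_mulVec (r : Fin chevE6.nroots) (t : F) (w : I27 → F) (i : I27) :
    ((X r t).1 *ᵥ w) i = w i + t * (sg r i * w (src r i)) := by
  rw [X_val, add_mulVec, one_mulVec, smul_mulVec, Pi.add_apply, Pi.smul_apply, E_mulVec, smul_eq_mul]

end Cfsg.Agent.H7.Cub
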