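import Mathlib
import Cfsg.Prelude.Def_Characters
import Cfsg.Agent.H4.SylowIn
import Cfsg.Agent.H7.Gag

/-!
Unitary representations; the commutator lemma of Frobenius and Jordan's theorem.
-/

namespace Cfsg.Agent.H7

open Cfsg
open scoped ComplexConjugate commutatorElement

section Idem

variable {D A : Type*} [Group D] [Fintype D] [Ring A] [Algebra ℂ A] (U : D →* A)

/-- The projection attached to a linear character. -/
noncomputable def linIdem (χ : D → ℂ) : A := (Nat.card D : ℂ)⁻¹ • ∑ d, conj (χ d) • U d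

variable {χ : D → ℂ}

theorem mul_linIdem (hχ : IsCharacter D χ) (h1 : χ 1 = 1) (x : D) :
    U x * linIdem U χ = χ x • linIdem U χ := by
  simp only [linIdem, mul_smul_comm, Finset.mul_sum, ← map_mul]
  rw [smul_comm (χ x), Finset.smul_sum (r := χ x),
    ← Equiv.sum_comp (Equiv.mulLeft x) fun d => χ x • conj (χ d) • U d]
  refine congrArg _ (Finset.sum_congr rfl fun d _ => ?_)
  rw [Equiv.coe_mulLeft, linear_map_mul hχ h1, map_mul conj, smul_smul, ← mul_assoc,
    linear_mul_conj hχ h1, one_mul]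

theorem linIdem_mul (hχ : IsCharacter D χ) (h1 : χ 1 = 1) (x : D) :
    linIdem U χ * U x = χ x • linIdem U χ := by
  simp only [linIdem, smul_mul_assoc, Finset.sum_mul, ← map_mul]
  rw [smul_comm (χ x), Finset.smul_sum (r := χ x),
    ← Equiv.sum_comp (Equiv.mulRight x) fun d => χ x • conj (χ d) • U d]
  refine congrArg _ (Finset.sum_congr rfl fun d _ => ?_)
  rw [Equiv.coe_mulRight, linear_map_mul hχ h1, map_mul conj, smul_smul, mul_comm (conj _),
    ← mul_assoc, linear_mul_conj hχ h1, one_mul]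

theorem linIdem_mul_self (hχ : IsCharacter D χ) (h1 : χ 1 = 1) :
    linIdem U χ * linIdem U χ = linIdem U χ := by
  conv_lhs => enter [1]; rw [linIdem]
  simp only [smul_mul_assoc, Finset.sum_mul, mul_linIdem U hχ h1, smul_smul, mul_comm (conj _),
    linear_mul_conj hχ h1, one_smul, Finset.sum_const, Finset.card_univ,
    ← Nat.card_eq_fintype_card, ← Nat.cast_smul_eq_nsmul ℂ]
  rw [inv_mul_cancel₀ (card_ne_zero' D), one_smul]

theorem sum_linIdem (hD : ∀ a b : D, a * b = b * a) : ∑ χ ∈ irrSet D, linIdem U χ = 1 := by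
  classical
  simp only [linIdem, ← Finset.smul_sum]
  rw [Finset.sum_comm]
  simp only [← Finset.sum_smul]
  have : ∀ d, ∑ χ ∈ irrSet D, conj (χ d) = if d = 1 then (Nat.card D : ℂ) else 0 := fun d => by
    have := congrArg conj (congrFun (reg_expand D) d)
    rw [Finset.sum_apply, map_sum] at this
    rw [Finset.sum_congr rfl (g := fun χ => conj ((χ 1 • χ) d)) fun χ hχ => by
      rw [Pi.smul_apply, irr_one_eq_one_of_comm hD (mem_irrSet.mp hχ), one_smul], ← this]
    split_ifs <;> simp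
  simp [this, smul_smul, inv_mul_cancel₀ (card_ne_zero' D)]

theorem spectrum_subset (hD : ∀ a b : D, a * b = b * a) (x : D) {k : ℂ}
    (hk : k ∈ spectrum ℂ (U x)) : ∃ χ ∈ irrSet D, linIdem U χ ≠ 0 ∧ χ x = k := by
  by_contra! h
  have h1 : ∀ χ ∈ irrSet D, (k - χ x)⁻¹ • (k - χ x) • linIdem U χ = linIdem U χ := fun χ hχ => by
    by_cases e : linIdem U χ = 0
    · simp [e]
    · rw [smul_smul, inv_mul_cancel₀ (sub_ne_zero.mpr (h χ hχ e).symm), one_smul]
  refine hk ⟨⟨_, ∑ χ ∈ irrSet D, (k - χ x)⁻¹ • linIdem U χ, ?_, ?_⟩, rfl⟩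
  · rw [Finset.mul_sum, ← sum_linIdem U hD]
    refine Finset.sum_congr rfl fun χ hχ => ?_
    have := mem_irrSet.mp hχ
    rw [mul_smul_comm, sub_mul, mul_linIdem U (irr_char this) (irr_one_eq_one_of_comm hD this),
      ← Algebra.smul_def, ← sub_smul, h1 χ hχ]
  · rw [Finset.sum_mul, ← sum_linIdem U hD]
    refine Finset.sum_congr rfl fun χ hχ => ?_
    have := mem_irrSet.mp hχ
    rw [smul_mul_assoc, mul_sub, linIdem_mul U (irr_char this) (irr_one_eq_one_of_comm hD this),
      ← Algebra.commutes, ← Algebra.smul_def, ← sub_smul, h1 χ hχ]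

end Idem

section Frob

variable {G A : Type*} [Group G] [Finite G] [NormedRing A] [NormedAlgebra ℂ A] {U : G →* A}
  (hU : Function.Injective U) (hn : ∀ g, ‖U g‖ ≤ 1)

omit [Finite G] in
theorem norm_linIdem_le [Fintype G] (hn : ∀ g, ‖U g‖ ≤ 1) {χ : G → ℂ} (hχ : IsCharacter G χ)
    (h1 : χ 1 = 1) : ‖linIdem U χ‖ ≤ 1 := by
  have h0 : (0 : ℝ) < Nat.card G := Nat.cast_pos.mpr Nat.card_pos
  rw [linIdem, norm_smul, norm_inv, Complex.norm_natCast, inv_mul_le_iff₀ h0, mul_one]
  refine (norm_sum_le_of_le _ (n := fun _ => 1) fun d _ => ?_).trans (by simp)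
  rw [norm_smul, Complex.norm_conj]
  exact mul_le_one₀ (by simpa [h1] using H6.isCharacter_norm_le hχ d) (norm_nonneg _) (hn d)

include hU hn

theorem commute_of_commute_conj {a b : G} (h : Commute a (b * a * b⁻¹)) {w : ℂ}
    (hb : ‖U b - algebraMap ℂ A w‖ < ‖w‖) : Commute a b := by
  let D := Subgroup.closure {a, b * a * b⁻¹}
  letI := Fintype.ofFinite D
  have hD : ∀ x y : D, x * y = y * x := by
    have : IsMulCommutative D := Subgroup.isMulCommutative_closure (by
      rintro x (rfl | rfl) y (rfl | rfl)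
      exacts [rfl, h, h.symm, rfl])
    exact fun x y => mul_comm' x y
  let x : D := ⟨a, Subgroup.subset_closure (by simp)⟩
  let y : D := ⟨b * a * b⁻¹, Subgroup.subset_closure (by simp)⟩
  let V := U.comp D.subtype
  have key : V x = V y := by
    rw [← mul_one (V x), ← mul_one (V y), ← sum_linIdem V hD, Finset.mul_sum, Finset.mul_sum]
    refine Finset.sum_congr rfl fun χ hχ => ?_
    have hi := mem_irrSet.mp hχ
    have hc := irr_char hi
    have h1 := irr_one_eq_one_of_comm hD hi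
    rw [mul_linIdem V hc h1, mul_linIdem V hc h1]
    by_contra e
    set P := linIdem V χ
    have h2 : P * U b * P = 0 := by
      have e1 : U b * V x = V y * U b := by simp [V, x, y, ← map_mul]
      have e2 : χ x • (P * U b * P) = χ y • (P * U b * P) := by
        rw [← mul_smul_comm, ← mul_linIdem V hc h1, ← mul_assoc, mul_assoc P, e1, ← mul_assoc,
          linIdem_mul V hc h1, smul_mul_assoc, smul_mul_assoc]
      rw [← sub_eq_zero, ← sub_smul, smul_eq_zero, sub_eq_zero] at e2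
      exact e2.resolve_left fun e' => e (by rw [e'])
    have h3 : w • P = -(P * (U b - algebraMap ℂ A w) * P) := by
      rw [mul_sub, sub_mul, h2, ← Algebra.commutes, ← Algebra.smul_def, smul_mul_assoc,
        linIdem_mul_self V hc h1, zero_sub, neg_neg]
    have h4 : ‖P‖ ≤ 1 := norm_linIdem_le (U := V) (fun g => hn g) hc h1
    have h5 : 0 < ‖P‖ := norm_pos_iff.mpr fun e' => e (by rw [e', smul_zero, smul_zero])
    have h6 := congrArg norm h3
    rw [norm_smul, norm_neg] at h6
    have h7 := (norm_mul_le (P * (U b - algebraMap ℂ A w)) P).trans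
      (mul_le_mul_of_nonneg_right ((norm_mul_le _ _).trans
        (mul_le_of_le_one_left (norm_nonneg _) h4)) h5.le)
    nlinarith
  exact (eq_mul_inv_iff_mul_eq.mp (hU key))

/-- The commutator lemma of Frobenius. -/
theorem commute_of_near {a : G} {z : ℂ} (ha : ‖U a - algebraMap ℂ A z‖ < 1 / 2) (b : G) :
    (∃ w : ℂ, ‖U b - algebraMap ℂ A w‖ < ‖w‖) → Commute a b := by
  haveI : IsTrans G fun x y => ‖U x - 1‖ < ‖U y - 1‖ := ⟨fun _ _ _ => lt_trans⟩
  haveI : Std.Irrefl fun x y : G => ‖U x - 1‖ < ‖U y - 1‖ := ⟨fun _ => lt_irrefl _⟩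
  induction b using (Finite.wellFounded_of_trans_of_irrefl
    fun x y : G => ‖U x - 1‖ < ‖U y - 1‖).induction with
  | h b ih =>
  rintro ⟨w, hw⟩
  by_cases hb : b = 1
  · rw [hb]; exact Commute.one_right a
  have h0 : 0 < ‖U b - 1‖ := norm_pos_iff.mpr fun e => hb (hU (by rw [sub_eq_zero.mp e, map_one]))
  set Z := algebraMap ℂ A z
  have hZ : ∀ X, Z * X = X * Z := Algebra.commutes z
  have hm : ∀ X g, ‖X * U g‖ ≤ ‖X‖ := fun X g =>
    (norm_mul_le _ _).trans (mul_le_of_le_one_right (norm_nonneg _) (hn g))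
  have hm' : ∀ X g, ‖U g * X‖ ≤ ‖X‖ := fun X g =>
    (norm_mul_le _ _).trans (mul_le_of_le_one_left (norm_nonneg _) (hn g))
  have h1 : ‖U ⁅a, b⁆ - 1‖ ≤ ‖U a * U b - U b * U a‖ := by
    refine le_trans (le_of_eq ?_) (hm _ (a⁻¹ * b⁻¹))
    simp [sub_mul, ← map_mul, commutatorElement_def, mul_assoc]
  have h2 : ‖U a * U b - U b * U a‖ < ‖U b - 1‖ := by
    rw [show U a * U b - U b * U a = (U a - Z) * (U b - 1) - (U b - 1) * (U a - Z) by
      simp only [sub_mul, mul_sub, hZ, mul_one, one_mul]; abel]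
    have := (norm_sub_le _ _).trans (add_le_add (norm_mul_le (U a - Z) (U b - 1))
      (norm_mul_le (U b - 1) (U a - Z)))
    nlinarith
  have h3 : ‖U a * U b - U b * U a‖ < 1 := by
    rw [show U a * U b - U b * U a = (U a - Z) * U b - U b * (U a - Z) by
      simp only [sub_mul, mul_sub, hZ]; abel]
    have := (norm_sub_le _ _).trans (add_le_add (hm (U a - Z) b) (hm' (U a - Z) b))
    linarith
  have h4 := ih ⁅a, b⁆ (h1.trans_lt h2) ⟨1, by simpa using h1.trans_lt h3⟩
  refine commute_of_commute_conj hU hn ?_ hw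
  have h5 := ((Commute.refl a).inv_right.mul_right h4).inv_right
  simpa [commutatorElement_def, mul_assoc] using h5

end Frob

theorem norm_sub_lt_of_floor_eq {u v : ℂ} (hu : ‖u‖ = 1) (hv : ‖v‖ = 1)
    (h : ⌊(Real.pi - u.arg) / (Real.pi / 6)⌋ = ⌊(Real.pi - v.arg) / (Real.pi / 6)⌋) :
    ‖conj u * v - (√3 / 2 : ℝ)‖ < 1 / 2 := by
  have h1 := Int.abs_sub_lt_one_of_floor_eq_floor h
  have hp : 0 < Real.pi / 6 := by positivity
  rw [← sub_div, abs_div, abs_of_pos hp, div_lt_one hp, sub_sub_sub_cancel_left] at h1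
  have h2 : √3 / 2 < Real.cos (v.arg - u.arg) := by
    rw [← Real.cos_pi_div_six, ← Real.cos_abs (v.arg - u.arg)]
    exact Real.cos_lt_cos_of_nonneg_of_le_pi (abs_nonneg _) (by linarith) h1
  have h3 : (conj u * v).re = Real.cos (v.arg - u.arg) := by
    rw [Real.cos_sub, Complex.cos_arg (by rintro rfl; simp at hv),
      Complex.cos_arg (by rintro rfl; simp at hu), Complex.sin_arg, Complex.sin_arg, hu, hv]
    simp [mul_comm]
  have h4 : Complex.normSq (conj u * v) = 1 := by
    simp [Complex.normSq_eq_norm_sq, hu, hv]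
  refine lt_of_pow_lt_pow_left₀ 2 (by norm_num) ?_
  rw [← Complex.normSq_eq_norm_sq, Complex.normSq_sub, h4, Complex.normSq_ofReal,
    Complex.conj_ofReal, Complex.re_mul_ofReal, h3]
  have h5 : √3 * √3 = 3 := Real.mul_self_sqrt (by norm_num)
  have h6 : 0 < √3 := by positivity
  nlinarith

theorem floor_arg_mem (u : ℂ) :
    ⌊(Real.pi - u.arg) / (Real.pi / 6)⌋ ∈ Finset.Ico (0 : ℤ) 12 := by
  have hp : 0 < Real.pi / 6 := by positivity
  rw [Finset.mem_Ico, Int.floor_nonneg, Int.floor_lt, div_lt_iff₀ hp]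
  exact ⟨div_nonneg (sub_nonneg.mpr u.arg_le_pi) hp.le, by
    have := u.neg_pi_lt_arg; push_cast; linarith⟩

variable {G : Type*} [Group G] [Finite G]

open scoped Matrix ComplexOrder MatrixOrder in
/-- Every character is afforded by a unitary representation. -/
theorem exists_unitary {χ : G → ℂ} (hχ : IsCharacter G χ) :
    ∃ U : G →* Matrix (Fin (charDegree χ)) (Fin (charDegree χ)) ℂ, (∀ g, (U g).trace = χ g) ∧
      (∀ g, star (U g) = U g⁻¹) ∧ U.ker = H6.charKer χ := by
  obtain ⟨n, ρ, rfl⟩ := hχ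
  rw [charDegree_eq (d := n) (by simp)]
  letI := Fintype.ofFinite G
  classical
  let A := ∑ g, (repMat ρ g)ᴴ * repMat ρ g
  have hA : A.PosDef := by
    rw [show A = _ from (Finset.add_sum_erase _ _ (Finset.mem_univ 1)).symm, map_one]
    simp only [Matrix.conjTranspose_one, mul_one]
    exact Matrix.PosDef.one.add_posSemidef (Matrix.posSemidef_sum _ fun g _ =>
      Matrix.posSemidef_conjTranspose_mul_self _)
  have hAi : ∀ g, star (repMat ρ g) * A * repMat ρ g = A := fun g => by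
    simp only [A, Finset.mul_sum, Finset.sum_mul, Matrix.star_eq_conjTranspose]
    rw [← Equiv.sum_comp (Equiv.mulRight g) fun x => (repMat ρ x)ᴴ * repMat ρ x]
    simp [mul_assoc]
  obtain ⟨_, ⟨S, rfl⟩, hS⟩ :=
    CStarAlgebra.isStrictlyPositive_iff_eq_star_mul_self.mp hA.isStrictlyPositive
  refine ⟨⟨⟨fun g => S * repMat ρ g * (S⁻¹ : _ˣ), by simp⟩, by simp [mul_assoc]⟩, fun g => ?_,
    fun g => ?_, ?_⟩
  · rw [character_eq_trace]; exact Matrix.trace_units_conj S _
  · have h1 := hAi g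
    rw [hS] at h1
    refine left_inv_eq_right_inv (a := S.val * repMat ρ g * (S⁻¹ : _ˣ)) ?_ (by
      change _ * (S.val * repMat ρ g⁻¹ * (S⁻¹ : _ˣ)) = _
      simp only [mul_assoc, Units.inv_mul_cancel_left]
      rw [← mul_assoc (repMat ρ g), repMat_mul_inv, one_mul, Units.mul_inv])
    change star (S.val * repMat ρ g * (S⁻¹ : _ˣ).val) * _ = 1
    calc _ = star (S⁻¹ : _ˣ).val * (star (repMat ρ g) * (star S.val * S) * repMat ρ g) *
          (S⁻¹ : _ˣ) := by simp only [star_mul, mul_assoc]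
      _ = 1 := by rw [h1, ← mul_assoc, ← star_mul]; simp
  · ext g
    rw [H6.mem_charKer_character, MonoidHom.mem_ker]
    change S * repMat ρ g * (S⁻¹ : _ˣ) = 1 ↔ _
    rw [Units.mul_inv_eq_one, S.isUnit.mul_eq_left, repMat_apply, ← LinearMap.toMatrix'_id,
      LinearMap.toMatrix'.injective.eq_iff]

theorem card_constituents_le {φ : G → ℂ} (hφ : IsCharacter G φ) [DecidablePred (ip φ · ≠ 0)] :
    ((irrSet G).filter (ip φ · ≠ 0)).card ≤ charDegree φ := by
  obtain ⟨m, h1, h2, -⟩ := exists_mult hφ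
  rw [h2, Finset.card_filter]
  refine Finset.sum_le_sum fun χ hχ => ?_
  split_ifs with h
  · rw [h1 χ (mem_irrSet.mp hχ), Nat.cast_ne_zero] at h
    exact Nat.mul_pos (Nat.pos_of_ne_zero h) (irr_degree_pos (mem_irrSet.mp hχ))
  · exact Nat.zero_le _

open scoped Matrix.Norms.L2Operator in
/-- The theorem of Frobenius behind Jordan's theorem. -/
theorem exists_abelian_normal_index_le {χ : G → ℂ} (hχ : IsCharacter G χ)
    (hf : H6.charKer χ = ⊥) : ∃ A : Subgroup G, A.Normal ∧ (∀ x ∈ A, ∀ y ∈ A, x * y = y * x) ∧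
      ∀ H : Subgroup G, (∀ x ∈ H, ∀ y ∈ H, x * y = y * x) →
        (A.subgroupOf H).index ≤ 12 ^ charDegree χ := by
  classical
  obtain ⟨U, h1, h2, h3⟩ := exists_unitary hχ
  have hU := (MonoidHom.ker_eq_bot_iff U).mp (h3.trans hf)
  have hn : ∀ g, ‖U g‖ ≤ 1 := fun g => by
    have := CStarRing.norm_star_mul_self (x := U g)
    rw [h2, ← map_mul, inv_mul_cancel, map_one] at this
    have h0 := CStarRing.norm_star_mul_self
      (x := (1 : Matrix (Fin (charDegree χ)) (Fin (charDegree χ)) ℂ))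
    rw [star_one, mul_one, this] at h0
    by_contra! h4
    have := mul_lt_mul'' h4 h4 zero_le_one zero_le_one
    nlinarith
  let z : ℂ := (√3 / 2 : ℝ)
  let S := {g | ‖U g - algebraMap ℂ _ z‖ < 1 / 2}
  have hz : 1 / 2 < ‖z‖ := by
    rw [Complex.norm_real, Real.norm_of_nonneg (by positivity)]
    have : 1 < √3 := Real.lt_sqrt_of_sq_lt (by norm_num)
    linarith
  have hS : ∀ g, ∀ s ∈ S, g * s * g⁻¹ ∈ S := fun g s hs => by
    refine lt_of_le_of_lt ?_ (show ‖U s - algebraMap ℂ _ z‖ < 1 / 2 from hs)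
    rw [show U (g * s * g⁻¹) - algebraMap ℂ _ z = U g * (U s - algebraMap ℂ _ z) * U g⁻¹ by
      rw [mul_sub, sub_mul, ← Algebra.commutes, mul_assoc _ (U g), ← map_mul, ← map_mul,
        ← map_mul, mul_inv_cancel, map_one, mul_one]]
    exact (norm_mul_le _ _).trans ((mul_le_of_le_one_right (norm_nonneg _) (hn _)).trans
      ((norm_mul_le _ _).trans (mul_le_of_le_one_left (norm_nonneg _) (hn _))))
  refine ⟨Subgroup.closure S, ⟨fun x hx g => ?_⟩, fun x hx y hy => ?_, fun H hH => ?_⟩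
  · exact (Subgroup.closure_le ((Subgroup.closure S).comap (MulAut.conj g).toMonoidHom)).mpr
      (fun s hs => Subgroup.subset_closure (hS g s hs)) hx
  · have : IsMulCommutative (Subgroup.closure S) := Subgroup.isMulCommutative_closure
      fun a ha b hb => commute_of_near hU hn ha b ⟨z, lt_trans hb hz⟩
    exact comm_mem_iff.mp (fun a b => mul_comm' a b) x hx y hy
  letI := Fintype.ofFinite H
  have hH' := comm_mem_iff.mpr hH
  let V := U.comp H.subtype
  let L := (irrSet H).filter (ip (fun x : H => χ x) · ≠ 0)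
  have hL : ∀ x : H, (∀ l ∈ L, ‖l x - z‖ < 1 / 2) → (x : G) ∈ S := fun x hx => by
    rcases subsingleton_or_nontrivial (Matrix (Fin (charDegree χ)) (Fin (charDegree χ)) ℂ) with
      _ | _
    · change ‖_‖ < _
      rw [Subsingleton.elim (_ - _) 0]; norm_num
    set T := U x - algebraMap ℂ _ z with hT
    haveI : IsStarNormal T := ⟨by
      simp only [hT, star_sub, h2, ← algebraMap_star_comm]
      exact ((((Commute.refl _).inv_left.map U).sub_right (Algebra.commutes _ _).symm).sub_left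
        (Algebra.commutes _ _))⟩
    obtain ⟨k, hk, e⟩ := spectrum.exists_nnnorm_eq_spectralRadius T
    rw [IsStarNormal.spectralRadius_eq_nnnorm, ENNReal.coe_inj, ← NNReal.coe_inj, coe_nnnorm,
      coe_nnnorm] at e
    obtain ⟨l, hl, h4, h5⟩ := spectrum_subset V hH' x (k := k + z) (by
      rwa [spectrum.add_mem_iff, neg_add_eq_sub])
    have hi := mem_irrSet.mp hl
    have h6 := irr_one_eq_one_of_comm hH' hi
    have := hx l (Finset.mem_filter.mpr ⟨hl, fun e' => h4 ?_⟩)
    · rwa [h5, add_sub_cancel_right, e] at this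
    refine Matrix.toLin'.map_eq_zero_iff.mp (LinearMap.IsIdempotentElem.eq_zero_of_trace_eq_zero
      (by rw [IsIdempotentElem, Module.End.mul_eq_comp, ← Matrix.toLin'_mul,
        linIdem_mul_self V (irr_char hi) h6]) ?_)
    rw [← e', Matrix.trace_toLin'_eq, ip_def]
    simp [linIdem, V, h1, mul_comm]
  let F : H ⧸ (Subgroup.closure S).subgroupOf H → L → Finset.Ico (0 : ℤ) 12 := fun q l =>
    ⟨_, floor_arg_mem (l.1 q.out)⟩
  have hF : Function.Injective F := fun q q' e => by
    rw [← q.out_eq, ← q'.out_eq]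
    rw [QuotientGroup.eq, Subgroup.mem_subgroupOf]
    refine Subgroup.subset_closure (hL _ fun l hl => ?_)
    have hi := mem_irrSet.mp (Finset.mem_filter.mp hl).1
    have h6 := irr_one_eq_one_of_comm hH' hi
    have h7 : ∀ x, ‖l x‖ = 1 := fun x => by
      have := congrArg norm (linear_mul_conj (irr_char hi) h6 x)
      rw [norm_mul, Complex.norm_conj, norm_one] at this
      nlinarith [norm_nonneg (l x)]
    rw [linear_map_mul (irr_char hi) h6, char_inv (irr_char hi)]
    exact norm_sub_lt_of_floor_eq (h7 _) (h7 _) (congrArg Subtype.val (congrFun e ⟨l, hl⟩))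
  refine (Nat.card_le_card_of_injective F hF).trans ?_
  rw [Nat.card_fun, Nat.card_eq_finsetCard, Nat.card_eq_finsetCard, Int.card_Ico]
  exact Nat.pow_le_pow_right (by norm_num)
    ((card_constituents_le (char_comp H.subtype hχ)).trans_eq (deg_comp _ _))

/-- A character that is rational and non-trivial at an element of prime order `p` has degree at
least `p - 1`. -/
theorem le_deg_of_rat {χ : G → ℂ} (hχ : IsCharacter G χ) {p : ℕ} (hp : p.Prime) {x : G}
    (hx : orderOf x = p) (h : ∀ k : ℕ, k.Coprime p → χ (x ^ k) = χ x) (h1 : χ x ≠ χ 1) :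
    p ≤ charDegree χ + 1 := by
  classical
  obtain ⟨t, ht⟩ := H6.exists_int_of_pow_eq (H6.isGen_of_isCharacter hχ) x (hx ▸ h)
  have h2 := char_one_eq hχ
  have h3 := char_pElt_dvd hp (H6.isGen_of_isCharacter hχ) (k := 1) (g := x)
    (by rw [pow_one, ← hx, pow_orderOf_eq_one]) (a := charDegree χ) h2 ht
  have h4 : t < charDegree χ := by
    have := H6.isCharacter_norm_le' hχ h2 x
    rw [ht, Complex.norm_intCast] at this
    refine lt_of_le_of_ne (by exact_mod_cast (le_abs_self _).trans this) fun e => h1 ?_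
    rw [ht, h2, e]; rfl
  letI := Fintype.ofFinite (Subgroup.zpowers x)
  obtain ⟨m, hm⟩ := ip_char_nat (char_comp (Subgroup.zpowers x).subtype hχ) char_one
  rw [ip_def, ← Finset.add_sum_erase _ _ (Finset.mem_univ 1), Finset.sum_congr rfl
    (g := fun _ => (t : ℂ)) ?_, Finset.sum_const, Finset.card_erase_of_mem (Finset.mem_univ _),
    Finset.card_univ, ← Nat.card_eq_fintype_card, Nat.card_zpowers, hx,
    inv_mul_eq_iff_eq_mul₀ (Nat.cast_ne_zero.mpr hp.ne_zero)] at hm
  · simp only [map_one, Pi.one_apply, mul_one, h2, nsmul_eq_mul, Nat.cast_pred hp.pos] at hm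
    have h5 : (charDegree χ : ℤ) + (p - 1) * t = p * m := by exact_mod_cast hm
    have h6 := Int.le_of_dvd (sub_pos.mpr h4) h3
    have h7 : (0 : ℤ) < p := by exact_mod_cast hp.pos
    have h8 : (0 : ℤ) ≤ p * m := by positivity
    zify
    nlinarith
  · rintro ⟨y, hy⟩ hy1
    obtain ⟨k, rfl⟩ := (mem_powers_iff_mem_zpowers.mpr hy : y ∈ Submonoid.powers x)
    simp only [Pi.one_apply, map_one, mul_one, Subgroup.coe_subtype]
    rw [h k ((Nat.Prime.coprime_iff_not_dvd hp).mpr fun e => Finset.ne_of_mem_erase hy1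
      (Subtype.ext (orderOf_dvd_iff_pow_eq_one.mp (hx ▸ e)))).symm, ht]

theorem exists_pow_ne_of_deg_lt {χ : G → ℂ} (hχ : IsCharacter G χ) (hf : H6.charKer χ = ⊥)
    {p : ℕ} (hp : p.Prime) (h1 : p ∣ Nat.card G) (h2 : charDegree χ + 1 < p) :
    ∃ m : ℕ, m.Coprime (Nat.card G) ∧ (∀ g : G, ¬ p ∣ orderOf g → g ^ m = g) ∧
      (fun g => χ (g ^ m)) ≠ χ := by
  haveI := Fact.mk hp
  obtain ⟨x, hx⟩ := exists_prime_orderOf_dvd_card' p h1
  by_contra! h
  refine h2.not_ge (le_deg_of_rat hχ hp hx (fun k hk => ?_) fun e => ?_)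
  · obtain ⟨v, b, hb, e⟩ := Nat.exists_eq_pow_mul_and_not_dvd (Nat.card_pos (α := G)).ne' p
      hp.ne_one
    have hc := (Nat.Prime.coprime_iff_not_dvd hp).mpr hb
    obtain ⟨m, e1, e2⟩ := Nat.chineseRemainder hc k 1
    rw [← (pow_eq_pow_iff_modEq (x := x)).mpr (hx ▸ e1)]
    refine congrFun (h m ?_ fun g hg => ?_) x
    · rw [e]
      refine Nat.Coprime.mul_right (Nat.Coprime.pow_right _ ?_) ?_
      · rwa [Nat.Coprime, e1.gcd_eq]
      · rw [Nat.Coprime, e2.gcd_eq, Nat.gcd_one_left]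
    · refine (pow_eq_pow_iff_modEq.mpr (e2.of_dvd ?_)).trans (pow_one g)
      exact (((Nat.Prime.coprime_iff_not_dvd hp).mpr hg).symm.pow_right v).dvd_of_dvd_mul_left
        (e ▸ orderOf_dvd_natCard g)
  · rw [faithful_of_charKer_eq_bot hχ hf x e, orderOf_one] at hx
    exact hp.ne_one hx.symm

theorem exists_orderOf_dvd_two {χ : G → ℂ} (hχ : IsIrrCharacter G χ) (hf : H6.charKer χ = ⊥)
    {p q : ℕ} (hp : p.Prime) (hq : q.Prime) (h1 : p ∣ Nat.card G) (h1' : q ∣ Nat.card G)
    (h2 : charDegree χ + 1 < p) (h2' : charDegree χ + 1 < q) :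
    ∃ g : G, p ∣ orderOf g ∧ q ∣ orderOf g := by
  obtain ⟨m, a1, a2, a3⟩ := exists_pow_ne_of_deg_lt (irr_char hχ) hf hp h1 h2
  obtain ⟨k, b1, b2, b3⟩ := exists_pow_ne_of_deg_lt (irr_char hχ) hf hq h1' h2'
  have a4 := H6.isIrr_comp_pow hχ a1
  have b4 := H6.isIrr_comp_pow hχ b1
  by_contra! h
  letI := Fintype.ofFinite G
  have h3 : ip (χ - fun g => χ (g ^ m)) (χ - fun g => χ (g ^ k)) = 0 := by
    rw [ip_def, Finset.sum_eq_zero fun g _ => ?_, mul_zero]
    by_cases e : p ∣ orderOf g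
    · simp [b2 g (h g e)]
    · simp [a2 g e]
  obtain ⟨n, hn⟩ := ip_char_nat (irr_char a4) (irr_char b4)
  rw [ip_sub_left, ip_sub_right, ip_sub_right, ip_irr_self hχ, ip_irr_ne hχ b4 b3.symm,
    ip_irr_ne a4 hχ a3, hn] at h3
  have : ((n + 1 : ℕ) : ℂ) = 0 := by push_cast; linear_combination h3
  exact Nat.succ_ne_zero n (Nat.cast_eq_zero.mp this)

universe u

open H1 in
/-- Blichfeldt's theorem. -/
theorem exists_hall_of_deg (n : ℕ) : ∀ (k : ℕ) {G : Type u} [Group G] [Finite G]
    (_ : Nat.card G = k) {χ : G → ℂ} (_ : IsCharacter G χ) (_ : H6.charKer χ = ⊥)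
    (_ : charDegree χ ≤ n), ∃ H : Subgroup G, IsPiNum {p | n + 1 < p} (Nat.card H) ∧
      IsPiNum {p | n + 1 < p}ᶜ H.index := by
  intro k
  induction k using Nat.strong_induction_on with
  | h k ih =>
  intro G _ _ hk χ₀ hχ₀ hf₀ hn₀
  subst hk
  set π : Set ℕ := {p | n + 1 < p}
  have ih1 : ∀ U : Subgroup G, U ≠ ⊤ → ∃ H ≤ U, IsPiNum π (Nat.card H) ∧
      IsPiNum πᶜ (H.relIndex U) := fun U hU => by
    obtain ⟨H, h1, h2⟩ := ih _ (card_lt_of_ne_top hU) rfl (char_comp U.subtype hχ₀)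
      (by rw [H6.charKer_comp _ hχ₀, hf₀, MonoidHom.comap_bot, Subgroup.ker_subtype])
      ((deg_comp _ _).trans_le hn₀)
    refine ⟨H.map U.subtype, Subgroup.map_subtype_le H, by rwa [Subgroup.card_subtype], ?_⟩
    rwa [Subgroup.relIndex, ← Subgroup.comap_subtype,
      Subgroup.comap_map_eq_self_of_injective U.subtype_injective]
  by_contra hcon
  obtain ⟨r, hr, hr1, hr2⟩ : ∃ r, r.Prime ∧ r ∣ Nat.card G ∧ r ∉ π := by
    by_contra! h
    exact hcon ⟨⊤, by rwa [Subgroup.card_top], by simpa using isPiNum_one _⟩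
  haveI := Fact.mk hr
  obtain ⟨y, hy⟩ := exists_prime_orderOf_dvd_card' r hr1
  have hy1 : y ≠ 1 := by rintro rfl; exact hr.ne_one (by rw [← hy, orderOf_one])
  have ih2 : ∀ ψ, IsCharacter G ψ → charDegree ψ ≤ n → H6.charKer ψ ≠ ⊥ → y ∈ H6.charKer ψ := by
    intro ψ hψ h1 h2
    haveI := H6.charKer_normal (char_cf hψ)
    obtain ⟨β, hβ, -, e⟩ := H6.exists_isCharacter_comp_eq (QuotientGroup.mk' (H6.charKer ψ))
      (QuotientGroup.mk'_surjective _) hψ (QuotientGroup.ker_mk' _).le
    obtain ⟨H, h3, h4⟩ := ih _ (H2.card_quotient_lt_of_ne_bot h2) rfl hβ (by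
      refine (Subgroup.comap_injective (QuotientGroup.mk'_surjective _)) ?_
      rw [← H6.charKer_comp _ hβ, ← e, MonoidHom.comap_bot, QuotientGroup.ker_mk'])
      (by rwa [e, deg_comp] at h1)
    rw [← H.index_comap_of_surjective (QuotientGroup.mk'_surjective _)] at h4
    by_cases h5 : H.comap (QuotientGroup.mk' _) = ⊤
    · rw [← Subgroup.comap_top (QuotientGroup.mk' (H6.charKer ψ)),
        (Subgroup.comap_injective (QuotientGroup.mk'_surjective _)).eq_iff] at h5
      rw [h5, Subgroup.card_top] at h3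
      exact mem_of_coprime_index _ (hy ▸ (Nat.Prime.coprime_iff_not_dvd hr).mpr
        fun e => hr2 (h3 r hr e))
    · obtain ⟨L, h6, h7, h8⟩ := ih1 _ h5
      exact absurd ⟨L, h7, Subgroup.relIndex_mul_index h6 ▸ h8.mul h4⟩ hcon
  letI := Fintype.ofFinite G
  obtain ⟨χ, hχ, hn, hf⟩ : ∃ χ, IsIrrCharacter G χ ∧ charDegree χ ≤ n ∧ H6.charKer χ = ⊥ := by
    by_contra! h
    refine hy1 (Subgroup.mem_bot.mp (hf₀ ▸ H6.mem_charKer_of_forall_constituent (char_cf hχ₀)
      fun ψ hψ e => ?_))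
    have := (deg_le_of_ip hχ₀ hψ (by rwa [ip_eq_classInner])).trans hn₀
    exact ih2 ψ (irr_char hψ) this (h ψ hψ this)
  have hcen : ∀ x : G, ∀ p ∈ π, p.Prime → orderOf x = p → Subgroup.centralizer {x} ≠ ⊤ := by
    intro x p hpπ hp hx e
    have h1 : x ∈ Subgroup.center G := Subgroup.mem_center_iff.mpr fun g =>
      Subgroup.mem_centralizer_singleton_iff.mp (e ▸ Subgroup.mem_top g)
    obtain ⟨lam, hl⟩ := H6.exists_linear_of_le_center hχ _ le_rfl
    obtain ⟨v, b, hb, e⟩ := Nat.exists_eq_pow_mul_and_not_dvd (Nat.card_pos (α := G)).ne' p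
      hp.ne_one
    have h2 : (b * charDegree χ).Coprime p := ((Nat.Prime.coprime_iff_not_dvd hp).mpr
      (hp.prime.not_dvd_mul hb (Nat.not_dvd_of_pos_of_lt (irr_degree_pos hχ)
        (by have : n + 1 < p := hpπ; omega)))).symm
    obtain ⟨c, hc⟩ := Nat.exists_mul_mod_eq_one_of_coprime h2 hp.one_lt
    let μ := (detHom χ ^ (b * c))⁻¹
    have h3 : y ∈ H6.charKer (linFun μ * χ) := by
      refine ih2 _ (char_mul (char_linFun _) (irr_char hχ)) ?_ fun e' => ?_
      · rwa [deg_mul (char_linFun _) (irr_char hχ), charDegree_eq (d := 1) (by simp [linFun]),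
          one_mul]
      have h4 := hl ⟨x, h1⟩ 1
      rw [mul_one, char_one_eq (irr_char hχ)] at h4
      have h5 : (lam ⟨x, h1⟩ : ℂ) ^ p = 1 := by
        rw [← Units.val_pow_eq_pow_val, ← map_pow, show (⟨x, h1⟩ : Subgroup.center G) ^ p = 1 from
          Subtype.ext (hx ▸ pow_orderOf_eq_one x), map_one, Units.val_one]
      have h6 := detChar_of_scalar (irr_char hχ) (char_one_eq (irr_char hχ))
        (H6.norm_eq_one_of_pow_eq_one' hp.ne_zero h5) h4
      have h7 : μ x * (lam ⟨x, h1⟩ : ℂ) = 1 := by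
        simp only [μ, MonoidHom.inv_apply, MonoidHom.pow_apply, Units.val_inv_eq_inv_val,
          Units.val_pow_eq_pow_val, detHom_apply, h6, ← pow_mul]
        rw [← mul_assoc, mul_comm _ b, pow_eq_pow_mod _ h5, hc.2, pow_one,
          inv_mul_cancel₀ (Units.ne_zero _)]
      have h8 := faithful_of_charKer_eq_bot (char_mul (char_linFun _) (irr_char hχ)) e' x (by
        simp [linFun_apply, h4, ← mul_assoc, h7, char_one_eq (irr_char hχ)])
      exact hp.ne_one (by rw [← hx, h8, orderOf_one])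
    have h4 : y ^ p ^ v ∈ H6.charKer χ := fun g => by
      have h5 : μ (y ^ p ^ v) = 1 := by
        have := DFunLike.congr_fun (hom_pow_card_eq_one (detHom χ)) y
        simp only [μ, MonoidHom.inv_apply, MonoidHom.pow_apply, map_pow, ← pow_mul,
          MonoidHom.one_apply] at this ⊢
        rw [inv_pow, ← pow_mul, mul_comm, ← mul_assoc, ← e, pow_mul, this, one_pow, inv_one]
      simpa [linFun_apply, h5] using pow_mem h3 (p ^ v) g
    rw [hf, Subgroup.mem_bot, ← orderOf_dvd_iff_pow_eq_one, hy] at h4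
    exact hr2 ((Nat.prime_dvd_prime_iff_eq hr hp).mp (hr.dvd_of_dvd_pow h4) ▸ hpπ)
  have hab : ∀ H : Subgroup G, IsPiNum π (Nat.card H) → ∀ a ∈ H, ∀ b ∈ H, a * b = b * a :=
    fun H hH => comm_mem_iff.mp (H6.comm_of_faithful_of_degree_lt
      (char_comp H.subtype (irr_char hχ))
      (by rw [H6.charKer_comp _ (irr_char hχ), hf, MonoidHom.comap_bot, Subgroup.ker_subtype])
      (char_one_eq (irr_char hχ)) fun p hp e => by have : n + 1 < p := hH p hp e; omega)
  obtain ⟨H, hH, hmax⟩ := Set.exists_max_image {H : Subgroup G | IsPiNum π (Nat.card H)}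
    (fun H => Nat.card H) (Set.toFinite _) ⟨⊥, by simpa using isPiNum_one _⟩
  have key : ∀ x ∈ H, ∀ p, p.Prime → orderOf x = p → ∀ q ∈ π, q.Prime →
      ¬ q ∣ H.relIndex (Subgroup.centralizer {x}) := by
    intro x hx p hp e q hqπ hq
    have h1 : H ≤ Subgroup.centralizer {x} := fun a ha =>
      Subgroup.mem_centralizer_singleton_iff.mpr (hab H hH a ha x hx)
    obtain ⟨L, h2, h3, h4⟩ := ih1 _ (hcen x p (hH p hp (e ▸ H.orderOf_dvd_natCard hx)) hp e)
    have h5 := (H4.card_mul_relIndex h1).trans (H4.card_mul_relIndex h2).symm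
    rw [← le_antisymm (hmax L h3) (Nat.le_of_dvd Nat.card_pos
      (hH.dvd_of_dvd_mul h4 (h5 ▸ dvd_mul_right _ _))),
      Nat.mul_right_inj Nat.card_pos.ne'] at h5
    exact fun e => h4 q hq (h5 ▸ e) hqπ
  have key2 : ∀ p, p.Prime → p ∣ Nat.card H → ¬ p ∣ H.index := fun p hp h1 h2 => by
    haveI := Fact.mk hp
    obtain ⟨x, hx⟩ := exists_prime_orderOf_dvd_card' p h1
    rw [← Subgroup.orderOf_coe] at hx
    obtain ⟨P, hP⟩ := (IsPGroup.of_card (G := Subgroup.zpowers (x : G)) (n := 1)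
      (by rw [Nat.card_zpowers, hx, pow_one])).exists_le_sylow
    have h3 : (P : Subgroup G) ≤ Subgroup.centralizer {(x : G)} := fun a ha =>
      Subgroup.mem_centralizer_singleton_iff.mpr (hab P ((isPGroup_iff_isPiNum.mp P.2).mono
        (Set.singleton_subset_iff.mpr (hH p hp h1))) a ha x (hP (Subgroup.mem_zpowers _)))
    rw [← Subgroup.relIndex_mul_index (show H ≤ Subgroup.centralizer {(x : G)} from fun a ha =>
      Subgroup.mem_centralizer_singleton_iff.mpr (hab H hH a ha x x.2))] at h2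
    exact hp.prime.not_dvd_mul (key x x.2 p hp hx p (hH p hp h1) hp)
      (fun e => P.not_dvd_index (e.trans (Subgroup.index_dvd_of_le h3))) h2
  refine hcon ⟨H, hH, fun q hq h1 hqπ => ?_⟩
  haveI := Fact.mk hq
  have h2 : ¬ q ∣ Nat.card H := fun e => key2 q hq e h1
  have h3 := h1.trans H.index_dvd_card
  obtain ⟨p, hp, h4⟩ : ∃ p, p.Prime ∧ p ∣ Nat.card H := Nat.exists_prime_and_dvd fun e => by
    obtain ⟨x, hx⟩ := exists_prime_orderOf_dvd_card' q h3
    have := hmax (Subgroup.zpowers x) (by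
      change IsPiNum π _
      rw [Nat.card_zpowers, hx]
      exact fun s hs e => (Nat.prime_dvd_prime_iff_eq hs hq).mp e ▸ hqπ)
    rw [Nat.card_zpowers, hx, e] at this
    exact hq.one_lt.not_ge this
  obtain ⟨g, h5, h6⟩ := exists_orderOf_dvd_two hχ hf hp hq (h4.trans H.card_subgroup_dvd_card) h3
    (by have : n + 1 < p := hH p hp h4; omega) (by have : n + 1 < q := hqπ; omega)
  have h7 := orderOf_pow_orderOf_div (orderOf_pos g).ne' h5
  haveI := Fact.mk hp
  obtain ⟨c, hc⟩ := exists_conj_le_of_not_dvd_index hp (IsPGroup.of_card (n := 1)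
    (G := Subgroup.zpowers (g ^ (orderOf g / p))) (by rw [Nat.card_zpowers, h7, pow_one]))
    (key2 p hp h4)
  have h8 := hc _ (Subgroup.mem_zpowers _)
  have h9 : ∀ a : G, orderOf (c⁻¹ * a * c) = orderOf a := fun a => by
    simpa using MulEquiv.orderOf_eq (MulAut.conj c⁻¹) a
  refine hq.prime.not_dvd_mul h2 (key _ h8 p hp (by rw [h9, h7]) q hqπ hq) ?_
  rw [H4.card_mul_relIndex fun a ha =>
    Subgroup.mem_centralizer_singleton_iff.mpr (hab H hH a ha _ h8)]
  refine (h9 g ▸ h6).trans (Subgroup.orderOf_dvd_natCard _ ?_)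
  rw [Subgroup.mem_centralizer_singleton_iff]
  simp [mul_assoc, (Commute.self_pow g _).left_comm]

omit [Finite G] in
theorem index_inf_eq (H K : Subgroup G) : (H ⊓ K).index = H.relIndex K * K.index := by
  rw [← Subgroup.inf_relIndex_right, Subgroup.relIndex_mul_index inf_le_right]

/-- A nilpotent linear group of degree `n` has an abelian normal subgroup of index dividing `n!`. -/
theorem exists_index_dvd_factorial [Group.IsNilpotent G] {χ : G → ℂ} (hχ : IsCharacter G χ) :
    ∃ B : Subgroup G, B.Normal ∧ B.index ∣ (charDegree χ).factorial ∧ ⁅B, B⁆ ≤ H6.charKer χ := by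
  refine H6.isCharacter_induction (P := fun χ => ∃ B : Subgroup G, B.Normal ∧
    B.index ∣ (charDegree χ).factorial ∧ ⁅B, B⁆ ≤ H6.charKer χ)
    ⟨⊤, inferInstance, by simp, fun _ _ _ => rfl⟩ (fun χ hχ => ?_) ?_ hχ
  · obtain ⟨U, lam, rfl⟩ := isMonomial_of_nilpotent hχ
    refine ⟨U.normalCore, inferInstance, ?_, le_charKer_ind U.subtype_injective (char_of_hom lam) _
      (U.range_subtype.symm ▸ (Subgroup.commutator_le_left _ _).trans U.normalCore_le) ?_⟩
    · rw [deg_ind U.subtype_injective (char_of_hom lam), charDegree_eq (d := 1) (by simp), mul_one,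
        U.range_subtype, Subgroup.normalCore_eq_ker, Subgroup.index_ker, Subgroup.index_eq_card,
        ← Nat.card_perm]
      exact Subgroup.card_subgroup_dvd_card _
    · refine le_trans ?_ (H6.commutator_le_charKer_linear lam)
      refine (Subgroup.comap_mono (Subgroup.commutator_mono U.normalCore_le U.normalCore_le)).trans ?_
      rw [← Subgroup.map_subtype_commutator]
      exact (Subgroup.comap_map_eq_self_of_injective U.subtype_injective _).le
  · rintro φ ψ hφ hψ ⟨B, _, h1, h2⟩ ⟨C, _, h3, h4⟩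
    refine ⟨B ⊓ C, inferInstance, ?_, ?_⟩
    · rw [charDegree_eq (d := charDegree φ + charDegree ψ) (by
        simp [char_one_eq hφ, char_one_eq hψ]), index_inf_eq]
      exact (mul_dvd_mul ((Subgroup.relIndex_dvd_index_of_normal _ _).trans h1) h3).trans
        (Nat.factorial_mul_factorial_dvd_factorial_add _ _)
    · rw [H6.charKer_add hφ hψ]
      exact le_inf ((Subgroup.commutator_mono inf_le_left inf_le_left).trans h2)
        ((Subgroup.commutator_mono inf_le_right inf_le_right).trans h4)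

/-- Jordan's theorem. -/
theorem jordan {χ : G → ℂ} (hχ : IsCharacter G χ) (hf : H6.charKer χ = ⊥) {n : ℕ}
    (hn : charDegree χ = n) : ∃ A : Subgroup G, A.Normal ∧ (∀ x ∈ A, ∀ y ∈ A, x * y = y * x) ∧
      A.index ≤ n.factorial * 12 ^ (n * ((n + 1).primeCounting + 1)) := by
  obtain ⟨A, hA, h1, h2⟩ := exists_abelian_normal_index_le hχ hf
  rw [hn] at h2
  refine ⟨A, hA, h1, ?_⟩
  have h0 : ∀ U : Subgroup G, A.index ∣ A.relIndex U * U.index := fun U => by
    rw [← index_inf_eq]; exact Subgroup.index_dvd_of_le inf_le_left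
  have hr : ∀ U : Subgroup G, H6.charKer (fun x : U => χ x) = ⊥ := fun U => by
    rw [H6.charKer_restrict _ hχ, hf, Subgroup.bot_subgroupOf]
  obtain ⟨H, h3, h4⟩ := exists_hall_of_deg n _ rfl hχ hf hn.le
  have h5 := h2 H (comm_mem_iff.mp (H6.comm_of_faithful_of_degree_lt (char_comp H.subtype hχ)
    (hr H) (char_one_eq hχ) fun p hp e => by have : n + 1 < p := h3 p hp e; omega))
  have h6 : ∀ p ∈ (n + 1).primesLE,
      p ^ A.index.factorization p ≤ p ^ n.factorial.factorization p * 12 ^ n := fun p hp => by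
    haveI := Fact.mk (Nat.prime_of_mem_primesLE hp)
    obtain ⟨P⟩ : Nonempty (Sylow p G) := inferInstance
    haveI := P.2.isNilpotent
    obtain ⟨B, -, h7, h8⟩ := exists_index_dvd_factorial (char_comp P.1.subtype hχ)
    rw [deg_comp, hn] at h7
    have h9 := h2 (B.map P.1.subtype) (by
      rintro _ ⟨x, hx, rfl⟩ _ ⟨y, hy, rfl⟩
      rw [← map_mul, ← map_mul, commutatorElement_eq_one_iff_mul_comm.mp
        (Subgroup.mem_bot.mp (hr P ▸ h8 (Subgroup.commutator_mem_commutator hx hy)))])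
    obtain ⟨k, hk⟩ := (P.2.index B)
    have h10 := (Nat.ordProj_dvd _ p).trans (h0 (B.map P.1.subtype))
    rw [Subgroup.index_map_subtype, ← mul_assoc] at h10
    refine (Nat.le_of_dvd (Nat.mul_pos (Nat.pos_of_ne_zero (Subgroup.index_ne_zero_of_finite))
      (Nat.pos_of_ne_zero (Subgroup.index_ne_zero_of_finite)))
      ((((Nat.Prime.coprime_iff_not_dvd Fact.out).mpr P.not_dvd_index).pow_left
        _).dvd_of_dvd_mul_right h10)).trans ?_
    rw [mul_comm, hk]
    exact Nat.mul_le_mul (Nat.pow_le_pow_right (Nat.prime_of_mem_primesLE hp).pos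
      ((Nat.Prime.pow_dvd_iff_le_factorization Fact.out n.factorial_ne_zero).mp (hk ▸ h7))) h9
  have h7 : ∀ N : ℕ, N ≠ 0 → ∃ b, H1.IsPiNum {p | n + 1 < p} b ∧
      N = (∏ p ∈ (n + 1).primesLE, p ^ N.factorization p) * b := fun N hN => by
    refine ⟨∏ p ∈ N.primeFactors \ (n + 1).primesLE, p ^ N.factorization p, fun q hq e => ?_, ?_⟩
    · obtain ⟨p, hp, e'⟩ := (hq.prime.dvd_finsetProd_iff _).mp e
      rw [Finset.mem_sdiff, Nat.mem_primesLE] at hp
      have := Nat.prime_of_mem_primeFactors hp.1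
      rw [(Nat.prime_dvd_prime_iff_eq hq this).mp (hq.dvd_of_dvd_pow e')]
      exact not_le.mp fun e => hp.2 ⟨e, this⟩
    · rw [← Finset.prod_union Finset.disjoint_sdiff, Finset.union_sdiff_self_eq_union]
      conv_lhs => rw [← Nat.prod_factorization_pow_eq_self hN]
      exact Finsupp.prod_of_support_subset _ Finset.subset_union_right _ (by simp)
  obtain ⟨b, h8, h9⟩ := h7 A.index Subgroup.index_ne_zero_of_finite
  obtain ⟨c, -, h10⟩ := h7 n.factorial n.factorial_ne_zero
  have h11 := Nat.le_of_dvd (Nat.pos_of_ne_zero (Subgroup.index_ne_zero_of_finite))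
    (h8.dvd_of_dvd_mul h4 ((Dvd.intro_left _ h9.symm).trans (h0 H)))
  rw [h9, mul_add, pow_add, mul_one, ← mul_assoc]
  refine Nat.mul_le_mul ((Finset.prod_le_prod' h6).trans ?_) (h11.trans h5)
  rw [Finset.prod_mul_distrib, Finset.prod_const, Nat.primesLE_card_eq_primeCounting, ← pow_mul]
  exact Nat.mul_le_mul_right _ (Nat.le_of_dvd n.factorial_pos (Dvd.intro _ h10.symm))

end Cfsg.Agent.H7
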