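import Mathlib
import Cfsg.Prelude.Def_Characters
import Cfsg.Agent.FT.Main
import Cfsg.Agent.H7.Jordan

/-!
Characters fixed by a power map (Galois automorphism of prime power order) and normal subgroups;
real characters over normal subgroups of odd index.
-/

namespace Cfsg.Agent.H7

open Cfsg
open scoped ComplexConjugate commutatorElement

universe u

theorem exists_fixed_of_sum {X : Type*} {p e : ℕ} (hp : p.Prime) (s : Finset X) (σ : X → X)
    (hs : ∀ x ∈ s, σ x ∈ s) (hσ : ∀ x ∈ s, σ^[p ^ e] x = x) (F : X → ℕ)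
    (hF : ∀ x ∈ s, F (σ x) = F x) (h : ¬ p ∣ ∑ x ∈ s, F x) : ∃ x ∈ s, σ x = x ∧ ¬ p ∣ F x := by
  classical
  haveI := Fact.mk hp
  by_contra! H
  apply h
  rw [← Finset.sum_fiberwise_of_maps_to (s := s) (t := s.image F) (g := F)
    (fun x hx => Finset.mem_image_of_mem F hx)]
  refine Finset.dvd_sum fun v _ => ?_
  rw [Finset.sum_congr rfl (g := fun _ => v) (fun x hx => (Finset.mem_filter.1 hx).2),
    Finset.sum_const, smul_eq_mul]
  by_cases hv : p ∣ v
  · exact hv.mul_left _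
  refine Dvd.dvd.mul_right ?_ _
  let Y := {x // x ∈ s.filter fun x => F x = v}
  let τ : Function.End Y := fun y => ⟨σ y, by
    have := Finset.mem_filter.1 y.2
    exact Finset.mem_filter.2 ⟨hs _ this.1, by rw [hF _ this.1, this.2]⟩⟩
  have h1 : ∀ n (y : Y), ((τ ^ n) y).1 = σ^[n] y := fun n => by
    induction n with
    | zero => intro y; rfl
    | succ n ih => intro y; rw [pow_succ, Function.iterate_succ_apply]; exact ih (τ y)
  have h2 := Equiv.Perm.card_fixedPoints_modEq (f := τ) (p := p) (n := e)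
    (funext fun y => Subtype.ext ((h1 _ y).trans (hσ _ (Finset.mem_filter.1 y.2).1)))
  have : IsEmpty (Function.fixedPoints τ) := ⟨fun y => by
    have h3 := Finset.mem_filter.1 y.1.2
    exact hv (h3.2 ▸ H _ h3.1 (congrArg Subtype.val y.2))⟩
  rw [Fintype.card_eq_zero (α := Function.fixedPoints τ), Fintype.card_coe] at h2
  exact Nat.modEq_zero_iff_dvd.mp h2

theorem exists_cyclic_step {G : Type*} [Group G] [Finite G] (N : Subgroup G) [N.Normal]
    [Group.IsSolvable (G ⧸ N)] (h : N ≠ ⊤) : ∃ M : Subgroup G, N ≤ M ∧ M ≠ ⊤ ∧ commutator G ≤ M ∧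
      ∃ g : G, ∀ x, ∃ (k : ℤ) (m : M), x = g ^ k * m := by
  have h1 : N ⊔ commutator G ≠ ⊤ := fun e => by
    haveI : Nontrivial (G ⧸ N) := QuotientGroup.nontrivial_iff.mpr h
    refine (Group.IsSolvable.commutator_lt_top_of_nontrivial (G ⧸ N)).ne ?_
    have := congrArg (Subgroup.map (QuotientGroup.mk' N)) e
    rwa [Subgroup.map_sup, (Subgroup.map_eq_bot_iff _).mpr (by simp), bot_sup_eq,
      Subgroup.map_top_of_surjective _ (QuotientGroup.mk'_surjective N), commutator_def,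
      Subgroup.map_commutator, Subgroup.map_top_of_surjective _ (QuotientGroup.mk'_surjective N)]
      at this
  obtain ⟨M, hM, h2⟩ := (eq_top_or_exists_le_coatom _).resolve_left h1
  haveI : M.Normal := Subgroup.Normal.of_commutator_le _ (le_sup_right.trans h2)
  obtain ⟨g, hg⟩ : ∃ g, g ∉ M := by
    by_contra! H
    exact hM.1 (eq_top_iff.mpr fun x _ => H x)
  refine ⟨M, le_sup_left.trans h2, hM.1, le_sup_right.trans h2, g, fun x => ?_⟩
  have h3 : Subgroup.zpowers g ⊔ M = ⊤ := hM.2 _ (lt_of_le_of_ne le_sup_right fun e =>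
    hg (e ▸ Subgroup.mem_sup_left (Subgroup.mem_zpowers g)))
  obtain ⟨_, ⟨k, rfl⟩, m, hm, rfl⟩ := Subgroup.mem_sup_of_normal_right.mp (h3 ▸ Subgroup.mem_top x)
  exact ⟨k, ⟨m, hm⟩, rfl⟩

section Pow

variable {G N : Type*} [Group G] [Group N] [Finite G] [Finite N] {k : ℕ}

theorem ip_pow (hk : k.Coprime (Nat.card G)) (φ ψ : G → ℂ) :
    ip (fun g => φ (g ^ k)) (fun g => ψ (g ^ k)) = ip φ ψ :=
  ip_comp_equiv (powCoprime hk.symm) φ ψ

omit [Finite G] in
theorem iterate_pow (χ : G → ℂ) (k n : ℕ) :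
    (fun (χ : G → ℂ) g => χ (g ^ k))^[n] χ = fun g => χ (g ^ k ^ n) := by
  induction n generalizing χ with
  | zero => simp
  | succ n ih => rw [Function.iterate_succ_apply, ih]; simp [← pow_mul, pow_succ]

theorem coprime_of_inj {f : N →* G} (hf : Function.Injective f) (hk : k.Coprime (Nat.card G)) :
    k.Coprime (Nat.card N) :=
  hk.coprime_dvd_right (Subgroup.card_dvd_of_injective f hf)

theorem ip_res_pow {f : N →* G} (hf : Function.Injective f) (hk : k.Coprime (Nat.card G))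
    (χ : G → ℂ) {θ : N → ℂ} (h : ∀ n, θ (n ^ k) = θ n) :
    ip (fun n => χ (f n ^ k)) θ = ip (fun n => χ (f n)) θ := by
  rw [← ip_pow (coprime_of_inj hf hk) (fun n => χ (f n)) θ]
  simp only [map_pow, h]

/-- A fixed invariant character of a normal subgroup of `p'`-index lies under a fixed character. -/
theorem IsNE.exists_pow_fixed_over {f : N →* G} (hf : IsNE f) {p e : ℕ} (hp : p.Prime)
    (hi : ¬ p ∣ f.range.index) (hk : k.Coprime (Nat.card G)) (hke : ∀ g : G, g ^ k ^ p ^ e = g)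
    {θ : N → ℂ} (hθ : IsIrrCharacter N θ) (hinv : hf.Inv θ) (h : ∀ n, θ (n ^ k) = θ n) :
    ∃ χ, IsIrrCharacter G χ ∧ ip (fun n => χ (f n)) θ ≠ 0 ∧ ∀ g, χ (g ^ k) = χ g := by
  obtain ⟨m, h1, -, h2⟩ := exists_mult (char_ind f (irr_char hθ))
  have h3 : ip (ind f θ) (ind f θ) = f.range.index := by
    rw [ip_ind_left _ _ (ind_cf _ _), ← ip_conj_symm, hf.res_ind_of_inv hinv, ip_smul_left,
      ip_irr_self hθ]
    simp
  have h4 : ∀ χ, IsIrrCharacter G χ → ip (fun n => χ (f n)) θ = m χ := fun χ hχ => by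
    rw [← ip_ind_right _ _ (irr_cf hχ)]; exact ip_natCast_comm (h1 χ hχ)
  obtain ⟨χ, hχ, h5, h6⟩ := exists_fixed_of_sum (e := e) hp (irrSet G)
    (fun (χ : G → ℂ) g => χ (g ^ k))
    (fun χ hχ => mem_irrSet.mpr (H6.isIrr_comp_pow (mem_irrSet.mp hχ) hk))
    (fun χ _ => by rw [iterate_pow]; simp only [hke]) (fun χ => m χ ^ 2)
    (fun χ hχ => by
      have h5 := h4 _ (H6.isIrr_comp_pow (mem_irrSet.mp hχ) hk)
      rw [ip_res_pow hf.inj hk χ h, h4 χ (mem_irrSet.mp hχ)] at h5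
      simp only [Nat.cast_injective h5])
    (by rwa [← Nat.cast_injective (R := ℂ) (h3.symm.trans h2)])
  refine ⟨χ, mem_irrSet.mp hχ, ?_, congrFun h5⟩
  rw [h4 χ (mem_irrSet.mp hχ), Nat.cast_ne_zero]
  rintro e
  simp [e] at h6

/-- The constituents of a fixed character on a normal subgroup of `p'`-index are fixed. -/
theorem IsNE.pow_fixed_under {f : N →* G} (hf : IsNE f) {p e : ℕ} (hp : p.Prime)
    (hk : k.Coprime (Nat.card G)) (hke : ∀ g : G, g ^ k ^ p ^ e = g)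
    {χ : G → ℂ} (hχ : IsIrrCharacter G χ) (h : ∀ g, χ (g ^ k) = χ g) {θ : N → ℂ}
    (hθ : IsIrrCharacter N θ) (h0 : ip (fun n => χ (f n)) θ ≠ 0)
    (hi : ¬ p ∣ (hf.inertia θ).index) (n : N) : θ (n ^ k) = θ n := by
  have hk' := coprime_of_inj hf.inj hk
  have h1 : ∀ φ ∈ hf.orbit θ, ip (fun n => χ (f n)) φ ≠ 0 := fun φ hφ => by
    obtain ⟨g, rfl⟩ := hf.mem_orbit.mp hφ
    rwa [hf.ip_res_cjf (irr_cf hχ)]
  obtain ⟨φ, hφ, h2, -⟩ := exists_fixed_of_sum (e := e) hp (hf.orbit θ)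
    (fun (χ : N → ℂ) g => χ (g ^ k))
    (fun φ hφ => hf.mem_orbit_of_under hχ hθ (H6.isIrr_comp_pow (hf.irr_of_mem_orbit hθ hφ) hk') h0
      (by have := h1 φ hφ
          rw [← ip_pow hk'] at this
          simpa only [map_pow, h] using this))
    (fun χ _ => by
      rw [iterate_pow]
      funext n
      rw [hf.inj (a₁ := n ^ k ^ p ^ e) (a₂ := n) (by rw [map_pow, hke])]) (fun _ => 1)
    (fun _ _ => rfl) (by simpa [hf.card_orbit] using hi)
  obtain ⟨g, rfl⟩ := hf.mem_orbit.mp hφ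
  have := congrFun h2 (hf.cj g⁻¹ n)
  simpa [IsNE.cjf_apply, ← IsNE.cj_mul] using this

omit [Finite N] in
theorem irr_eq_one_of_pow_fixed {f : N →* G} {Q : Type*} [Group Q] {π : G →* Q}
    (hπ : Function.Surjective π) (hker : π.ker = f.range) (ho : Odd f.range.index)
    (hk : ∀ g : G, g ^ k * g ∈ f.range) {β : Q → ℂ} (hβ : IsIrrCharacter Q β)
    (h : ∀ g, β (g ^ k) = β g) : β = 1 := by
  haveI : Finite Q := Finite.of_surjective π hπ
  have h1 : Nat.card Q = f.range.index := by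
    rw [← hker, Subgroup.index_ker, MonoidHom.range_eq_top.mpr hπ, Subgroup.card_top]
  refine H6.irr_eq_one_of_odd_of_real (h1 ▸ ho) hβ (funext fun x => ?_)
  obtain ⟨g, rfl⟩ := hπ x
  rw [← char_inv (irr_char hβ), ← h (π g)]
  congr 1
  have := hk g
  rw [← hker, MonoidHom.mem_ker, map_mul, map_pow] at this
  exact (eq_inv_of_mul_eq_one_left this).symm

/-- A fixed extension is the only fixed character over its restriction. -/
theorem IsNE.pow_fixed_unique_of_ext {f : N →* G} (hf : IsNE f) (ho : Odd f.range.index)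
    (hk : k.Coprime (Nat.card G)) (hk2 : ∀ g : G, g ^ k * g ∈ f.range) {χ ψ : G → ℂ}
    (hχ : IsIrrCharacter G χ) (hχN : IsIrrCharacter N fun n => χ (f n))
    (h1 : ∀ g, χ (g ^ k) = χ g) (hψ : IsIrrCharacter G ψ) (h2 : ∀ g, ψ (g ^ k) = ψ g)
    (h : ip (fun n => ψ (f n)) (fun n => χ (f n)) ≠ 0) : ψ = χ := by
  haveI := hf.normal
  have hπ := QuotientGroup.mk'_surjective f.range
  have hker := QuotientGroup.ker_mk' f.range
  obtain ⟨β, hβ, rfl⟩ := hf.gallagher_surj hπ hker (irr_char hχ) hχN hψ h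
  have h3 := gallagher_inj hπ hker (irr_char hχ) hχN (H6.isIrr_comp_pow hβ
    (hk.coprime_dvd_right (Subgroup.card_quotient_dvd_card _))) hβ
    (funext fun g => by simpa [h1] using h2 g)
  rw [irr_eq_one_of_pow_fixed hπ hker ho hk2 hβ (congrFun h3)]
  exact one_mul χ

end Pow

theorem exists_pow_fixed_ext {N : Type*} [Group N] [Finite N] {k e : ℕ} {θ : N → ℂ}
    (hθ : IsIrrCharacter N θ) (h : ∀ n, θ (n ^ k) = θ n) : ∀ (m : ℕ) {G : Type u} [Group G]
    [Finite G] (_ : Nat.card G = m) {f : N →* G} (hf : IsNE f) (_ : Odd f.range.index)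
    (_ : k.Coprime (Nat.card G)) (_ : ∀ g : G, g ^ k ^ 2 ^ e = g)
    (_ : ∀ g : G, g ^ k * g ∈ f.range) (_ : hf.Inv θ),
    ∃ χ, IsIrrCharacter G χ ∧ (∀ n, χ (f n) = θ n) ∧ ∀ g, χ (g ^ k) = χ g := by
  intro m
  induction m using Nat.strong_induction_on with
  | _ m ih =>
  intro G _ _ hm f hf ho hk hke hk2 hinv
  haveI := hf.normal
  have hi : ∀ {n : ℕ}, n ∣ f.range.index → ¬ 2 ∣ n := fun h h' =>
    Nat.not_even_iff_odd.mpr ho (even_iff_two_dvd.mpr (h'.trans h))
  by_cases ht : f.range = ⊤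
  · obtain ⟨χ, h1, h2, h3⟩ := hf.exists_pow_fixed_over Nat.prime_two (hi dvd_rfl) hk hke hθ hinv h
    exact ⟨χ, h1, congrFun (irr_eq_of_ip_ne_zero
      (irr_comp_surjective f (MonoidHom.range_eq_top.mp ht) h1) hθ h2), h3⟩
  haveI := FT.odd_order_solvable (G := G ⧸ f.range) ho
  obtain ⟨M, h1, h2, h3, g, hg⟩ := exists_cyclic_step f.range ht
  haveI : M.Normal := Subgroup.Normal.of_commutator_le _ h3
  have hM : ∀ n, f n ∈ M := fun n => h1 ⟨n, rfl⟩
  have hf' := isNE_codRestrict hf M hM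
  have hidx := index_range_comp M.subtype_injective (f.codRestrict M hM) (f := f) fun _ => rfl
  have ho' : Odd (f.codRestrict M hM).range.index := Nat.Odd.of_mul_right (hidx ▸ ho)
  have hk' := coprime_of_inj M.subtype_injective hk
  have hk2' : ∀ g : M, g ^ k * g ∈ (f.codRestrict M hM).range := fun g => by
    obtain ⟨n, hn⟩ := hk2 g
    exact ⟨n, Subtype.ext hn⟩
  obtain ⟨η, hη, e1, e2⟩ := ih _ (hm ▸ card_lt_of_ne_top h2) rfl hf' ho' hk'
    (fun g => Subtype.ext (hke g)) hk2' (hinv.of_comp hf' (ι := M.subtype) fun _ => rfl)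
  have e3 : (fun n => η (f.codRestrict M hM n)) = θ := funext e1
  have hM' := isNE_subtype M
  have hηi : hM'.Inv η := fun x => by
    refine hf'.pow_fixed_unique_of_ext ho' hk' hk2' hη (e3 ▸ hθ) e2 (hM'.irr_cjf x hη)
      (fun g => by rw [IsNE.cjf_apply, map_pow, e2]; rfl) ?_
    have : (fun n => hM'.cjf x η (f.codRestrict M hM n)) = θ := by
      rw [← hinv x]
      funext n
      rw [IsNE.cjf_apply, IsNE.cjf_apply, ← e1]
      exact congrArg η (hM'.cj_eq (hf.cj_spec x n))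
    rw [this, e3, ip_irr_self hθ]
    exact one_ne_zero
  obtain ⟨χ, h4, h5, h6⟩ := hM'.exists_pow_fixed_over Nat.prime_two
    (hi ⟨_, hidx.symm⟩) hk hke hη hηi e2
  obtain ⟨χ₀, h7, h8⟩ := hM'.exists_ext_of_cyclic hη hηi g hg
  obtain ⟨lam, h9, rfl⟩ := hM'.exists_linear_of_abelian (by rwa [M.range_subtype]) h7 h4
    (by rwa [funext h8])
  refine ⟨_, h4, fun n => ?_, h6⟩
  have h10 := h9 ⟨f n, hM n⟩
  have h11 := h8 ⟨f n, hM n⟩
  simp only [Subgroup.subtype_apply] at h10 h11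
  rw [Pi.mul_apply, linFun_apply, h10, h11, Units.val_one, one_mul]
  exact e1 n

section Main

variable {G N : Type*} [Group G] [Group N] [Finite G] [Finite N] {k e : ℕ} {f : N →* G}

/-- There is a unique fixed character over a fixed character of a normal subgroup of odd index. -/
theorem IsNE.exists_unique_pow_fixed (hf : IsNE f) (ho : Odd f.range.index)
    (hk : k.Coprime (Nat.card G)) (hke : ∀ g : G, g ^ k ^ 2 ^ e = g)
    (hk2 : ∀ g : G, g ^ k * g ∈ f.range) {θ : N → ℂ} (hθ : IsIrrCharacter N θ)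
    (h : ∀ n, θ (n ^ k) = θ n) :
    ∃ χ, IsIrrCharacter G χ ∧ ip (fun n => χ (f n)) θ = 1 ∧ (∀ g, χ (g ^ k) = χ g) ∧
      ∀ ψ, IsIrrCharacter G ψ → ip (fun n => ψ (f n)) θ ≠ 0 → (∀ g, ψ (g ^ k) = ψ g) → ψ = χ := by
  set T := hf.inertia θ
  have hT := hf.apply_mem_inertia (irr_cf hθ)
  have hf' := isNE_codRestrict hf T hT
  have hidx := index_range_comp T.subtype_injective (f.codRestrict T hT) (f := f) fun _ => rfl
  have ho' : Odd (f.codRestrict T hT).range.index := Nat.Odd.of_mul_right (hidx ▸ ho)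
  have hk' := coprime_of_inj T.subtype_injective hk
  have hk2' : ∀ g : T, g ^ k * g ∈ (f.codRestrict T hT).range := fun g => by
    obtain ⟨n, hn⟩ := hk2 g
    exact ⟨n, Subtype.ext hn⟩
  obtain ⟨η, hη, e1, e2⟩ := exists_pow_fixed_ext hθ h _ rfl hf' ho' hk'
    (fun g => Subtype.ext (hke g)) hk2' (hf.inv_inertia (irr_cf hθ))
  have e3 : (fun n => η (f.codRestrict T hT n)) = θ := funext e1
  have e4 : ip (fun n => η (f.codRestrict T hT n)) θ = 1 := by rw [e3, ip_irr_self hθ]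
  have hle : hf.inertia θ ≤ T.subtype.range := by rw [T.range_subtype]
  have key : ∀ ψ, IsIrrCharacter T ψ → ip (fun n => ψ (f.codRestrict T hT n)) θ ≠ 0 →
      ind T.subtype (fun g => ψ (g ^ k)) = fun g => ind T.subtype ψ (g ^ k) := fun ψ hψ h0 => by
    have h1 := hf.corr_irr T.subtype_injective (fun _ => rfl) hθ hle hψ h0
    refine (hf.corr_aux T.subtype_injective (fun _ => rfl) hθ hle (H6.isIrr_comp_pow hψ hk')
      (by rwa [ip_res_pow hf'.inj hk' ψ h]) (H6.isIrr_comp_pow h1 hk) ?_).1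
    have := ip_pow hk' (fun x => ind T.subtype ψ (T.subtype x)) ψ
    simp only [map_pow] at this
    rw [this, ← ip_ind_right _ _ (irr_cf h1), ip_irr_self h1]
    exact one_ne_zero
  have e5 := e4 ▸ (one_ne_zero : (1 : ℂ) ≠ 0)
  refine ⟨_, hf.corr_irr T.subtype_injective (fun _ => rfl) hθ hle hη e5,
    (hf.corr_ip T.subtype_injective (fun _ => rfl) hθ hle hη e5).trans e4,
    fun g => by rw [← congrFun (key η hη e5) g]; simp only [e2], fun ψ hψ h1 h2 => ?_⟩
  obtain ⟨ξ, hξ, rfl, h3⟩ := hf.corr_surj T.subtype_injective (k := f.codRestrict T hT)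
    (fun _ => rfl) hθ hle hψ h1
  rw [← h3] at h1
  congr 1
  refine hf'.pow_fixed_unique_of_ext ho' hk' hk2' hη (e3 ▸ hθ) e2 hξ (congrFun ?_) (e3 ▸ h1)
  exact hf.corr_inj T.subtype_injective (fun _ => rfl) hθ hle (H6.isIrr_comp_pow hξ hk')
    (by rwa [ip_res_pow hf'.inj hk' ξ h]) hξ h1 ((key ξ hξ h1).trans (funext h2))

omit [Finite N] in
theorem exists_neg_exp (G : Type*) [Group G] [Finite G] :
    ∃ k : ℕ, k.Coprime (Nat.card G) ∧ ∀ g : G, g ^ k = g⁻¹ := by
  obtain ⟨n, hn⟩ := Nat.exists_eq_add_of_le' (Nat.card_pos (α := G))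
  refine ⟨n, by rw [hn]; simp, fun g => ?_⟩
  rw [eq_inv_iff_mul_eq_one, ← pow_succ, ← hn, pow_card_eq_one']

omit [Finite N] in
theorem real_iff_inv {χ : G → ℂ} (hχ : IsCharacter G χ) :
    (∀ g, (χ g).im = 0) ↔ ∀ g, χ g⁻¹ = χ g := by
  simp only [char_inv hχ, Complex.conj_eq_iff_im]

/-- There is a unique real character over a real character of a normal subgroup of odd index. -/
theorem IsNE.exists_unique_real (hf : IsNE f) (ho : Odd f.range.index) {θ : N → ℂ}
    (hθ : IsIrrCharacter N θ) (h : ∀ n, (θ n).im = 0) :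
    ∃ χ, IsIrrCharacter G χ ∧ ip (fun n => χ (f n)) θ = 1 ∧ (∀ g, (χ g).im = 0) ∧
      ∀ ψ, IsIrrCharacter G ψ → ip (fun n => ψ (f n)) θ ≠ 0 → (∀ g, (ψ g).im = 0) → ψ = χ := by
  obtain ⟨k, hk, h1⟩ := exists_neg_exp G
  obtain ⟨χ, h2, h3, h4, h5⟩ := hf.exists_unique_pow_fixed (e := 1) ho hk
    (fun g => by rw [pow_one, sq, pow_mul, h1, h1, inv_inv]) (fun g => by simp [h1]) hθ
    (fun n => by
      rw [hf.inj (a₁ := n ^ k) (a₂ := n⁻¹) (by rw [map_pow, h1, map_inv])]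
      exact (real_iff_inv (irr_char hθ)).mp h n)
  simp only [h1] at h4 h5
  exact ⟨χ, h2, h3, (real_iff_inv (irr_char h2)).mpr h4,
    fun ψ hψ a b => h5 ψ hψ a ((real_iff_inv (irr_char hψ)).mp b)⟩

/-- A constituent of a real character whose inertia group has odd index is real. -/
theorem IsNE.real_under (hf : IsNE f) {χ : G → ℂ} (hχ : IsIrrCharacter G χ)
    (h : ∀ g, (χ g).im = 0) {θ : N → ℂ} (hθ : IsIrrCharacter N θ)
    (h0 : ip (fun n => χ (f n)) θ ≠ 0) (hi : ¬ 2 ∣ (hf.inertia θ).index) (n : N) :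
    (θ n).im = 0 := by
  obtain ⟨k, hk, h1⟩ := exists_neg_exp G
  refine (real_iff_inv (irr_char hθ)).mpr (fun n => ?_) n
  rw [← hf.pow_fixed_under (e := 1) Nat.prime_two hk
    (fun g => by rw [pow_one, sq, pow_mul, h1, h1, inv_inv]) hχ
    (fun g => by rw [h1]; exact (real_iff_inv (irr_char hχ)).mp h g) hθ h0 hi n,
    hf.inj (a₁ := n ^ k) (a₂ := n⁻¹) (by rw [map_pow, h1, map_inv])]

theorem IsNE.res_eq_of_ip_one (hf : IsNE f) {χ : G → ℂ} (hχ : IsIrrCharacter G χ) {θ : N → ℂ}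
    (hθ : IsIrrCharacter N θ) (hinv : hf.Inv θ) (h : ip (fun n => χ (f n)) θ = 1) :
    (fun n => χ (f n)) = θ := by
  rw [hf.clifford_inv hχ hθ hinv (h ▸ one_ne_zero), h, one_smul]

end Main

section FS

variable {G H : Type*} [Group G] [Group H] [Finite G] [Finite H]

theorem ip_finsum (φ ψ : G → ℂ) : (Nat.card G : ℂ)⁻¹ * ∑ᶠ g, φ g * conj (ψ g) = ip φ ψ := by
  letI := Fintype.ofFinite G
  rw [ip_def, finsum_eq_sum_of_fintype]

theorem finsum_ne_zero_iff (φ ψ : G → ℂ) : ∑ᶠ g, φ g * conj (ψ g) ≠ 0 ↔ ip φ ψ ≠ 0 := by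
  rw [← ip_finsum, mul_ne_zero_iff_left (inv_ne_zero (card_ne_zero' G))]

/-- The Frobenius-Schur indicator. -/
noncomputable def fs (χ : G → ℂ) : ℂ := (Nat.card G : ℂ)⁻¹ * ∑ᶠ g, χ (g * g)

omit [Finite G] in
theorem fs_eq [Fintype G] (χ : G → ℂ) : fs χ = H6.fsInd χ := by
  rw [fs, H6.fsInd_def, finsum_eq_sum_of_fintype]

theorem real_of_fs {χ : G → ℂ} (hχ : IsIrrCharacter G χ) (h : fs χ = 1) (g : G) :
    (χ g).im = 0 := by
  letI := Fintype.ofFinite G
  refine (H6.conj_eq_iff_im_eq_zero χ).mp ?_ g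
  by_contra e
  rw [fs_eq, H6.fsInd_of_not_real hχ e] at h
  exact zero_ne_one h

theorem fs_eq_of_odd (f : H →* G) {χ : G → ℂ} (hχ : IsIrrCharacter G χ) (h1 : ∀ g, (χ g).im = 0)
    {φ : H → ℂ} (hφ : IsIrrCharacter H φ) (h2 : ∀ g, (φ g).im = 0) {m : ℕ}
    (hm : ip (fun x => χ (f x)) φ = m) (ho : Odd m) : fs χ = fs φ := by
  letI := Fintype.ofFinite G
  letI := Fintype.ofFinite H
  rw [fs_eq, fs_eq, fsInd_eq_of_odd f hχ h1 hφ h2 hm ho]

theorem real_iff_star {X : Type*} (χ : X → ℂ) : (∀ g, (χ g).im = 0) ↔ star χ = χ :=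
  (H6.conj_eq_iff_im_eq_zero χ).symm

theorem real_ind (f : H →* G) {θ : H → ℂ} (h : ∀ g, (θ g).im = 0) (g : G) : (ind f θ g).im = 0 :=
  (real_iff_star _).mpr (by rw [← ind_star, (real_iff_star θ).mp h]) g

theorem fs_linear {χ : G → ℂ} (hχ : IsCharacter G χ) (h1 : χ 1 = 1) (h : ∀ g, (χ g).im = 0) :
    fs χ = 1 := by
  letI := Fintype.ofFinite G
  rw [fs_eq]
  exact fsInd_eq_one_of_odd (irr_of_char_one hχ h1) h (d := 1) (by simpa using h1) odd_one

theorem card_le_mul_of_fiber {A B : Type*} [Finite A] [Finite B] (F : A → B) {n : ℕ}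
    (h : ∀ a, Nat.card {x // F x = F a} ≤ n) : Nat.card A ≤ n * Nat.card B := by
  classical
  letI := Fintype.ofFinite A
  letI := Fintype.ofFinite B
  rw [Nat.card_eq_fintype_card, Nat.card_eq_fintype_card]
  refine (Finset.card_le_mul_card_image (f := F) Finset.univ n fun b hb => ?_).trans
    (Nat.mul_le_mul_left _ (Finset.card_le_univ _))
  obtain ⟨a, -, rfl⟩ := Finset.mem_image.mp hb
  rw [← Fintype.card_subtype, ← Nat.card_eq_fintype_card]
  exact h a

/-- Multiplying an induced extension by linear characters. -/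
theorem card_lin_le {N : Type*} [Group N] [Finite N] {f : N →* G} (hf : IsNE f) {k : N →* H}
    {ι : H →* G} (hι : Function.Injective ι) (hk : ∀ n, ι (k n) = f n) {ψ : H → ℂ}
    (hψ : IsIrrCharacter H ψ) (hθ : IsIrrCharacter N fun n => ψ (k n))
    (hT : hf.inertia (fun n => ψ (k n)) ≤ ι.range) (hN : f.range ≤ commutator G)
    (P Q : (G → ℂ) → Prop) (hP : ∀ χ, P χ → charDegree χ = 1)
    (hQ : ∀ χ, IsIrrCharacter G χ → P χ → IsIrrCharacter G (ind ι ψ * χ) → Q (ind ι ψ * χ)) :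
    Nat.card {χ : IrrCharacter G // P χ} ≤ ι.range.index * Nat.card {χ : IrrCharacter G // Q χ} := by
  classical
  haveI := finite_irr G
  have h0 : IsIrrCharacter G (ind ι ψ) :=
    hf.corr_irr hι hk hθ hT hψ (by rw [ip_irr_self hθ]; exact one_ne_zero)
  have h1 : ∀ χ : {χ : IrrCharacter G // P χ}, χ.1.1 1 = 1 := fun χ => by
    rw [char_one_eq (irr_char χ.1.2), hP _ χ.2, Nat.cast_one]
  have h2 := fun χ : {χ : IrrCharacter G // P χ} => irr_mul_linear h0 (irr_char χ.1.2) (h1 χ)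
  refine card_le_mul_of_fiber (fun χ : {χ : IrrCharacter G // P χ} =>
    (⟨⟨_, h2 χ⟩, hQ _ χ.1.2 χ.2 (h2 χ)⟩ : {χ : IrrCharacter G // Q χ})) fun a => ?_
  have h3 := card_constituents_le (char_ind ι (char_one (G := H)))
  rw [deg_ind hι char_one, charDegree_eq (d := 1) (by simp), mul_one,
    ← Nat.card_eq_finsetCard] at h3
  refine le_trans (Nat.card_le_card_of_injective (fun x => ⟨x.1.1.1 * star a.1.1, ?mem⟩)
    fun x y e => ?inj) h3
  case mem =>
    have h4 : ∀ χ : {χ : IrrCharacter G // P χ}, (fun n => (ψ * fun x => χ.1.1 (ι x)) (k n)) =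
        fun n => ψ (k n) := fun χ => funext fun n => by
      rw [Pi.mul_apply, hk, H6.apply_eq_of_mem_charKer ((deg_eq_one_iff χ.1.2).mp (hP _ χ.2)
        (hN ⟨n, rfl⟩)), h1, mul_one]
    have h5 := fun χ : {χ : IrrCharacter G // P χ} => irr_mul_linear hψ
      (char_comp ι (irr_char χ.1.2)) (by rw [map_one, h1])
    have h6 : (ψ * fun y => x.1.1.1 (ι y)) = ψ * fun y => a.1.1 (ι y) :=
      hf.corr_inj hι hk hθ hT (h5 _) (by rw [h4, ip_irr_self hθ]; exact one_ne_zero) (h5 _)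
        (by rw [h4, ip_irr_self hθ]; exact one_ne_zero) (by
          rw [ind_mul_comp _ _ (irr_cf x.1.1.2), ind_mul_comp _ _ (irr_cf a.1.2)]
          exact congrArg (fun t => t.1.1) x.2)
    have h7 := irr_mul_linear x.1.1.2 (char_star (irr_char a.1.2)) (by simp [h1])
    rw [Finset.mem_filter]
    refine ⟨mem_irrSet.mpr h7, ?_⟩
    have h8 := ip_mul_mul_of_irr k hψ (char_comp ι (irr_char x.1.1.2)) (char_comp ι (irr_char a.1.2))
      irr_one (by simpa using hθ) (a := 1) (b := 1)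
      (funext fun n => by
        simp [hk, H6.apply_eq_of_mem_charKer ((deg_eq_one_iff x.1.1.2).mp (hP _ x.1.2)
          (hN ⟨n, rfl⟩)), h1])
      (funext fun n => by
        simp [hk, H6.apply_eq_of_mem_charKer ((deg_eq_one_iff a.1.2).mp (hP _ a.2)
          (hN ⟨n, rfl⟩)), h1])
    rw [mul_comm _ ψ, mul_comm _ ψ, h6, ip_irr_self (h5 _), ← ip_one_right_eq] at h8
    rw [ip_ind_left _ _ (irr_cf h7), ip_ne_zero_comm]
    exact fun e => one_ne_zero (h8.trans e)
  case inj =>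
    have h4 := congrArg (· * a.1.1) (congrArg Subtype.val e)
    simp only [mul_assoc, mul_comm (star a.1.1), linear_mul_star (irr_char a.1.2) (h1 a),
      mul_one] at h4
    exact Subtype.ext (Subtype.ext (Subtype.ext h4))

omit [Finite G] in
theorem le_commutator_of_minimal {N : Subgroup G} [N.Normal]
    (hmin : ∀ M : Subgroup G, M.Normal → M ≤ N → M = ⊥ ∨ M = N) (hna : ¬ IsMulCommutative N) :
    N ≤ commutator G := by
  rcases hmin ⁅N, N⁆ inferInstance (Subgroup.commutator_le_left N N) with h | h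
  · exact absurd ⟨⟨fun a b => Subtype.ext ((Subgroup.commutator_eq_bot_iff_le_centralizer.mp h
      b.2) a a.2)⟩⟩ hna
  · rw [← h]; exact Subgroup.commutator_mono le_top le_top

/-- Mackey's formula for `G = KH` with `K` normal. -/
theorem res_ind_of_sup {H K : Subgroup G} [K.Normal] (h : K ⊔ H = ⊤) {θ : H → ℂ}
    (hθ : IsClassFunction H θ) : (fun x : K => ind H.subtype θ x) =
      ind (Subgroup.inclusion (inf_le_right : H ⊓ K ≤ K))
        fun d => θ (Subgroup.inclusion inf_le_left d) :=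
  ind_comp_of_mul (f := H.subtype) (k := K.subtype) (fun _ => rfl)
    (fun _ _ e _ => Subgroup.inclusion_injective _ e)
    (fun a x e => ⟨(⟨a, a.2, (show (a : G) = x from e) ▸ x.2⟩ : ↥(H ⊓ K)), rfl, Subtype.ext e⟩)
    (fun g => by
      obtain ⟨x, hx, y, hy, rfl⟩ := Subgroup.mem_sup_of_normal_left.mp (h ▸ Subgroup.mem_top g)
      exact ⟨⟨y, hy⟩, ⟨x, hx⟩, rfl⟩) hθ

/-- A function vanishing off the identity. -/
theorem ip_one_of_vanish {φ : G → ℂ} (h : ∀ g, g ≠ 1 → φ g = 0) :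
    ip φ 1 = (Nat.card G : ℂ)⁻¹ * φ 1 := by
  letI := Fintype.ofFinite G
  rw [ip_def, Finset.sum_eq_single 1 (fun g _ e => by simp [h g e]) (by simp)]
  simp

end FS

end Cfsg.Agent.H7
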