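import Mathlib
import Cfsg.Agent.H17.Lie
import Cfsg.Agent.H12.CR5

/-! Blocks in the defining characteristic have defect zero or full defect. -/

set_option autoImplicit false
set_option linter.unusedSectionVars false

namespace Cfsg.Agent.H7

open H12 H12.RGD H17 H9 Subgroup MonoidAlgebra

variable {G : Type*} [Group G] [Finite G] {p : ℕ} [Fact p.Prime]

variable (p G) in
/-- `p'`-elements centralising a non-trivial radical `p`-subgroup are central -/
def RadZ : Prop := ∀ D : Subgroup G, IsPGroup p D → D ≠ ⊥ → (∀ Q : Subgroup G, IsPGroup p Q →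
  Q ≤ normalizer (D : Set G) → normalizer (D : Set G) ≤ normalizer (Q : Set G) → Q ≤ D) →
  ∀ c ∈ centralizer (D : Set G), ¬ p ∣ orderOf c → c ∈ center G

theorem le_of_rad {D U : Subgroup G} (hD : IsPGroup p D) (hU : IsPGroup p U)
    (hr : ∀ Q : Subgroup G, IsPGroup p Q →
      Q ≤ normalizer (D : Set G) → normalizer (D : Set G) ≤ normalizer (Q : Set G) → Q ≤ D)
    (h : normalizer (D : Set G) ≤ normalizer (U : Set G)) : U ≤ D := by
  have hE : IsPGroup p (D ⊔ U : Subgroup G) :=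
    hD.to_sup_of_normal_right' hU (le_normalizer.trans h)
  by_contra hn
  obtain ⟨x, h1, h2, h3⟩ := exists_lt_normalizer hE (Q := D)
    (lt_of_le_of_ne le_sup_left fun e => hn (le_sup_right.trans e.ge))
  refine h3 (hr ((D ⊔ U) ⊓ normalizer (D : Set G)) (hE.to_le inf_le_left) inf_le_right
    (fun y hy => inf_normalizer_le_normalizer_inf ⟨?_, le_normalizer hy⟩) ⟨h1, h2⟩)
  exact normalizer_inf_normalizer_le_normalizer_sup D U ⟨hy, h hy⟩

theorem quot_faithful (L : LD p G) : ∀ t ∈ L.quot.X.T,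
    (∀ r, ∀ u ∈ L.quot.X.U r, t * u = u * t) → t = 1 := by
  rintro _ ⟨t, ht, rfl⟩ h
  have : L.X.US Set.univ ≤ centralizer {t} := US_le.2 fun r _ u hu => by
    have h1 := h r _ ⟨u, hu, rfl⟩
    have h2 : t * u * t⁻¹ * u⁻¹ ∈ center G := by
      rw [← QuotientGroup.eq_one_iff]
      change QuotientGroup.mk' (center G) _ = 1
      rw [map_mul, map_mul, map_mul, h1]; simp
    have := eq_one_of_mem_U_T (mul_mem (L.X.T_conj t ht r u hu) (inv_mem hu))
      (center_le_T L.X L.top h2)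
    refine mem_centralizer_singleton_iff.2 ?_
    rw [mul_inv_eq_one, mul_inv_eq_iff_eq_mul] at this
    exact this.symm
  exact (QuotientGroup.eq_one_iff _).2 (mem_center_iff.2 fun g =>
    mem_centralizer_singleton_iff.1 (this (L.gen.ge (mem_top g))))

theorem mem_center_of_cent_UJ {L : LD p G} (hL : L.Nice) {J : Set L.I} (hJ : ∃ i, i ∉ J) {c : G}
    (hc : c ∈ centralizer (L.X.UJ J : Set G)) (ho : ¬ p ∣ orderOf c) : c ∈ center G := by
  have h1 : QuotientGroup.mk' (center G) c ∈ L.quot.X.UJ J :=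
    cent_UJ_le L.quot.char L.quot.top hL.1 (quot_faithful L) hJ (by
      intro y hy
      have hy' : y ∈ (L.X.UJ J).map (QuotientGroup.mk' (center G)) := 
        (rmap_UJ L.X _ (L.ker_le (QuotientGroup.ker_mk' _).le) J).le hy
      obtain ⟨y, hy2, rfl⟩ := hy'
      rw [← map_mul, hc y hy2, map_mul])
  obtain ⟨n, hn⟩ := L.quot.char.UJ J ⟨_, h1⟩
  rw [← QuotientGroup.eq_one_iff]
  exact orderOf_eq_one_iff.1 (Nat.eq_one_of_dvd_coprimes
    (((Nat.Prime.coprime_iff_not_dvd Fact.out).2 ho).pow_left n)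
    (orderOf_dvd_of_pow_eq_one (congrArg Subtype.val hn))
    (orderOf_map_dvd (QuotientGroup.mk' (center G)) c))

theorem radZ_of_ld {L : LD p G} (hL : L.Nice) : RadZ G p := fun D hD hne hr c hc ho => by
  obtain ⟨g, J, hJ, e⟩ := hL.2.2 D hD hne
  have h1 := le_of_rad hD ((L.char.UJ J).map (MulAut.conj g).symm.toMonoidHom) hr fun y hy => by
    rw [← map_normalizer_equiv]
    exact ⟨_, PJ_le_normalizer J (e ⟨y, hy, rfl⟩), by simp [mul_assoc]⟩
  have h2 := mem_center_of_cent_UJ hL hJ (c := g * c * g⁻¹) (fun y hy => by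
    have := hc _ (h1 ⟨y, hy, rfl⟩)
    simp only [MulEquiv.coe_toMonoidHom, MulAut.conj_symm_apply] at this
    calc y * (g * c * g⁻¹) = g * (g⁻¹ * y * g * c) * g⁻¹ := by group
      _ = _ := by rw [this]; group) (by rwa [← MulAut.conj_apply, MulEquiv.orderOf_eq])
  have h3 := mem_center_iff.1 h2 g⁻¹
  have : c = g * c * g⁻¹ := by
    calc c = g⁻¹ * (g * c * g⁻¹) * g := by group
      _ = _ := by rw [h3]; group
  exact this ▸ h2

theorem RadZ.blockDefect_eq (hC : RadZ G p) {M : Ideal AlgInt} (hM : IsPModular p M)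
    {B : Set (IrrCharacter G)} (hB : IsPBlock M B) :
    blockDefect p B = 0 ∨ blockDefect p B = (Nat.card G).factorization p := by
  have := hM.2.1
  have : PMod M p := ⟨hM⟩
  obtain ⟨D, hD⟩ := H9.exists_isDefectGroup hB
  obtain ⟨S⟩ := Sylow.nonempty (p := p) (G := G)
  refine or_iff_not_imp_left.2 fun h => ?_
  rw [H8.blockDefect_eq_zero_iff PMod.out hB hD] at h
  have h1 := (isDefectGroup_iff hB).1 hD
  obtain ⟨c, hc, h3⟩ := trunc_ne_zero_iff.1 h1.br_ne
  have h4 := hC D h1.isP h (fun Q => isDef_radical (H9.isBlk_eB hB) h1) c hc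
    (H8.not_dvd_of_coeff_eB_ne_zero PMod.out (H8.isBlockUnion_of_block hB) h3)
  have h2 := h1.card_le le_top S.isPGroup' (trunc_ne_zero_iff.2
    ⟨c, fun y _ => mem_center_iff.1 h4 y, h3⟩)
  rw [S.card_eq_multiplicity, H8.card_defectGroup PMod.out hB hD,
    pow_le_pow_iff_right₀ (Fact.out : p.Prime).one_lt] at h2
  exact le_antisymm (Nat.sub_le ..) h2

theorem st_r3 {n : ℕ} {K : Type*} [Field K] : (TA.st n K).R3 := fun r t u ht hu => TA.mx_inj (by
  rw [map_mul, TA.st_h r ht, TA.st_h r hu, TA.st_h r (mul_ne_zero ht hu),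
    Matrix.diagonal_mul_diagonal]
  congr; ext j
  split_ifs <;> simp [mul_comm])

theorem sl_card_defect_zero {F : Type*} [Field F] [Fintype F] {n : ℕ} [CharP F p]
    {M : Ideal AlgInt} (hM : IsPModular p M) :
    Nat.card {B : Set (IrrCharacter (Matrix.SpecialLinearGroup (Fin (n + 1)) F)) //
      IsPBlock M B ∧ blockDefect p B = 0} = 1 := by
  classical
  have := hM.2.1
  have : PMod M p := ⟨hM⟩
  have h1 : blockDefect p (blockOf M (TA.rgd n F).stc) = 0 :=
    (blockDefect_blockOf (M := M) ⟨_, RGD.isIrr_stc TA.rgd_top⟩).2 (by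
      rw [H7.charDegree_eq (RGD.stc_one TA.rgd_top), (TA.charP p).card_Up TA.rgd_top,
        (Fact.out : p.Prime).factorization_pow, Finsupp.single_eq_same])
  refine Nat.card_eq_one_iff_exists.2 ⟨⟨_, H8.isPBlock_blockOf ⟨_, RGD.isIrr_stc TA.rgd_top⟩, h1⟩,
    fun B => Subtype.ext ?_⟩
  exact (StSys.cor TA.st_nc TA.st_nm st_r3).eq_of_blockDefect TA.rgd_top (TA.charP p)
    (StSys.NC.T_comm TA.st_nc st_r3) (StSys.cor_gen _ _ _) B.2.1
    (H8.isPBlock_blockOf ⟨_, RGD.isIrr_stc TA.rgd_top⟩) B.2.2 h1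

theorem radZ_sl {F : Type*} [Field F] [Fintype F] {n : ℕ} [CharP F p] (hn : 0 < n) :
    RadZ (Matrix.SpecialLinearGroup (Fin (n + 1)) F) p :=
  radZ_of_ld (L := ldSL F p n) ⟨TA.irred, ⟨(⟨0, hn⟩ : Fin n)⟩, bt_int (TA.charP p) TA.rgd_top⟩

end Cfsg.Agent.H7
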