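import Cfsg.Agent.H8.Height
import Cfsg.Agent.H8.PPart
import Cfsg.Agent.H9.Contr
import Cfsg.Agent.H6.Column

/-! Congruences of character values and `p`-regular parts. -/

namespace Cfsg.Agent.H7

open Subgroup Cfsg.Agent.H8
open scoped ComplexConjugate

theorem m1_sum_pow {R : Type*} [CommRing R] {p : ℕ} (hp : p.Prime) (a : ℕ) {ι : Type*}
    (s : Finset ι) (f : ι → R) : ∃ r : R, (∑ i ∈ s, f i) ^ p ^ a = ∑ i ∈ s, f i ^ p ^ a + p * r := by
  classical
  induction s using Finset.induction_on with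
  | empty => exact ⟨0, by simp [hp.ne_zero]⟩
  | insert i s hi ih =>
    obtain ⟨r, hr⟩ := ih
    obtain ⟨t, ht⟩ := exists_add_pow_prime_pow_eq hp (f i) (∑ i ∈ s, f i) a
    rw [Finset.sum_insert hi, Finset.sum_insert hi, ht, hr]
    exact ⟨r + f i * (∑ i ∈ s, f i) * t, by ring⟩

theorem m1_orderOf {G : Type*} [Group G] {a b : G} (h : IsConj a b) : orderOf a = orderOf b := by
  obtain ⟨c, rfl⟩ := isConj_iff.1 h
  exact (MulAut.conj c).orderOf_eq a |>.symm

variable {G : Type*} [Group G] [Finite G]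

theorem m1_char_pow {p : ℕ} (hp : p.Prime) (a : ℕ) {χ : G → ℂ} (hχ : IsCharacter G χ) (g : G) :
    ∃ r : AlgInt, χ g ^ p ^ a = χ (g ^ p ^ a) + p * (r : ℂ) := by
  obtain ⟨n, ε, -, h1, h2⟩ := H6.isCharacter_exists_roots hχ g
  let e : Fin n → AlgInt := fun i =>
    ⟨ε i, H6.isIntegral_of_pow_eq_one (orderOf_pos g).ne' (h1 i)⟩
  obtain ⟨r, hr⟩ := m1_sum_pow hp a Finset.univ e
  refine ⟨r, ?_⟩
  have h3 := h2 1
  have h4 := h2 ((p ^ a : ℕ) : ℤ)
  simp only [zpow_one, zpow_natCast] at h3 h4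
  rw [h3, h4]
  have := congrArg (fun z : AlgInt => (z : ℂ)) hr
  simpa [e] using this

theorem m1_conj_of_rd {p : ℕ} [hp : Fact p.Prime] {M : Ideal AlgInt} [M.IsMaximal]
    (hM : IsPModular p M) {x y : G} (hx : ¬ p ∣ orderOf x) (hy : ¬ p ∣ orderOf y)
    (h : ∀ χ : IrrCharacter G, rd M ((χ : G → ℂ) x) = rd M ((χ : G → ℂ) y)) : IsConj x y := by
  classical
  by_contra hxy
  haveI := Fintype.ofFinite G
  let θ : G → ℂ := ∑ χ : IrrCharacter G, ((χ : G → ℂ) x - (χ : G → ℂ) y) • (χ : G → ℂ)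
  have hθ : ∀ g, θ g⁻¹ = ∑ χ : IrrCharacter G, (χ : G → ℂ) x * conj ((χ : G → ℂ) g) -
      ∑ χ : IrrCharacter G, (χ : G → ℂ) y * conj ((χ : G → ℂ) g) := by
    intro g
    simp only [θ, Finset.sum_apply, Pi.smul_apply, smul_eq_mul, ← Finset.sum_sub_distrib]
    refine Finset.sum_congr rfl fun χ _ => ?_
    rw [H6.isIrr_inv χ.2, sub_mul]
  have hcf : IsClassFunction G θ := by
    intro a b
    simp only [θ, Finset.sum_apply, Pi.smul_apply, smul_eq_mul]
    refine Finset.sum_congr rfl fun χ _ => ?_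
    rw [H6.isClassFunction_of_isGen (H6.isGen_of_irr χ.2) a b]
  have h0 : ∀ g, p ∣ orderOf g → θ g = 0 := by
    intro g hg
    have := hθ g⁻¹
    rw [inv_inv] at this
    rw [this, H6.sum_irr_mul_conj_of_not_isConj, H6.sum_irr_mul_conj_of_not_isConj, sub_zero]
    · intro hc
      apply hy
      rwa [m1_orderOf hc, orderOf_inv]
    · intro hc
      apply hx
      rwa [m1_orderOf hc, orderOf_inv]
  have hi : ∀ χ : IrrCharacter G, MemLocalIdeal M (classInner θ (χ : G → ℂ)) := by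
    intro χ
    rw [H6.classInner_sum_smul_irr, if_pos (Finset.mem_univ _),
      memLocalIdeal_sub_iff (irr_mem_locRing χ x) (irr_mem_locRing χ y)]
    exact h χ
  obtain ⟨P⟩ : Nonempty (Sylow p (centralizer ({x} : Set G))) := inferInstance
  have hD : (P : Subgroup (centralizer ({x} : Set G))).map (centralizer ({x} : Set G)).subtype ≤
      centralizer {x⁻¹} := by
    rintro _ ⟨z, -, rfl⟩ w hw
    rw [Set.mem_singleton_iff] at hw
    subst hw
    have := z.2 x rfl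
    exact (Commute.inv_left this)
  have := rd_div_card_eq_zero hcf h0 hi (x := x⁻¹) (by rwa [orderOf_inv]) hD
    (P.isPGroup'.map _)
  rw [hθ, H6.sum_irr_mul_conj_of_isConj (IsConj.refl x),
    H6.sum_irr_mul_conj_of_not_isConj (fun hc => hxy hc.symm), sub_zero,
    card_map_of_injective (subtype_injective _), ← card_mul_index (P : Subgroup _),
    Nat.cast_mul, mul_div_cancel_left₀ _ (by exact_mod_cast Nat.card_pos.ne'),
    rd_natCast_eq_zero_iff hM] at this
  exact P.not_dvd_index this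

theorem s4604 (p : ℕ) [hp : Fact p.Prime] (x y x' y' : G)
    (hx : (∃ k : ℕ, orderOf (x * x'⁻¹) = p ^ k) ∧ Commute (x * x'⁻¹) x' ∧ ¬ p ∣ orderOf x')
    (hy : (∃ k : ℕ, orderOf (y * y'⁻¹) = p ^ k) ∧ Commute (y * y'⁻¹) y' ∧ ¬ p ∣ orderOf y') :
    IsConj x' y' ↔ ∀ χ : IrrCharacter G, ∃ γ : AlgInt,
      (χ : G → ℂ) x ^ (p ^ (Nat.card G).factorization p) -
        (χ : G → ℂ) y ^ (p ^ (Nat.card G).factorization p) = (p : ℂ) * (γ : ℂ) := by
  set a := (Nat.card G).factorization p with ha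
  have key : ∀ x x' : G, (∃ k : ℕ, orderOf (x * x'⁻¹) = p ^ k) → Commute (x * x'⁻¹) x' →
      x ^ p ^ a = x' ^ p ^ a := by
    rintro x x' ⟨k, hk⟩ hc
    have h1 : (x * x'⁻¹) ^ p ^ a = 1 := by
      rw [← orderOf_dvd_iff_pow_eq_one, hk]
      refine pow_dvd_pow p ?_
      rw [ha, ← hp.out.pow_dvd_iff_le_factorization Nat.card_pos.ne', ← hk]
      exact orderOf_dvd_natCard _
    have := hc.mul_pow (p ^ a)
    rwa [h1, one_mul, inv_mul_cancel_right] at this
  constructor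
  · intro hc χ
    have hch := H6.isCharacter_of_irr χ.2
    obtain ⟨r, hr⟩ := m1_char_pow hp.out a hch x
    obtain ⟨s, hs⟩ := m1_char_pow hp.out a hch y
    refine ⟨r - s, ?_⟩
    rw [hr, hs, key x x' hx.1 hx.2.1, key y y' hy.1 hy.2.1,
      H6.isClassFunction_eq_of_isConj (H6.isClassFunction_of_isGen (H6.isGen_of_irr χ.2))
        (hc.pow (p ^ a))]
    push_cast
    ring
  · intro h
    obtain ⟨M, hM⟩ := H9.exists_pmod p
    haveI := hM.2.1
    haveI : H9.PMod M p := ⟨hM⟩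
    refine m1_conj_of_rd hM hx.2.2 hy.2.2 fun χ => ?_
    have e1 : pReg p x = x' := by
      have := pReg_mul hx.1 hx.2.2 hx.2.1
      rwa [inv_mul_cancel_right] at this
    have e2 : pReg p y = y' := by
      have := pReg_mul hy.1 hy.2.2 hy.2.1
      rwa [inv_mul_cancel_right] at this
    rw [← e1, ← e2, ← rd_irr_eq_pReg hM, ← rd_irr_eq_pReg hM]
    obtain ⟨γ, hγ⟩ := h χ
    have h1 := congrArg (rd M) hγ
    rw [rd_sub (pow_mem (irr_mem_locRing χ x) _) (pow_mem (irr_mem_locRing χ y) _),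
      rd_pow (irr_mem_locRing χ x), rd_pow (irr_mem_locRing χ y),
      rd_mul (natCast_mem _ p) (algInt_mem_locRing M γ), (rd_natCast_eq_zero_iff hM p).2 dvd_rfl,
      zero_mul, ← sub_pow_char_pow] at h1
    exact sub_eq_zero.1 (pow_eq_zero_iff (pow_ne_zero _ hp.out.ne_zero) |>.1 h1)

end Cfsg.Agent.H7
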