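import Cfsg.Agent.H6.Central
import Cfsg.Agent.H6.Column
import Cfsg.Agent.H3.Extra
import Cfsg.Agent.H3.Cyclic
import Cfsg.Agent.H3.HallPetrescu
import Cfsg.Agent.H8.CharBase
import Cfsg.Agent.H4.PComp
import Cfsg.Agent.H2.Subnormal
import Cfsg.Agent.H7.Deg3

/-! `p`-groups whose nonlinear characters of the same degree have the same kernel. -/

namespace Cfsg.Agent.H7

open Subgroup Cfsg.Agent.H6
open scoped commutatorElement ComplexConjugate

universe u
variable {G : Type u} [Group G] [Finite G] {p : ℕ} [hp : Fact p.Prime] {χ ψ : G → ℂ}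

theorem m4_cf (hχ : IsIrrCharacter G χ) : IsClassFunction G χ :=
  isClassFunction_of_isGen (isGen_of_irr hχ)

theorem m4_deg (hχ : IsIrrCharacter G χ) : χ 1 = (charDegree χ : ℂ) := H8.irr_one_eq ⟨χ, hχ⟩

theorem m4_one_ne (hχ : IsIrrCharacter G χ) : χ 1 ≠ 0 := by
  intro h
  have h1 := degree_dvd_card hχ (n := 0) (by simpa using h)
  exact Nat.card_pos.ne' (Nat.eq_zero_of_zero_dvd h1)

theorem m4_vanish (hχ : IsIrrCharacter G χ) {g y : G} (h1 : ⁅y, g⁆ ∈ charCenter χ)
    (h2 : ⁅y, g⁆ ∉ charKer χ) : χ g = 0 := by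
  obtain ⟨c, -, hc⟩ := h1
  have e : χ (⁅y, g⁆ * g) = χ g := by
    rw [show ⁅y, g⁆ * g = y * g * y⁻¹ by simp [commutatorElement_def]]
    exact m4_cf hχ _ _
  rw [hc] at e
  by_contra h0
  have : c = 1 := by
    have := mul_right_cancel₀ h0 (e.trans (one_mul _).symm)
    exact this
  apply h2
  intro x
  rw [hc, this, one_mul]

theorem m4_sq_eq (hχ : IsIrrCharacter G χ) (h : commutator G ≤ charCenter χ) :
    charDegree χ ^ 2 = (charCenter χ).index := by
  rw [degree_sq_eq_index_charCenter_iff hχ (m4_deg hχ)]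
  intro g hg
  rw [mem_charCenter_iff_commutator hχ] at hg
  push Not at hg
  obtain ⟨y, hy⟩ := hg
  refine m4_vanish hχ (y := y) (h (commutator_mem_commutator (mem_top _) (mem_top _))) ?_
  intro hm
  apply hy
  rw [← commutatorElement_inv]
  exact inv_mem hm

theorem m4_deg_pow (hG : IsPGroup p G) (hχ : IsIrrCharacter G χ) : ∃ s, charDegree χ = p ^ s := by
  obtain ⟨n, hn⟩ := hG.exists_card_eq
  have := degree_dvd_card hχ (m4_deg hχ)
  rw [hn] at this
  obtain ⟨s, -, hs⟩ := (Nat.dvd_prime_pow hp.out).1 this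
  exact ⟨s, hs⟩

/-- nonlinear irreducible characters of the same degree have the same kernel -/
def KP (G : Type u) [Group G] : Prop :=
  ∀ χ ψ : G → ℂ, IsIrrCharacter G χ → IsIrrCharacter G ψ → χ 1 ≠ 1 → χ 1 = ψ 1 →
    charKer χ ≤ charKer ψ

theorem KP.ker_le (h : KP G) (hχ : IsIrrCharacter G χ) (h1 : χ 1 ≠ 1) :
    charKer χ ≤ commutator G := by
  intro g hg
  refine mem_of_forall_irr_charKer _ fun ψ hψ hle => ?_
  obtain ⟨lam, rfl⟩ := exists_linear_of_degree_one (isCharacter_of_irr hψ)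
    ((degree_eq_one_iff_commutator_le hψ).2 hle)
  have h2 := isIrr_linear_mul lam hχ
  have h3 := h χ _ hχ h2 h1 (by simp) hg
  rw [mem_charKer_iff_irr h2, (mem_charKer_iff_irr hχ).1 hg] at h3
  rw [mem_charKer_iff_irr hψ]
  exact mul_right_cancel₀ (m4_one_ne hχ) h3

theorem KP.quot (h : KP G) (N : Subgroup G) [N.Normal] : KP (G ⧸ N) := by
  intro χ ψ hχ hψ h1 h2 x hx
  obtain ⟨g, rfl⟩ := QuotientGroup.mk_surjective x
  have h3 := h _ _ (isIrr_inflate N hχ) (isIrr_inflate N hψ) h1 h2
  rw [mem_charKer_iff_irr hχ] at hx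
  rw [mem_charKer_iff_irr hψ]
  exact (mem_charKer_iff_irr (isIrr_inflate N hψ)).1
    (h3 ((mem_charKer_iff_irr (isIrr_inflate N hχ)).2 hx))

theorem m4_exists_nonlin (N : Subgroup G) [N.Normal] (h : ¬ commutator G ≤ N) :
    ∃ χ, IsIrrCharacter G χ ∧ χ 1 ≠ 1 ∧ N ≤ charKer χ := by
  by_contra hc
  push Not at hc
  apply h
  intro g hg
  refine mem_of_forall_irr_charKer N fun χ hχ hle => ?_
  by_cases h1 : χ 1 = 1
  · exact (degree_eq_one_iff_commutator_le hχ).1 h1 hg
  · exact absurd hle (hc χ hχ h1)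

omit hp in
theorem m4_eq_of_prime {A B C : Subgroup G} (hp : p.Prime) (h1 : A ≤ B) (h2 : B ≤ C)
    (h : Nat.card C = p * Nat.card A) : B = A ∨ B = C := by
  obtain ⟨a, ha⟩ := card_dvd_of_le h1
  obtain ⟨b, hb⟩ := card_dvd_of_le h2
  have h0 : 0 < Nat.card A := Nat.card_pos
  have : a * b = p := by
    rw [ha, h, mul_assoc, mul_comm p] at hb
    exact (Nat.eq_of_mul_eq_mul_left h0 hb).symm
  rcases hp.eq_one_or_self_of_dvd a ⟨b, this.symm⟩ with e | e
  · left
    exact (eq_of_le_of_card_ge h1 (by rw [ha, e, mul_one])).symm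
  · right
    exact eq_of_le_of_card_ge h2 (by rw [ha, h, e, mul_comm])

omit [Finite G] in
theorem m4_parity {s t : ℕ} (h : (p ^ s) ^ 2 ≤ p * (p ^ t) ^ 2) : s ≤ t := by
  rw [← pow_mul, ← pow_mul, ← pow_succ'] at h
  have := (pow_le_pow_iff_right₀ hp.out.one_lt).1 h
  omega

theorem m4_index_le {A B : Subgroup G} {k : ℕ} (h : Nat.card B ≤ k * Nat.card A) :
    A.index ≤ k * B.index := by
  have h1 := card_mul_index A
  have h2 := card_mul_index B
  have h0 : 0 < Nat.card A := Nat.card_pos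
  refine Nat.le_of_mul_le_mul_left ?_ h0
  rw [h1, ← h2]
  calc Nat.card B * B.index ≤ k * Nat.card A * B.index := Nat.mul_le_mul_right _ h
    _ = _ := by ring

theorem m4_data (hG : IsPGroup p G) (hK : KP G) (hc : Nat.card (commutator G) = p * p)
    {N : Subgroup G} (hZ : N ≤ center G) (hN : N ≤ commutator G) (hNp : Nat.card N = p) :
    ∃ (χ : G → ℂ) (Y : Subgroup G) (y₀ : G), IsIrrCharacter G χ ∧ χ 1 ≠ 1 ∧ charKer χ = N ∧
      (∀ g, g ∈ Y ↔ ∀ x, ⁅g, x⁆ ∈ N) ∧ charDegree χ ^ 2 = Y.index ∧ commutator G ≤ Y ∧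
      center G ≤ Y ∧ (∀ y ∈ Y, y ^ p ∈ center G) ∧ y₀ ∈ Y ∧
      (∀ y ∈ Y, ∃ z ∈ center G, ∃ i : ℤ, y = z * y₀ ^ i) ∧
      Nat.card Y ≤ p * Nat.card (center G) := by
  haveI : N.Normal := H3.normal_of_le_center hZ
  have hne : ¬ commutator G ≤ N := fun h => by
    have := card_le_of_le h
    have h1 := hp.out.one_lt
    rw [hc, hNp] at this
    nlinarith
  obtain ⟨χ, hχ, h1, hle⟩ := m4_exists_nonlin N hne
  have hker : charKer χ = N := by
    rcases m4_eq_of_prime hp.out hle (hK.ker_le hχ h1) (by rw [hc, hNp]) with h | h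
    · exact h
    · exact absurd ((degree_eq_one_iff_commutator_le hχ).2 h.ge) h1
  have hY : ∀ g, g ∈ charCenter χ ↔ ∀ x, ⁅g, x⁆ ∈ N := fun g => by
    rw [mem_charCenter_iff_commutator hχ, hker]
  have hcY : commutator G ≤ charCenter χ := by
    intro a ha
    rw [hY]
    intro x
    have hcard : Nat.card ((commutator G).map (QuotientGroup.mk' N)) = p := by
      rw [H1.card_map_mk]
      have := H3.card_mul_relIndex hN
      rw [hc, hNp] at this
      exact Nat.eq_of_mul_eq_mul_left hp.out.pos this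
    haveI : ((commutator G).map (QuotientGroup.mk' N)).Normal :=
      Normal.map inferInstance _ (QuotientGroup.mk'_surjective N)
    have := H3.le_center_of_normal_card_p (hG.to_quotient N) _ hcard ⟨a, ha, rfl⟩
    rw [← QuotientGroup.eq_one_iff]
    change QuotientGroup.mk' N ⁅a, x⁆ = 1
    rw [map_commutatorElement, commutatorElement_eq_one_iff_mul_comm]
    exact (mem_center_iff.1 this _).symm
  have hpw : ∀ y ∈ charCenter χ, y ^ p ∈ center G := by
    intro y hy
    rw [mem_center_iff]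
    intro x
    have h2 := (hY y).1 hy x
    have h3 : ⁅y, x⁆ ^ p = 1 := by
      have : (⟨_, h2⟩ : N) ^ Nat.card N = 1 := pow_card_eq_one'
      rw [hNp] at this
      exact congrArg Subtype.val this
    rw [← H3.comm_pow_left (mem_center_iff.1 (hZ h2) y),
      commutatorElement_eq_one_iff_mul_comm] at h3
    exact h3.symm
  obtain ⟨lam, -, hlam⟩ := exists_linear_charCenter (m4_one_ne hχ)
  haveI : Finite lam.range := Finite.of_surjective _ lam.rangeRestrict_surjective
  obtain ⟨⟨_, y₀, rfl⟩, hy₀⟩ := IsCyclic.exists_generator (α := lam.range)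
  have hgen : ∀ y ∈ charCenter χ, ∃ z ∈ center G, ∃ i : ℤ, y = z * y₀.1 ^ i := by
    intro y hy
    obtain ⟨i, hi⟩ := hy₀ ⟨lam ⟨y, hy⟩, _, rfl⟩
    have hi' : lam y₀ ^ i = lam ⟨y, hy⟩ := congrArg Subtype.val hi
    refine ⟨y * (y₀.1 ^ i)⁻¹, hZ ?_, i, by simp⟩
    rw [← hker]
    refine (hlam (⟨y, hy⟩ * (y₀ ^ i)⁻¹)).1 ?_
    rw [map_mul, map_inv, map_zpow, hi', mul_inv_cancel]
  refine ⟨χ, charCenter χ, y₀, hχ, h1, hker, hY, m4_sq_eq hχ hcY, hcY, center_le_charCenter hχ,
    hpw, y₀.2, hgen, ?_⟩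
  refine le_trans (card_le_of_le ?_) (H3.card_sup_zpowers_le (K := center G) (x := y₀.1) hp.out
    (by rw [normalizer_eq_top]; exact mem_top _) (hpw _ y₀.2))
  intro y hy
  obtain ⟨z, hz, i, rfl⟩ := hgen y hy
  exact mul_mem (mem_sup_left hz) (mem_sup_right (zpow_mem (mem_zpowers _) i))

omit [Finite G] in
theorem m4_exists_comm {N : Subgroup G} (h : ¬ commutator G ≤ N) : ∃ x y : G, ⁅x, y⁆ ∉ N := by
  by_contra hc
  push Not at hc
  exact h (commutator_le.2 fun x _ y _ => hc x y)

omit [Finite G] in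
theorem m4_comm_mem (x y : G) : ⁅x, y⁆ ∈ commutator G :=
  commutator_mem_commutator (mem_top _) (mem_top _)

theorem KP.no_sq (hG : IsPGroup p G) (hK : KP G) (hc : Nat.card (commutator G) = p * p) :
    False := by
  have hp1 := hp.out.one_lt
  have same : ∀ {χ ψ : G → ℂ} {A B : Subgroup G}, IsIrrCharacter G χ → IsIrrCharacter G ψ →
      charDegree χ ^ 2 ≤ p * charDegree ψ ^ 2 → charDegree ψ ^ 2 ≤ p * charDegree χ ^ 2 →
      χ 1 ≠ 1 → charKer χ ≤ charKer ψ := by
    intro χ ψ A B hχ hψ h1 h2 h3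
    obtain ⟨s, hs⟩ := m4_deg_pow hG hχ
    obtain ⟨t, ht⟩ := m4_deg_pow hG hψ
    rw [hs, ht] at h1 h2
    have := le_antisymm (m4_parity h1) (m4_parity h2)
    refine hK χ ψ hχ hψ h3 ?_
    rw [m4_deg hχ, m4_deg hψ, hs, ht, this]
  by_cases hZ : commutator G ≤ center G
  · by_cases he : ∀ x y : G, ⁅x, y⁆ ^ p = 1
    · have hord : ∀ x y : G, ⁅x, y⁆ ≠ 1 → Nat.card (zpowers ⁅x, y⁆) = p := fun x y h => by
        rw [Nat.card_zpowers]
        exact orderOf_eq_prime (he x y) h
      have hlt : ∀ N : Subgroup G, Nat.card N ≤ p → ¬ commutator G ≤ N := fun N hN h => by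
        have := card_le_of_le h
        rw [hc] at this
        nlinarith
      obtain ⟨a, b, hab⟩ := m4_exists_comm (hlt ⊥ (by rw [card_bot]; exact hp1.le))
      rw [mem_bot] at hab
      obtain ⟨c, d, hcd⟩ := m4_exists_comm (hlt _ (hord a b hab).le)
      have hcd1 : ⁅c, d⁆ ≠ 1 := fun h => hcd (h ▸ one_mem _)
      obtain ⟨χ, Y, -, hχ, h1, k1, -, d1, -, z1, -, -, -, c1⟩ := m4_data hG hK hc
        (zpowers_le.2 (hZ (m4_comm_mem a b))) (zpowers_le.2 (m4_comm_mem a b)) (hord a b hab)
      obtain ⟨ψ, W, -, hψ, h2, k2, -, d2, -, z2, -, -, -, c2⟩ := m4_data hG hK hc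
        (zpowers_le.2 (hZ (m4_comm_mem c d))) (zpowers_le.2 (m4_comm_mem c d)) (hord c d hcd1)
      have := same (A := Y) (B := W) hψ hχ
        (by rw [d1, d2]; exact (index_antitone z2).trans (m4_index_le c1))
        (by rw [d1, d2]; exact (index_antitone z1).trans (m4_index_le c2)) h2
      rw [k1, k2] at this
      exact hcd (this (mem_zpowers _))
    · push Not at he
      obtain ⟨x, y, hxy⟩ := he
      have hcen : ∀ a b c : G, Commute c ⁅a, b⁆ := fun a b c =>
        mem_center_iff.1 (hZ (m4_comm_mem a b)) c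
      have ho : orderOf ⁅x, y⁆ = p ^ 2 := by
        refine orderOf_eq_prime_pow (by simpa using hxy) ?_
        have : (⟨_, m4_comm_mem x y⟩ : commutator G) ^ Nat.card (commutator G) = 1 :=
          pow_card_eq_one'
        rw [hc] at this
        rw [show p ^ (1 + 1) = p * p by ring]
        exact congrArg Subtype.val this
      have hcyc : zpowers ⁅x, y⁆ = commutator G :=
        eq_of_le_of_card_ge (zpowers_le.2 (m4_comm_mem x y))
          (by rw [Nat.card_zpowers, ho, hc, sq])
      have hNp : Nat.card (zpowers (⁅x, y⁆ ^ p)) = p := by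
        rw [Nat.card_zpowers]
        refine orderOf_eq_prime ?_ hxy
        rw [← pow_mul, ← sq, ← ho, pow_orderOf_eq_one]
      obtain ⟨χ, Y, y₀, -, -, -, hY, -, -, -, hpw, hy₀, hgen, -⟩ := m4_data hG hK hc
        (N := zpowers (⁅x, y⁆ ^ p)) (zpowers_le.2 (pow_mem (hZ (m4_comm_mem x y)) p))
        (zpowers_le.2 (pow_mem (m4_comm_mem x y) p)) hNp
      have hpY : ∀ g : G, g ^ p ∈ Y := by
        intro g
        rw [hY]
        intro w
        rw [H3.comm_pow_left (hcen _ _ _)]
        have : ⁅g, w⁆ ∈ zpowers ⁅x, y⁆ := by rw [hcyc]; exact m4_comm_mem _ _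
        obtain ⟨j, hj⟩ := this
        refine ⟨j, ?_⟩
        simp only at hj ⊢
        rw [← hj, ← zpow_natCast, ← zpow_natCast, ← zpow_mul, ← zpow_mul, mul_comm]
      obtain ⟨z, hz, a, ha⟩ := hgen _ (hpY x)
      obtain ⟨z', hz', b, hb⟩ := hgen _ (hpY y)
      have hZC : center G ≤ centralizer {x} := center_le_centralizer _
      have hx : x ^ p ∈ centralizer ({x} : Set G) := by
        rw [mem_centralizer_singleton_iff]
        exact (Commute.refl x).pow_left p
      have h1 : y₀ ^ a ∈ centralizer ({x} : Set G) := by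
        rw [ha] at hx
        exact (mul_mem_cancel_left (hZC hz)).1 hx
      have hpa : ¬ (p : ℤ) ∣ a := by
        rintro ⟨k, rfl⟩
        apply hxy
        rw [← H3.comm_pow_left (hcen _ _ _), commutatorElement_eq_one_iff_mul_comm]
        have : x ^ p ∈ center G := by
          rw [ha, zpow_mul, zpow_natCast]
          exact mul_mem hz (zpow_mem (hpw _ hy₀) _)
        exact (mem_center_iff.1 this y).symm
      have h2 : y₀ ∈ centralizer ({x} : Set G) := by
        obtain ⟨u, v, huv⟩ := (Int.prime_iff_natAbs_prime.2 (by simpa using hp.out)).irreducible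
          |>.coprime_iff_not_dvd.2 hpa
        have : y₀ = (y₀ ^ p) ^ u * (y₀ ^ a) ^ v := by
          rw [← zpow_natCast, ← zpow_mul, ← zpow_mul, ← zpow_add, mul_comm _ u, mul_comm _ v, huv,
            zpow_one]
        rw [this]
        exact mul_mem (zpow_mem (hZC (hpw _ hy₀)) _) (zpow_mem h1 _)
      apply hxy
      rw [← H3.comm_pow_right (hcen _ _ _), commutatorElement_eq_one_iff_mul_comm]
      have : y ^ p ∈ centralizer ({x} : Set G) := by
        rw [hb]
        exact mul_mem (hZC hz') (zpow_mem h2 _)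
      exact (mem_centralizer_singleton_iff.1 this).symm
  · haveI := hG.isNilpotent
    have hne : commutator G ≠ ⊥ := fun h => hZ (h ▸ bot_le)
    set N := commutator G ⊓ center G with hNdef
    have hNp : Nat.card N = p := by
      have h1 : Nat.card N ∣ p ^ 2 := by rw [sq, ← hc]; exact card_dvd_of_le inf_le_left
      obtain ⟨k, hk, hk'⟩ := (Nat.dvd_prime_pow hp.out).1 h1
      interval_cases k
      · exact absurd (card_eq_one.1 (by rw [hk', pow_zero])) (H3.normal_inf_center_ne_bot _ hne)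
      · simpa using hk'
      · exfalso
        apply hZ
        rw [← inf_eq_left]
        exact eq_of_le_of_card_ge inf_le_left (by rw [hk', hc, sq])
    obtain ⟨χ, Y, -, hχ, h1, k1, hY, d1, hcY, z1, -, -, -, c1⟩ := m4_data hG hK hc
      (N := N) inf_le_right inf_le_left hNp
    have hN1 : N ≠ ⊥ := fun h => by rw [h, card_bot] at hNp; omega
    obtain ⟨ψ, hψ, hψN⟩ := exists_irr_not_le_charKer hN1
    have h2 : ψ 1 ≠ 1 := fun h =>
      hψN (inf_le_left.trans ((degree_eq_one_iff_commutator_le hψ).1 h))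
    have hker : charKer ψ = ⊥ := by
      by_contra h
      haveI := charKer_normal (m4_cf hψ)
      have h3 := H3.normal_inf_center_ne_bot _ h
      rcases m4_eq_of_prime hp.out bot_le
        (show charKer ψ ⊓ center G ≤ N from inf_le_inf_right _ (hK.ker_le hψ h2))
        (by rw [hNp, card_bot, mul_one]) with h4 | h4
      · exact h3 h4
      · exact hψN (h4 ▸ inf_le_left)
    have van : ∀ g y : G, ⁅y, g⁆ ∈ center G → ⁅y, g⁆ ≠ 1 → ψ g = 0 := fun g y a b =>
      m4_vanish hψ (center_le_charCenter hψ a) (by rwa [hker, mem_bot])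
    set C := centralizer (commutator G : Set G) with hC
    set A := C ⊓ centralizer (C : Set G) with hA
    have hCC : ⁅⁅C, C⁆, (⊤ : Subgroup G)⁆ = ⊥ := by
      have e1 : ⁅⁅C, (⊤ : Subgroup G)⁆, C⁆ = ⊥ := by
        rw [commutator_comm, commutator_eq_bot_iff_le_centralizer]
        exact centralizer_le (commutator_mono le_top le_rfl)
      refine commutator_commutator_eq_bot_of_rotate e1 ?_
      rw [commutator_comm ⊤ C]
      exact e1
    have hvan : ∀ g, g ∉ A → ψ g = 0 := by
      intro g hg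
      by_cases hgC : g ∈ C
      · have : ¬ ∀ c ∈ C, c * g = g * c := fun h => hg ⟨hgC, h⟩
        push Not at this
        obtain ⟨c, hc, hcg⟩ := this
        refine van g c ?_ (by rwa [Ne, commutatorElement_eq_one_iff_mul_comm])
        rw [commutator_eq_bot_iff_le_centralizer, coe_top, centralizer_univ] at hCC
        exact hCC (commutator_mem_commutator hc hgC)
      · have : ¬ ∀ c ∈ commutator G, c * g = g * c := hgC
        push Not at this
        obtain ⟨c, hc, hcg⟩ := this
        exact van g c ((hY c).1 (hcY hc) g).2 (by rwa [Ne, commutatorElement_eq_one_iff_mul_comm])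
    have hlow : A.index ≤ charDegree ψ ^ 2 := by
      have := index_le_sq_of_vanish (subtype_injective A) hψ (by simpa using hvan)
      simpa using this
    -- an element outside the centraliser
    obtain ⟨a, ha, haZ⟩ := SetLike.not_le_iff_exists.1 hZ
    have hCa : C = centralizer {a} := by
      refine le_antisymm (centralizer_le (Set.singleton_subset_iff.2 ha)) ?_
      have : N ⊔ zpowers a = commutator G := by
        rcases m4_eq_of_prime hp.out (le_sup_left : N ≤ N ⊔ zpowers a)
          (sup_le inf_le_left (zpowers_le.2 ha)) (by rw [hc, hNp]) with h | h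
        · exact absurd (h.le (mem_sup_right (mem_zpowers a))).2 haZ
        · exact h
      intro g hg
      have h3 : commutator G ≤ centralizer {g} := by
        rw [← this]
        refine sup_le (inf_le_right.trans (center_le_centralizer _)) (zpowers_le.2 ?_)
        rw [mem_centralizer_singleton_iff] at hg ⊢
        exact hg.symm
      intro c hc
      exact mem_centralizer_singleton_iff.1 (h3 hc)
    obtain ⟨t, ht⟩ : ∃ t : G, ⁅a, t⁆ ≠ 1 := by
      by_contra h
      push Not at h
      exact haZ (mem_center_iff.2 fun g => (commutatorElement_eq_one_iff_mul_comm.1 (h g)).symm)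
    have haN := (hY a).1 (hcY ha)
    have hgen : ∀ g : G, ∃ c ∈ C, ∃ i : ℤ, g = c * t ^ i := by
      intro g
      have : zpowers ⁅a, t⁆ = N := by
        rcases m4_eq_of_prime hp.out bot_le (zpowers_le.2 (haN t))
          (by rw [hNp, card_bot, mul_one]) with h | h
        · exact absurd (zpowers_eq_bot.1 h) ht
        · exact h
      have h3 : ⁅a, g⁆ ∈ zpowers ⁅a, t⁆ := by rw [this]; exact haN g
      obtain ⟨i, hi⟩ := h3
      simp only at hi
      rw [← H3.comm_zpow_right (mem_center_iff.1 (haN t).2 t)] at hi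
      refine ⟨g * (t ^ i)⁻¹, ?_, i, by simp⟩
      rw [hCa, mem_centralizer_singleton_iff]
      have e1 := mem_center_iff.1 (haN g).2
      have e2 : a * g = ⁅a, g⁆ * (g * a) := by simp [commutatorElement_def, mul_assoc]
      have e3 : a * t ^ i = ⁅a, g⁆ * (t ^ i * a) := by
        rw [← hi]; simp [commutatorElement_def, mul_assoc]
      have e4 : (t ^ i)⁻¹ * a = ⁅a, g⁆ * (a * (t ^ i)⁻¹) := by
        calc (t ^ i)⁻¹ * a = (t ^ i)⁻¹ * (a * t ^ i) * (t ^ i)⁻¹ := by group
          _ = ((t ^ i)⁻¹ * ⁅a, g⁆) * (t ^ i * a) * (t ^ i)⁻¹ := by rw [e3]; group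
          _ = _ := by rw [e1]; group
      calc g * (t ^ i)⁻¹ * a = (g * ⁅a, g⁆) * (a * (t ^ i)⁻¹) := by rw [mul_assoc, e4]; group
        _ = (⁅a, g⁆ * (g * a)) * (t ^ i)⁻¹ := by rw [e1]; group
        _ = _ := by rw [← e2]; group
    haveI : N.Normal := inferInstance
    let π := QuotientGroup.mk' N
    have hcenq : ∀ c ∈ commutator G, ∀ x : G, π x * π c = π c * π x := by
      intro c hc x
      rw [eq_comm, ← commutatorElement_eq_one_iff_mul_comm, ← map_commutatorElement]
      exact (QuotientGroup.eq_one_iff _).2 ((hY c).1 (hcY hc) x)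
    let f : A →* G ⧸ N := MonoidHom.mk' (fun b => π ⁅b.1, t⁆) fun b c => by
      have : ⁅(b * c).1, t⁆ = b.1 * ⁅c.1, t⁆ * b.1⁻¹ * ⁅b.1, t⁆ := by
        simp [commutatorElement_def, mul_assoc]
      rw [this, map_mul, map_mul, map_mul, hcenq _ (m4_comm_mem _ _), map_inv,
        mul_inv_cancel_right, hcenq _ (m4_comm_mem _ _)]
    have hAY : Nat.card A ≤ p * Nat.card Y := by
      rw [← card_mul_index f.ker, index_ker, mul_comm]
      refine Nat.mul_le_mul ?_ ?_
      · have hcard : Nat.card ((commutator G).map π) = p := by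
          rw [H1.card_map_mk]
          have := H3.card_mul_relIndex (show N ≤ commutator G from inf_le_left)
          rw [hc, hNp] at this
          exact Nat.eq_of_mul_eq_mul_left hp.out.pos this
        rw [← hcard]
        refine card_le_of_le ?_
        rintro _ ⟨b, rfl⟩
        exact ⟨_, m4_comm_mem _ _, rfl⟩
      · rw [← H1.card_map_subtype]
        refine card_le_of_le ?_
        rintro _ ⟨b, hb, rfl⟩
        have hb' : ⁅b.1, t⁆ ∈ N := (QuotientGroup.eq_one_iff _).1 hb
        change b.1 ∈ Y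
        rw [hY]
        intro g
        obtain ⟨c, hc, i, rfl⟩ := hgen g
        have e1 : c * b.1 = b.1 * c := b.2.2 c hc
        have : ⁅b.1, c * t ^ i⁆ = c * ⁅b.1, t ^ i⁆ * c⁻¹ := by
          simp only [commutatorElement_def]
          rw [← mul_assoc, ← e1]
          group
        rw [this, H3.comm_zpow_right (mem_center_iff.1 hb'.2 t)]
        exact Normal.conj_mem inferInstance _ (zpow_mem hb' i) c
    have := same (A := Y) (B := Y) hχ hψ
      (by rw [d1]; exact (m4_index_le hAY).trans (Nat.mul_le_mul_left _ hlow))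
      (by rw [d1]; exact (degree_sq_le_index_center hψ (m4_deg hψ)).trans (m4_index_le c1)) h1
    rw [k1, hker] at this
    exact hN1 (eq_bot_iff.2 this)

theorem KP.card_comm_aux (n : ℕ) : ∀ (G : Type u) [Group G] [Finite G], Nat.card G = n →
    IsPGroup p G → KP G → commutator G ≠ ⊥ → Nat.card (commutator G) = p := by
  induction n using Nat.strong_induction_on with
  | _ n ih =>
  intro G _ _ hn hG hK hne
  haveI := hG.isNilpotent
  have h1 := H3.normal_inf_center_ne_bot _ hne
  have hd : p ∣ Nat.card (commutator G ⊓ center G : Subgroup G) :=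
    ((hG.to_subgroup _).card_eq_or_dvd).resolve_left fun h => h1 (card_eq_one.1 h)
  obtain ⟨z, hz⟩ := exists_prime_orderOf_dvd_card' p hd
  have hNp : Nat.card (zpowers z.1) = p := by rw [Nat.card_zpowers, orderOf_coe, hz]
  have hZ : zpowers z.1 ≤ center G := zpowers_le.2 z.2.2
  have hN : zpowers z.1 ≤ commutator G := zpowers_le.2 z.2.1
  haveI := H3.normal_of_le_center hZ
  by_cases h : commutator G ≤ zpowers z.1
  · rw [le_antisymm h hN, hNp]
  exfalso
  have hmap : (commutator G).map (QuotientGroup.mk' (zpowers z.1)) = commutator _ := by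
    rw [_root_.map_commutator_eq, MonoidHom.range_eq_top.2 (QuotientGroup.mk'_surjective _)]
    rfl
  have hlt : Nat.card (G ⧸ zpowers z.1) < n := by
    rw [← hn]
    refine H2.card_quotient_lt_of_ne_bot fun h => ?_
    rw [h, card_bot] at hNp
    exact hp.out.one_lt.ne hNp
  have := ih _ hlt _ rfl (hG.to_quotient _) (hK.quot _) (by
    rw [← hmap, Ne, H1.map_mk_eq_bot_iff]
    exact h)
  rw [← hmap, H1.card_map_mk] at this
  refine hK.no_sq hG ?_
  rw [← H3.card_mul_relIndex hN, this, hNp]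

theorem KP.card_comm (hG : IsPGroup p G) (hK : KP G) (hne : commutator G ≠ ⊥) :
    Nat.card (commutator G) = p := KP.card_comm_aux _ G rfl hG hK hne

theorem KP.faithful (hG : IsPGroup p G) (hK : KP G) (hχ : IsIrrCharacter G χ) (h1 : χ 1 ≠ 1) :
    charKer χ = ⊥ := by
  have hne : commutator G ≠ ⊥ := fun h =>
    h1 ((degree_eq_one_iff_commutator_le hχ).2 (h ▸ bot_le))
  rcases m4_eq_of_prime hp.out bot_le (hK.ker_le hχ h1)
    (by rw [hK.card_comm hG hne, card_bot, mul_one]) with h | h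
  · exact h
  · exact absurd ((degree_eq_one_iff_commutator_le hχ).2 h.ge) h1

theorem m4_faithful (hG : IsPGroup p G) (hZ : IsCyclic (center G))
    (hc : Nat.card (commutator G) = p) (hχ : IsIrrCharacter G χ) (h1 : χ 1 ≠ 1) :
    charKer χ = ⊥ := by
  by_contra h
  haveI := hG.isNilpotent
  haveI := charKer_normal (m4_cf hχ)
  have h3 := H3.normal_inf_center_ne_bot _ h
  have hd : p ∣ Nat.card (charKer χ ⊓ center G : Subgroup G) :=
    ((hG.to_subgroup _).card_eq_or_dvd).resolve_left fun h => h3 (card_eq_one.1 h)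
  obtain ⟨z, hz⟩ := exists_prime_orderOf_dvd_card' p hd
  have hle := H3.le_center_of_normal_card_p hG _ hc
  apply h1
  rw [degree_eq_one_iff_commutator_le hχ]
  rw [H3.eq_of_card_eq_of_isCyclic hZ hle (zpowers_le.2 z.2.2)
    (by rw [Nat.card_zpowers, orderOf_coe, hz, hc])]
  exact zpowers_le.2 z.2.1

theorem m4_vanish_center (hle : commutator G ≤ center G) (hχ : IsIrrCharacter G χ)
    (h : charKer χ = ⊥) {g : G} (hg : g ∉ center G) : χ g = 0 := by
  have h1 := charCenter_eq_center hχ h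
  refine (degree_sq_eq_index_charCenter_iff hχ (m4_deg hχ)).1 (m4_sq_eq hχ (h1 ▸ hle)) g ?_
  rwa [h1]

omit [Finite G] in
theorem m4_comm_ne (hna : ¬ IsMulCommutative G) : commutator G ≠ ⊥ := by
  intro h
  apply hna
  refine ⟨⟨fun a b => ?_⟩⟩
  have := m4_comm_mem a b
  rwa [h, mem_bot, commutatorElement_eq_one_iff_mul_comm] at this

theorem m4_galois (hG : IsPGroup p G) (hZ : IsCyclic (center G))
    (hc : Nat.card (commutator G) = p) (hχ : IsIrrCharacter G χ) (hψ : IsIrrCharacter G ψ)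
    (h1 : χ 1 ≠ 1) (h2 : χ 1 = ψ 1) :
    ∃ k : ℕ, Nat.Coprime k (Nat.card G) ∧ ∀ g : G, ψ g = χ (g ^ k) := by
  have hle := H3.le_center_of_normal_card_p hG _ hc
  have f1 := m4_faithful hG hZ hc hχ h1
  have f2 := m4_faithful hG hZ hc hψ (h2 ▸ h1)
  obtain ⟨z, hz⟩ := IsCyclic.exists_generator (α := center G)
  have prim : ∀ {χ : G → ℂ}, IsIrrCharacter G χ → charKer χ = ⊥ → ∃ w : ℂˣ,
      IsPrimitiveRoot w (orderOf z) ∧ ∀ i : ℤ, χ (z.1 ^ i) = (w ^ i : ℂˣ) * χ 1 := by
    intro χ hχ h
    obtain ⟨lam, hlam⟩ := exists_linear_of_le_center hχ (center G) le_rfl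
    refine ⟨lam z, ?_, fun i => ?_⟩
    · rw [← orderOf_injective lam]
      · exact IsPrimitiveRoot.orderOf _
      · rw [injective_iff_map_eq_one]
        intro a ha
        have : a.1 ∈ charKer χ := fun x => by rw [hlam, ha]; simp
        rw [h, mem_bot] at this
        exact Subtype.ext this
    · have := hlam (z ^ i) 1
      rwa [mul_one, map_zpow] at this
  obtain ⟨w, hw, ew⟩ := prim hχ f1
  obtain ⟨v, hv, ev⟩ := prim hψ f2
  haveI : NeZero (orderOf z) := ⟨(orderOf_pos z).ne'⟩
  obtain ⟨k, -, hk⟩ := hw.eq_pow_of_mem_rootsOfUnity (ξ := v)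
    ((mem_rootsOfUnity _ _).2 hv.pow_eq_one)
  have hk1 : k.Coprime (orderOf z) := (hw.pow_iff_coprime (orderOf_pos z) k).1 (hk ▸ hv)
  have hpz : p ∣ orderOf z := by
    rw [orderOf_eq_card_of_forall_mem_zpowers hz, ← hc]
    exact card_dvd_of_le hle
  have hk2 : k.Coprime (Nat.card G) := by
    obtain ⟨n, hn⟩ := hG.exists_card_eq
    rw [hn]
    exact Nat.Coprime.pow_right _ (Nat.Coprime.coprime_dvd_right hpz hk1)
  refine ⟨k, hk2, fun g => ?_⟩
  by_cases hg : g ∈ center G
  · obtain ⟨i, hi⟩ := hz ⟨g, hg⟩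
    have hi' : z.1 ^ i = g := congrArg Subtype.val hi
    rw [← hi', ev, ← zpow_natCast, ← zpow_mul, ew, ← hk, h2, ← zpow_natCast, ← zpow_mul, mul_comm i]
  · rw [m4_vanish_center hle hψ f2 hg, m4_vanish_center hle hχ f1]
    intro h
    apply hg
    have : g ∈ zpowers (g ^ k) :=
      mem_zpowers_pow_iff.2 (Nat.Coprime.coprime_dvd_right (orderOf_dvd_natCard g) hk2)
    exact (zpowers_le.2 h) this

omit [Finite G] hp in
theorem m4_deg_one (hχ : χ 1 = 1) : charDegree χ = 1 := by
  simp [charDegree, hχ]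

theorem s4845 (hP : IsPGroup p G) (hna : ¬ IsMulCommutative G) :
    (∀ χ ψ : IrrCharacter G, charDegree (χ : G → ℂ) ≠ 1 →
      charDegree (χ : G → ℂ) = charDegree (ψ : G → ℂ) →
      ∃ k : ℕ, Nat.Coprime k (Nat.card G) ∧ ∀ g : G, (ψ : G → ℂ) g = (χ : G → ℂ) (g ^ k)) ↔
      (IsCyclic (center G) ∧ Nat.card (commutator G) = p) := by
  constructor
  · intro h
    have hK : KP G := by
      intro χ ψ hχ hψ h1 h2 g hg
      obtain ⟨k, -, hk⟩ := h ⟨χ, hχ⟩ ⟨ψ, hψ⟩
        (fun e => h1 (by rw [m4_deg hχ]; exact_mod_cast e)) (by simp only [charDegree, h2])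
      rw [mem_charKer_iff_irr hψ]
      have e1 := hk g
      simp only at e1
      rw [e1, (mem_charKer_iff_irr hχ).1 (pow_mem hg k), h2]
    have hne := m4_comm_ne hna
    obtain ⟨χ, hχ, h1, -⟩ := m4_exists_nonlin (G := G) ⊥ (fun h => hne (eq_bot_iff.2 h))
    exact ⟨isCyclic_center_of_faithful hχ (hK.faithful hP hχ h1), hK.card_comm hP hne⟩
  · rintro ⟨hZ, hc⟩ χ ψ h1 h2
    refine m4_galois hP hZ hc χ.2 ψ.2 (fun e => h1 (m4_deg_one e)) ?_
    rw [m4_deg χ.2, m4_deg ψ.2, h2]

theorem m4_dvd_deg (hG : IsPGroup p G) (hχ : IsIrrCharacter G χ) (h1 : χ 1 ≠ 1) :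
    p ∣ charDegree χ := by
  obtain ⟨s, hs⟩ := m4_deg_pow hG hχ
  rcases s with _ | s
  · exact absurd (by rw [m4_deg hχ, hs]; simp) h1
  · rw [hs]; exact dvd_pow_self p (Nat.succ_ne_zero s)

omit [Finite G] in
theorem m4_ne_one (h : p ∣ charDegree χ) : χ 1 ≠ 1 := fun e =>
  hp.out.not_dvd_one (m4_deg_one e ▸ h)

theorem m4_pgroup [Group.IsNilpotent G] (hχ : IsIrrCharacter G χ) (hd : p ∣ charDegree χ)
    (hu : ∀ ψ, IsIrrCharacter G ψ → p ∣ charDegree ψ → ψ = χ) : IsPGroup p G := by
  obtain ⟨P, K, hK, hc⟩ : HasNormalPComplement p G := H4.hasNPC_of_isNilpotent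
  haveI : (P : Subgroup G).Normal :=
    Sylow.normal_of_normalizerCondition normalizerCondition_of_isNilpotent P
  have hne : ¬ commutator G ≤ K := by
    intro h
    have hPZ : (P : Subgroup G) ≤ center G := by
      intro x hx
      rw [mem_center_iff]
      intro g
      have : ⁅g, x⁆ ∈ K ⊓ (P : Subgroup G) := by
        refine mem_inf.2 ⟨h (m4_comm_mem g x), ?_⟩
        rw [commutatorElement_def]
        exact mul_mem (Normal.conj_mem inferInstance _ hx g) (inv_mem hx)
      rwa [hc.disjoint.eq_bot, mem_bot, commutatorElement_eq_one_iff_mul_comm] at this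
    exact P.not_dvd_index ((hd.trans (degree_dvd_index_center hχ (m4_deg hχ))).trans
      (index_dvd_of_le hPZ))
  obtain ⟨α, hα, h1, hle⟩ := m4_exists_nonlin K hne
  have hdα : p ∣ charDegree α := by
    have h2 := (degree_dvd_index_charCenter hα (m4_deg hα)).trans
      (index_dvd_of_le (hle.trans charKer_le_charCenter))
    obtain ⟨n, hn⟩ := P.isPGroup'.exists_card_eq
    rw [hc.symm.index_eq_card, hn] at h2
    obtain ⟨s, -, hs⟩ := (Nat.dvd_prime_pow hp.out).1 h2
    rcases s with _ | s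
    · exact absurd (by rw [m4_deg hα, hs]; simp) h1
    · rw [hs]; exact dvd_pow_self p (Nat.succ_ne_zero s)
  have htop : commutator G ⊔ (P : Subgroup G) = ⊤ := by
    rw [eq_top_iff]
    intro g _
    refine mem_of_forall_irr_charKer _ fun ψ hψ hψle => ?_
    obtain ⟨lam, rfl⟩ := exists_linear_of_degree_one (isCharacter_of_irr hψ)
      ((degree_eq_one_iff_commutator_le hψ).2 (le_sup_left.trans hψle))
    have h2 := isIrr_linear_mul lam hα
    have h3 := (hu _ h2 (by simpa [charDegree] using hdα)).trans (hu _ hα hdα).symm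
    have hKle : K ≤ charKer fun g => (lam g : ℂ) := by
      intro k hk
      have := congrFun h3 k
      rw [(mem_charKer_iff_irr hα).1 (hle hk)] at this
      rw [mem_charKer_iff_irr hψ, map_one]
      exact mul_right_cancel₀ (m4_one_ne hα) (by simpa using this)
    have : K ⊔ (P : Subgroup G) ≤ charKer fun g => (lam g : ℂ) :=
      sup_le hKle (le_sup_right.trans hψle)
    rw [hc.sup_eq_top] at this
    exact this (mem_top g)
  have hPt : (P : Subgroup G) = ⊤ := by
    by_contra h
    haveI : Nontrivial (G ⧸ (P : Subgroup G)) := QuotientGroup.nontrivial_iff.2 h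
    have h1 := Group.IsSolvable.commutator_lt_top_of_nontrivial (G ⧸ (P : Subgroup G))
    apply h1.ne
    have := congrArg (Subgroup.map (QuotientGroup.mk' (P : Subgroup G))) htop
    rw [Subgroup.map_sup, H1.map_mk_eq_bot_iff.2 le_rfl, sup_bot_eq,
      _root_.map_commutator_eq, ← MonoidHom.range_eq_map,
      MonoidHom.range_eq_top.2 (QuotientGroup.mk'_surjective _)] at this
    exact this
  have := P.isPGroup'
  rw [hPt] at this
  exact this.of_equiv topEquiv

theorem s4762 [Group.IsNilpotent G] :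
    Nat.card {χ : IrrCharacter G // p ∣ charDegree (χ : G → ℂ)} = 1 ↔
      (p = 2 ∧ IsExtraspecial 2 G) := by
  constructor
  · intro h
    obtain ⟨⟨⟨χ, hχ⟩, hd⟩, hu'⟩ := Nat.card_eq_one_iff_exists.1 h
    have hu : ∀ ψ, IsIrrCharacter G ψ → p ∣ charDegree ψ → ψ = χ := fun ψ a b =>
      congrArg (fun t => t.1.1) (hu' ⟨⟨ψ, a⟩, b⟩)
    have hG := m4_pgroup hχ hd hu
    have h1 := m4_ne_one hd
    have hK : KP G := by
      intro α β hα hβ e1 e2
      rw [hu α hα (m4_dvd_deg hG hα e1), hu β hβ (m4_dvd_deg hG hβ (e2 ▸ e1))]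
    have hf := hK.faithful hG hχ h1
    have hne : commutator G ≠ ⊥ := fun h =>
      h1 ((degree_eq_one_iff_commutator_le hχ).2 (h ▸ bot_le))
    have hc := hK.card_comm hG hne
    have hZ := isCyclic_center_of_faithful hχ hf
    have hle := H3.le_center_of_normal_card_p hG _ hc
    have hinv : ∀ g, χ g⁻¹ = χ g := by
      have h2 := isIrr_comp_pow hχ (m := Nat.card G - 1) (by
        have : 0 < Nat.card G := Nat.card_pos
        exact (Nat.coprime_self_sub_left this).2 (Nat.coprime_one_left _))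
      have h3 := hu _ h2 (by simpa [charDegree] using hd)
      intro g
      rw [← congrFun h3 g]
      congr 1
      rw [inv_eq_iff_mul_eq_one, ← pow_succ', Nat.sub_add_cancel Nat.card_pos, pow_card_eq_one']
    have hsq : ∀ z : center G, z ^ 2 = 1 := by
      intro z
      obtain ⟨lam, hlam⟩ := exists_linear_of_le_center hχ (center G) le_rfl
      have e1 := hlam z 1
      have e2 := hlam z⁻¹ 1
      rw [mul_one] at e1 e2
      rw [coe_inv, hinv, e1] at e2
      have e3 : lam z = lam z⁻¹ := Units.ext (mul_right_cancel₀ (m4_one_ne hχ) e2)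
      have : (z ^ 2).1 ∈ charKer χ := fun x => by
        rw [hlam, sq, map_mul]
        nth_rw 1 [e3]
        simp
      rw [hf, mem_bot] at this
      exact Subtype.ext this
    obtain ⟨z, hz⟩ := IsCyclic.exists_generator (α := center G)
    have h2 : Nat.card (center G) ∣ 2 := by
      rw [← orderOf_eq_card_of_forall_mem_zpowers hz]
      exact orderOf_dvd_of_pow_eq_one (hsq z)
    have h3 : p ∣ Nat.card (center G) := hc ▸ card_dvd_of_le hle
    have hp2 : p = 2 := (Nat.prime_dvd_prime_iff_eq hp.out Nat.prime_two).1 (h3.trans h2)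
    subst hp2
    have h4 : Nat.card (center G) = 2 := Nat.dvd_antisymm h2 h3
    have h5 : commutator G = center G := eq_of_le_of_card_ge hle (by rw [h4, hc])
    refine ⟨rfl, ⟨hG, ?_, h5⟩, h4⟩
    refine le_antisymm ?_ (h5 ▸ ?_)
    · refine H3.frattini_le_of (p := 2) _ hle fun x => mem_center_iff.2 fun y => ?_
      have := hsq ⟨_, hle (m4_comm_mem x y)⟩
      have e : ⁅x, y⁆ ^ 2 = 1 := congrArg Subtype.val this
      rw [← H3.comm_pow_left (mem_center_iff.1 (hle (m4_comm_mem x y)) x),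
        commutatorElement_eq_one_iff_mul_comm] at e
      exact e.symm
    · exact H3.commutator_le_frattini hG
  · rintro ⟨rfl, ⟨hG, -, h5⟩, h4⟩
    have hZ : IsCyclic (center G) := isCyclic_of_prime_card h4
    have hc : Nat.card (commutator G) = 2 := by rw [h5, h4]
    have hne : ¬ commutator G ≤ ⊥ := fun h => by
      rw [eq_bot_iff.2 h, card_bot] at hc
      omega
    obtain ⟨χ, hχ, h1, -⟩ := m4_exists_nonlin (G := G) ⊥ hne
    refine Nat.card_eq_one_iff_exists.2 ⟨⟨⟨χ, hχ⟩, m4_dvd_deg hG hχ h1⟩, ?_⟩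
    rintro ⟨⟨ψ, hψ⟩, hd⟩
    have h2 := m4_ne_one hd
    have f1 := m4_faithful hG hZ hc hχ h1
    have f2 := m4_faithful hG hZ hc hψ h2
    have hdeg : χ 1 = ψ 1 := by
      have e1 := m4_sq_eq hχ (by rw [charCenter_eq_center hχ f1, h5])
      have e2 := m4_sq_eq hψ (by rw [charCenter_eq_center hψ f2, h5])
      rw [charCenter_eq_center hχ f1] at e1
      rw [charCenter_eq_center hψ f2, ← e1] at e2
      rw [m4_deg hχ, m4_deg hψ, Nat.pow_left_injective two_ne_zero e2]
    obtain ⟨k, hk, e⟩ := m4_galois hG hZ hc hχ hψ h1 hdeg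
    refine Subtype.ext (Subtype.ext (funext fun g => ?_))
    change ψ g = χ g
    by_cases hg : g ∈ center G
    · rw [e]
      congr 1
      have h6 : g ^ 2 = 1 := by
        have : (⟨g, hg⟩ : center G) ^ Nat.card (center G) = 1 := pow_card_eq_one'
        rw [h4] at this
        exact congrArg Subtype.val this
      have h7 : Odd k := by
        rw [← Nat.coprime_two_right]
        exact Nat.Coprime.coprime_dvd_right (h4 ▸ card_subgroup_dvd_card _) hk
      obtain ⟨j, rfl⟩ := h7
      rw [pow_succ, pow_mul, h6, one_pow, one_mul]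
    · rw [m4_vanish_center h5.le hψ f2 hg, m4_vanish_center h5.le hχ f1 hg]

end Cfsg.Agent.H7
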