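import Cfsg.Agent.H8.PExt
import Cfsg.Agent.H8.Second
import Cfsg.Agent.H9.Dict2
import Cfsg.Agent.H7.Deg
import Cfsg.Agent.H7.Gal
import Cfsg.Agent.H7.GlCyc
import Cfsg.Agent.H7.M4
import Cfsg.Agent.H28.Util

/-! Characters of `p'`-degree in blocks, over characters of normal subgroups. -/

namespace Cfsg.Agent.H7

open Subgroup Cfsg.Agent.H8 Cfsg.Agent.H9
open scoped ComplexConjugate

variable {G : Type*} [Group G] [Finite G] {p : ℕ} [hp : Fact p.Prime]
  {M : Ideal AlgInt} [hMm : M.IsMaximal]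

theorem m5_card_bs (B : Set (IrrCharacter G)) (Q : IrrCharacter G → Prop) [DecidablePred Q] :
    Nat.card {χ : IrrCharacter G // χ ∈ B ∧ Q χ} = ((bs B).filter Q).card := by
  rw [← Nat.card_eq_finsetCard]
  exact Nat.card_congr (Equiv.subtypeEquivRight fun χ => by simp)

open Classical in
theorem m5_sum (hM : IsPModular p M) {B : Set (IrrCharacter G)} (hB : IsBlockUnion M B)
    (N : Subgroup G) [N.Normal] {x : G} (hx : ∃ k : ℕ, orderOf x = p ^ k) (hxN : x ∉ N)
    {θ : N → ℂ} (hθ : IsIrrCharacter N θ) :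
    ∃ (c : ℕ) (e : IrrCharacter G → ℕ), (∀ χ : IrrCharacter G, ip (fun n : N => χ.1 n) θ = e χ) ∧
      (∀ χ : IrrCharacter G, e χ ≠ 0 → charDegree χ.1 = e χ * c) ∧
      p ∣ ∑ χ ∈ bs B, e χ * charDegree χ.1 := by
  haveI := Fintype.ofFinite G
  have hf := isNE_subtype N
  choose e he using fun χ : IrrCharacter G =>
    ip_char_nat (char_comp N.subtype (irr_char χ.2)) (irr_char hθ)
  refine ⟨(hf.inertia θ).index * charDegree θ, e, he, fun χ h0 => ?_, ?_⟩
  · have := hf.clifford_degree χ.2 hθ (by rw [he]; exact_mod_cast h0)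
    rw [he, m4_deg χ.2, m4_deg hθ, mul_assoc] at this
    exact_mod_cast this
  have h1 : blockPart B (ind N.subtype θ) x = 0 := by
    rw [blockPart_eq_sum_coeff B (ind_cf _ _)]
    refine Finset.sum_eq_zero fun k _ => ?_
    by_cases hk : p ∣ orderOf k
    · rw [blockCoeff_eq_zero_of_dvd hM hB hk, zero_mul]
    · haveI : N.subtype.range.Normal := hf.normal
      rw [ind_apply_of_notMem, mul_zero]
      rw [range_subtype]
      intro hm
      apply hxN
      obtain ⟨j, hj⟩ := hx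
      have e1 : (x : G ⧸ N) = (k : G ⧸ N)⁻¹ := by
        rw [eq_inv_iff_mul_eq_one, ← QuotientGroup.mk_mul, QuotientGroup.eq_one_iff]
        exact Normal.mem_comm inferInstance hm
      have e2 : orderOf (x : G ⧸ N) ∣ p ^ j := hj ▸ orderOf_map_dvd (QuotientGroup.mk' N) x
      have e3 : orderOf (x : G ⧸ N) ∣ orderOf k := by
        rw [e1, orderOf_inv]
        exact orderOf_map_dvd (QuotientGroup.mk' N) k
      have e4 := Nat.dvd_gcd e2 e3
      rw [Nat.Coprime.pow_left j ((Nat.Prime.coprime_iff_not_dvd hp.out).2 hk), Nat.dvd_one,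
        orderOf_eq_one_iff] at e4
      exact (QuotientGroup.eq_one_iff x).1 e4
  rw [blockPart_eq_bs, Finset.sum_apply] at h1
  have h2 := congrArg (rd M) h1
  have h3 : ∀ χ : IrrCharacter G, (ip (ind N.subtype θ) χ.1 • χ.1) x = e χ * χ.1 x := by
    intro χ
    rw [Pi.smul_apply, smul_eq_mul, ip_ind_left _ _ (irr_cf χ.2), ip_natCast_comm (he χ)]
  simp only [h3] at h2
  rw [rd_sum _ _ fun χ _ => mul_mem (natCast_mem _ _) (irr_mem_locRing χ x)] at h2
  have h4 : pReg p x = 1 := by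
    have := pReg_mul hx (y := 1) (by simpa using hp.out.one_lt.ne') (Commute.one_right x)
    rwa [mul_one] at this
  rw [← rd_natCast_eq_zero_iff hM, Nat.cast_sum,
    rd_sum _ _ fun χ _ => natCast_mem _ _]
  rw [show rd M 0 = 0 by simp] at h2
  rw [← h2]
  refine Finset.sum_congr rfl fun χ _ => ?_
  rw [rd_mul (natCast_mem _ _) (irr_mem_locRing χ x), rd_irr_eq_pReg hM, h4, Nat.cast_mul,
    rd_mul (natCast_mem _ _) (natCast_mem _ _), m4_deg χ.2]

theorem m5_count (hM : IsPModular p M) {B : Set (IrrCharacter G)} (hB : IsBlockUnion M B)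
    (N : Subgroup G) [N.Normal] {x : G} (hx : ∃ k : ℕ, orderOf x = p ^ k) (hxN : x ∉ N)
    {θ : N → ℂ} (hθ : IsIrrCharacter N θ) {n : ℕ}
    (hn : n = Nat.card {χ : IrrCharacter G // χ ∈ B ∧ ¬ p ∣ charDegree χ.1 ∧
      ip (fun n : N => χ.1 n) θ ≠ 0}) : (n = 0 ∨ 2 ≤ n) ∧ (p ≤ 3 → p ∣ n) := by
  classical
  obtain ⟨c, e, he, hc, hs⟩ := m5_sum hM hB N hx hxN hθ
  rw [m5_card_bs] at hn
  set S := (bs B).filter fun χ : IrrCharacter G => ¬ p ∣ charDegree χ.1 ∧
    ip (fun n : N => χ.1 n) θ ≠ 0 with hS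
  have h1 : ∑ χ ∈ S, ((e χ : ZMod p) ^ 2 * c) = 0 := by
    rw [← ZMod.natCast_eq_zero_iff, Nat.cast_sum] at hs
    rw [← hs, hS, Finset.sum_filter]
    refine Finset.sum_congr rfl fun χ _ => ?_
    by_cases h0 : e χ = 0
    · simp [h0]
    by_cases h : p ∣ charDegree χ.1
    · rw [if_neg (by simp [h]), Nat.cast_mul, (ZMod.natCast_eq_zero_iff _ _).2 h, mul_zero]
    · rw [if_pos ⟨h, by rw [he]; exact_mod_cast h0⟩, hc χ h0]
      push_cast
      ring
  have h2 : ∀ χ ∈ S, (e χ : ZMod p) ≠ 0 ∧ (c : ZMod p) ≠ 0 := by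
    intro χ hχ
    obtain ⟨-, h3, h4⟩ := Finset.mem_filter.1 hχ
    rw [he] at h4
    rw [hc χ (by exact_mod_cast h4), ← ZMod.natCast_eq_zero_iff, Nat.cast_mul, mul_eq_zero,
      not_or] at h3
    exact h3
  constructor
  · by_contra h
    obtain ⟨χ, hχ⟩ := Finset.card_eq_one.1 (show S.card = 1 by omega)
    rw [hχ, Finset.sum_singleton] at h1
    obtain ⟨a, b⟩ := h2 χ (by rw [hχ]; exact Finset.mem_singleton_self χ)
    exact mul_ne_zero (pow_ne_zero _ a) b h1
  · intro h3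
    rcases S.eq_empty_or_nonempty with h | ⟨χ, hχ⟩
    · rw [hn, h]; exact dvd_zero p
    have h4 : ∀ a : ZMod p, a ≠ 0 → a ^ 2 = 1 := by
      intro a ha
      have h5 := ZMod.pow_card_sub_one_eq_one ha
      have := hp.out.two_le
      obtain ⟨c, hc⟩ : p - 1 ∣ 2 := by interval_cases p <;> simp
      rw [hc, pow_mul, h5, one_pow]
    rw [Finset.sum_congr rfl fun ψ hψ => by rw [h4 _ (h2 ψ hψ).1, one_mul], Finset.sum_const,
      nsmul_eq_mul, mul_eq_zero] at h1
    rw [hn, ← ZMod.natCast_eq_zero_iff]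
    exact h1.resolve_right (h2 χ hχ).2

omit hMm in
theorem m5_pow {k : ℕ} (hk₁ : ∀ g : G, (∃ j : ℕ, orderOf g = p ^ j) → g ^ k = g ^ (1 + p))
    (hk₂ : ∀ g : G, ¬ p ∣ orderOf g → g ^ k = g) :
    k.Coprime (Nat.card G) ∧ ∃ e : ℕ, ∀ g : G, g ^ k ^ p ^ e = g := by
  have key : ∀ g : G, g ^ k ^ p ^ (Nat.card G).factorization p = g := by
    intro g
    have h1 : ∀ (m : ℕ) (x : G), (∃ j : ℕ, orderOf x = p ^ j) → x ^ k ^ m = x ^ (1 + p) ^ m := by
      intro m
      induction m with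
      | zero => simp
      | succ m ih =>
        intro x hx
        rw [pow_succ', pow_mul, hk₁ x hx, ← pow_mul, mul_comm, pow_mul, ih x hx, ← pow_mul,
          ← pow_succ]
    have h2 : ∀ (m : ℕ) (x : G), ¬ p ∣ orderOf x → x ^ k ^ m = x := by
      intro m
      induction m with
      | zero => simp
      | succ m ih =>
        intro x hx
        rw [pow_succ', pow_mul, hk₂ x hx, ih x hx]
    conv_lhs => rw [← pPart_mul_pReg p g]
    rw [(commute_pPart_pReg g).mul_pow, h1 _ _ (orderOf_pPart g), h2 _ _ (not_dvd_orderOf_pReg g)]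
    conv_rhs => rw [← pPart_mul_pReg p g]
    congr 1
    conv_rhs => rw [← pow_one (pPart p g)]
    rw [pow_eq_pow_iff_modEq]
    obtain ⟨j, hj⟩ := orderOf_pPart (p := p) g
    have hjle : j ≤ (Nat.card G).factorization p := by
      rw [← hp.out.pow_dvd_iff_le_factorization Nat.card_pos.ne', ← hj]
      exact orderOf_dvd_natCard _
    have := dvd_sub_pow_of_dvd_sub (R := ℤ) (p := p) (a := 1 + p) (b := 1) (by simp)
      ((Nat.card G).factorization p)
    rw [hj]
    refine (Nat.modEq_iff_dvd.2 ?_).symm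
    push_cast
    rw [one_pow] at this
    exact (pow_dvd_pow _ (by omega)).trans this
  refine ⟨?_, _, key⟩
  by_contra h
  obtain ⟨r, hr, h1, h2⟩ := Nat.Prime.not_coprime_iff_dvd.1 h
  haveI := Fact.mk hr
  obtain ⟨g, hg⟩ := exists_prime_orderOf_dvd_card' r h2
  have := key g
  rw [orderOf_dvd_iff_pow_eq_one.1 (hg ▸ dvd_pow h1 (pow_ne_zero _ hp.out.ne_zero))] at this
  rw [← this, orderOf_one] at hg
  exact hr.one_lt.ne hg

theorem m5_pow_mem (hM : IsPModular p M) {k : ℕ} (hk : k.Coprime (Nat.card G))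
    (hk₂ : ∀ g : G, ¬ p ∣ orderOf g → g ^ k = g) {χ : IrrCharacter G}
    (hχ : χ ∈ principalBlock M G) :
    (⟨fun g => χ.1 (g ^ k), H6.isIrr_comp_pow χ.2 hk⟩ : IrrCharacter G) ∈ principalBlock M G := by
  haveI : PMod M p := ⟨hM⟩
  rw [mem_principal_iff_rip p] at hχ ⊢
  rwa [rip_congr (θ' := χ.1) (φ' := 1) (fun g hg => by simp only [hk₂ g hg]) fun _ _ => rfl]

theorem s4550 (hM : IsPModular 2 M) (hev : Even (Nat.card G)) (k : ℕ)
    (hk₁ : ∀ g : G, (∃ j : ℕ, orderOf g = 2 ^ j) → g ^ k = g ^ 3)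
    (hk₂ : ∀ g : G, Odd (orderOf g) → g ^ k = g) :
    Even (Nat.card {χ : IrrCharacter G // χ ∈ principalBlock M G ∧ Odd (charDegree (χ : G → ℂ)) ∧
      ∀ g : G, (χ : G → ℂ) (g ^ k) = (χ : G → ℂ) g}) := by
  classical
  have hk₂' : ∀ g : G, ¬ 2 ∣ orderOf g → g ^ k = g := fun g hg => hk₂ g (Nat.odd_iff.2 (by omega))
  obtain ⟨hk, e, he⟩ := m5_pow (p := 2) hk₁ hk₂'
  obtain ⟨x, hx⟩ := exists_prime_orderOf_dvd_card' (G := G) 2 hev.two_dvd
  have hB : IsBlockUnion M (principalBlock M G) :=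
    isBlockUnion_of_block ⟨⟨_, irr_one⟩, rfl⟩
  have h1 := (m5_count hM hB ⊥ (x := x) ⟨1, by simpa using hx⟩
    (by rw [mem_bot]; rintro rfl; simp at hx) irr_one rfl).2 (by norm_num)
  let S := {χ : IrrCharacter G // χ ∈ principalBlock M G ∧ Odd (charDegree (χ : G → ℂ))}
  have h2 : 2 ∣ Nat.card S := by
    convert h1 using 1
    refine Nat.card_congr (Equiv.subtypeEquivRight fun χ => ?_)
    have : ip (fun n : (⊥ : Subgroup G) => χ.1 n) 1 ≠ 0 := by
      rw [ip_def]
      have : ((default : (⊥ : Subgroup G)) : G) = 1 := mem_bot.1 (Subtype.property _)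
      simpa [this] using m4_one_ne χ.2
    simp only [this, Nat.odd_iff, ne_eq, not_false_eq_true, and_true]
    constructor <;> exact fun h => ⟨h.1, by omega⟩
  haveI := Fintype.ofFinite S
  let f : Function.End S := fun χ => ⟨⟨fun g => χ.1.1 (g ^ k), H6.isIrr_comp_pow χ.1.2 hk⟩,
    m5_pow_mem hM hk hk₂' χ.2.1, by simpa [charDegree] using χ.2.2⟩
  have hf : ∀ (m : ℕ) (χ : S) (g : G), ((f ^ m) χ).1.1 g = χ.1.1 (g ^ k ^ m) := by
    intro m
    induction m with
    | zero => intro χ g; rw [pow_zero, pow_zero, pow_one]; rfl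
    | succ m ih =>
      intro χ g
      rw [pow_succ, pow_succ, pow_mul]
      exact ih (f χ) g
  have h3 := Equiv.Perm.card_fixedPoints_modEq (f := f) (p := 2) (n := e) (by
    funext χ
    exact Subtype.ext (Subtype.ext (funext fun g => by rw [hf, he]; rfl)))
  rw [← Nat.card_eq_fintype_card, ← Nat.card_eq_fintype_card] at h3
  rw [even_iff_two_dvd]
  refine (Nat.modEq_zero_iff_dvd.1 (h3.symm.trans (Nat.modEq_zero_iff_dvd.2 h2))).trans
    (dvd_of_eq (Eq.symm ?_))
  refine Nat.card_congr (Equiv.trans (Equiv.subtypeEquivRight fun χ => ?_)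
    (Equiv.subtypeSubtypeEquivSubtypeExists _ (fun χ : S => f χ = χ)).symm)
  constructor
  · rintro ⟨a, b, c⟩
    exact ⟨⟨a, b⟩, Subtype.ext (Subtype.ext (funext c))⟩
  · rintro ⟨⟨a, b⟩, c⟩
    exact ⟨a, b, fun g => congrFun (congrArg (fun t : S => t.1.1) c) g⟩

theorem m5_ind (hM : IsPModular p M) (P : Sylow p G) {H : Subgroup G} (h1 : (P : Subgroup G) ≤ H)
    (h2 : centralizer ((P : Subgroup G) : Set G) ≤ H) {ξ : IrrCharacter H}
    (hξ : ξ ∈ principalBlock M H) (hd : ¬ p ∣ charDegree ξ.1) :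
    ∃ χ ∈ principalBlock M G, ¬ p ∣ charDegree χ.1 ∧ ip (fun h : H => χ.1 h) ξ.1 ≠ 0 := by
  classical
  haveI : PMod M p := ⟨hM⟩
  haveI := Fintype.ofFinite G
  haveI := Fintype.ofFinite H
  set B := principalBlock M G with hBdef
  have hB : IsBlockUnion M B := isBlockUnion_of_block ⟨⟨_, irr_one⟩, rfl⟩
  choose e he using fun χ : IrrCharacter G =>
    ip_char_nat (char_comp H.subtype (irr_char χ.2)) (irr_char ξ.2)
  by_contra hc
  push Not at hc
  have hdvd : p ∣ ∑ χ ∈ bs B, e χ * charDegree χ.1 := by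
    refine Finset.dvd_sum fun χ hχ => ?_
    by_cases h : p ∣ charDegree χ.1
    · exact h.mul_left _
    · have := (he χ).symm.trans (hc χ (mem_bs.1 hχ) h)
      rw [Nat.cast_eq_zero.1 this, zero_mul]
      exact dvd_zero p
  have e1 : blockPart B (ind H.subtype ξ.1) 1 = (∑ χ ∈ bs B, e χ * charDegree χ.1 : ℕ) := by
    rw [blockPart_eq_bs, Finset.sum_apply, Nat.cast_sum]
    refine Finset.sum_congr rfl fun χ _ => ?_
    rw [Pi.smul_apply, smul_eq_mul, ip_ind_left _ _ (irr_cf χ.2), ip_natCast_comm (he χ),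
      m4_deg χ.2, Nat.cast_mul]
  have e2 : blockPart B (ind H.subtype ξ.1) 1 =
      H.index * (charDegree ξ.1 * ∑ᶠ h : H, blockCoeff B h * ξ.1 h / ξ.1 1) := by
    rw [blockPart_eq_sum_coeff B (ind_cf _ _)]
    have hcf : IsClassFunction G (star (blockCoeff B)) := cf_star fun a b => blockCoeff_conj B _ _
    have := ip_ind_left H.subtype ξ.1 hcf
    rw [ip_def, ip_def] at this
    simp only [Pi.star_apply, RCLike.star_def, Complex.conj_conj, coe_subtype] at this
    rw [finsum_eq_sum_of_fintype, ← Finset.sum_div, ← m4_deg ξ.2,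
      mul_div_cancel₀ _ (m4_one_ne ξ.2)]
    simp only [mul_one, mul_comm (blockCoeff B _)]
    rw [inv_mul_eq_iff_eq_mul₀ (card_ne_zero' G)] at this
    rw [this, ← card_mul_index H, Nat.cast_mul]
    have := card_ne_zero' H
    field_simp
  have hβ : ∀ h : H, blockCoeff B h ∈ locRing M := fun h => blockCoeff_mem_locRing hB _
  have hcc : ∀ x y : H, blockCoeff B (x * y * x⁻¹ : H) = blockCoeff B y := fun x y =>
    blockCoeff_conj B _ _
  have hz : ∀ x : H, (resSub _ H (eB M B)).coeff x = rd M (blockCoeff B x) := fun x => by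
    rw [← coeff_eB]; rfl
  obtain ⟨a1, a2⟩ := omega_sum_spec ξ hβ hcc hz
  obtain ⟨-, b2⟩ := omega_sum_spec (irrOne H) hβ hcc hz
  rw [(mem_principalBlock_iff ξ).1 hξ, ← b2] at a2
  have b3 : rd M (∑ᶠ h : H, blockCoeff B h * (irrOne H : H → ℂ) h / (irrOne H : H → ℂ) 1) = 1 := by
    have : ∀ h : H, blockCoeff B h * (irrOne H : H → ℂ) h / (irrOne H : H → ℂ) 1 =
        blockCoeff B h := fun h => by
      change blockCoeff B h * 1 / 1 = _
      simp
    simp only [this]
    rw [finsum_eq_sum_of_fintype, rd_sum _ _ fun h _ => hβ h]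
    have c1 : ∀ t ∈ (P : Subgroup G), cj t (eB M B) = eB M B := fun t _ => cj_eB B t
    have c2 := aug_br P.isPGroup' c1
    have c3 := aug_br P.isPGroup' (a := trunc H (eB M B)) fun t ht =>
      (trunc_mem_fix (K := H) (H := ⊤) (T := H) le_top le_normalizer fun t _ => cj_eB B t).2 t
        (h1 ht)
    rw [trunc_trunc, inf_eq_left.2 h2] at c3
    rw [c3, aug_eB_principal, aug_eq_sum] at c2
    rw [← c2]
    simp only [H9.coeff_trunc, coeff_eB]
    rw [← Finset.sum_filter, Finset.sum_subtype (p := (· ∈ H)) _ (by simp)]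
  have e3 := congrArg (rd M) (e1.symm.trans e2)
  rw [(rd_natCast_eq_zero_iff hM _).2 hdvd, rd_mul (natCast_mem _ _) (mul_mem (natCast_mem _ _) a1),
    rd_mul (natCast_mem _ _) a1, a2, b3, mul_one, eq_comm, mul_eq_zero,
    rd_natCast_eq_zero_iff hM, rd_natCast_eq_zero_iff hM] at e3
  exact e3.elim (fun h => P.not_dvd_index (h.trans (index_dvd_of_le h1))) hd

theorem m5_mem_iff (hM : IsPModular p M) {N : Type*} [Group N] [Finite N] {f : N →* G}
    (hf : Function.Injective f) (hr : ∀ g : G, ¬ p ∣ orderOf g → g ∈ f.range)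
    {χ : IrrCharacter G} {θ : IrrCharacter N} (h : ∀ n, χ.1 (f n) = θ.1 n) :
    χ ∈ principalBlock M G ↔ θ ∈ principalBlock M N := by
  classical
  haveI := Fintype.ofFinite G
  haveI := Fintype.ofFinite N
  rw [mem_principal_iff_sum hM, mem_principal_iff_sum hM]
  have : ∑ x with ¬ p ∣ orderOf x, χ.1 x = ∑ x with ¬ p ∣ orderOf x, θ.1 x := by
    symm
    refine Finset.sum_bij (fun n _ => f n) ?_ ?_ ?_ ?_
    · intro n hn
      simpa [orderOf_injective f hf] using hn
    · intro a _ b _ hab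
      exact hf hab
    · intro g hg
      obtain ⟨n, rfl⟩ := hr g (by simpa using hg)
      exact ⟨n, by simpa [orderOf_injective f hf] using hg, rfl⟩
    · intro n _
      exact (h n).symm
  rw [this]

theorem s4583 (N : Subgroup G) [hN : N.Normal] (hM : IsPModular p M) (P : Sylow p G)
    (θ : IrrCharacter N) (hθ : θ ∈ principalBlock M N) (hdeg : ¬ p ∣ charDegree (θ : N → ℂ))
    (η : IrrCharacter ↥(N ⊔ (P : Subgroup G)))
    (hη : ∀ n : N, η.1 (inclusion le_sup_left n) = θ.1 n) :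
    ∃ χ : IrrCharacter G, χ ∈ principalBlock M G ∧ ¬ p ∣ charDegree (χ : G → ℂ) ∧
      ip (fun n : N => (χ : G → ℂ) n) (θ : N → ℂ) ≠ 0 := by
  haveI : PMod M p := ⟨hM⟩
  let K := N ⊔ (P : Subgroup G)
  let H := K ⊔ centralizer ((P : Subgroup G) : Set G)
  have hη0 : η ∈ principalBlock M K := by
    refine (m5_mem_iff hM (inclusion_injective (le_sup_left : N ≤ K)) ?_ hη).2 hθ
    intro g hg
    have : g.1 ∈ N := by
      obtain ⟨n, hn, y, hy, e⟩ := (H1.mem_sup_iff_of_le_normalizer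
        (by rw [normalizer_eq_top]; exact le_top)).1 g.2
      have e1 : (g.1 : G ⧸ N) = y := by
        rw [e, QuotientGroup.mk_mul, (QuotientGroup.eq_one_iff n).2 hn, one_mul]
      obtain ⟨j, hj⟩ := pElt_of_mem P.isPGroup' hy
      have e2 : orderOf (g.1 : G ⧸ N) ∣ p ^ j :=
        e1 ▸ hj ▸ orderOf_map_dvd (QuotientGroup.mk' N) y
      have e3 : orderOf (g.1 : G ⧸ N) ∣ orderOf g := by
        rw [← orderOf_coe]
        exact orderOf_map_dvd (QuotientGroup.mk' N) g.1
      have e4 := Nat.dvd_gcd e2 e3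
      rw [Nat.Coprime.pow_left j ((Nat.Prime.coprime_iff_not_dvd hp.out).2 hg), Nat.dvd_one,
        orderOf_eq_one_iff] at e4
      exact (QuotientGroup.eq_one_iff _).1 e4
    exact ⟨⟨g.1, this⟩, rfl⟩
  have hKH : K ≤ H := le_sup_left
  have hn : H ≤ normalizer (K : Set G) := by
    refine sup_le le_normalizer ?_
    refine le_trans (le_inf (by rw [normalizer_eq_top]; exact le_top)
      (centralizer_le_normalizer _)) (normalizer_inf_normalizer_le_normalizer_sup _ _)
  have hne : IsNE (inclusion hKH) :=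
    isNE_inclusion hKH fun t ht k hk => (mem_normalizer_iff.1 (hn ht) k).1 hk
  obtain ⟨ξ, hξ, h1⟩ := exists_principal_over' (M := M) (inclusion_injective hKH) hη0
  obtain ⟨e, he, he'⟩ := hne.deg_ratio η.2 ξ.2 h1
  have hdη : charDegree η.1 = charDegree θ.1 := by
    have := hη 1
    rw [map_one] at this
    simp only [charDegree, this]
  have hdξ : ¬ p ∣ charDegree ξ.1 := by
    rw [he, hdη]
    intro h
    refine ((Nat.Prime.dvd_mul hp.out).1 h).elim (fun h => ?_) hdeg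
    rw [inclusion_range] at he'
    refine P.not_dvd_index ((h.trans he').trans ?_)
    exact (relIndex_dvd_index_of_le hKH).trans (index_dvd_of_le le_sup_right)
  obtain ⟨χ, hχ, h2, h3⟩ := m5_ind hM P (H := H) (le_sup_right.trans hKH) le_sup_right hξ hdξ
  refine ⟨χ, hχ, h2, ?_⟩
  have h4 := ip_comp_comp_ne_zero H.subtype (inclusion hKH) (irr_char χ.2) ξ.2 (irr_char η.2) h3 h1
  have h5 := ip_comp_comp_ne_zero (H.subtype.comp (inclusion hKH))
    (inclusion (le_sup_left : N ≤ K)) (irr_char χ.2) η.2 (irr_char θ.2) h4 (by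
      rw [funext hη, ip_irr_self θ.2]; exact one_ne_zero)
  exact h5

omit hMm in
theorem m5_cyc_count {Q : Type*} [Group Q] [Finite Q] [IsCyclic Q] (h : p ∣ Nat.card Q) :
    {lam : Q →* ℂˣ | lam ^ p = 1}.ncard = p := by
  letI : CommGroup Q := IsCyclic.commGroup
  haveI : NeZero (Monoid.exponent Q) := ⟨Monoid.exponent_ne_zero_of_finite⟩
  obtain ⟨e⟩ := CommGroup.monoidHom_mulEquiv_of_hasEnoughRootsOfUnity Q ℂ
  have h1 := IsCyclic.card_powMonoidHom_ker (G := Q) p
  rw [Nat.gcd_eq_right h] at h1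
  rw [← Nat.card_coe_set_eq]
  refine Eq.trans ?_ h1
  refine Nat.card_congr (e.toEquiv.subtypeEquiv fun lam => ?_)
  change lam ^ p = 1 ↔ e lam ^ p = 1
  rw [← map_pow, e.map_eq_one_iff]

theorem s4553 (hM : IsPModular p M) (P : Sylow p G) (N : Subgroup G) [hN : N.Normal]
    (hNres : N = pResidual p G) (hcyc : IsCyclic (G ⧸ N)) (hnt : N ≠ ⊤) (k : ℕ)
    (hk₁ : ∀ g : G, (∃ j : ℕ, orderOf g = p ^ j) → g ^ k = g ^ (1 + p))
    (hk₂ : ∀ g : G, Nat.Coprime (orderOf g) p → g ^ k = g) :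
    Nat.card {χ : IrrCharacter G // χ ∈ principalBlock M G ∧ ¬ p ∣ charDegree (χ : G → ℂ) ∧
      ∀ g : G, (χ : G → ℂ) (g ^ k) = (χ : G → ℂ) g} =
    p * Nat.card {θ : IrrCharacter N // θ ∈ principalBlock M N ∧ ¬ p ∣ charDegree (θ : N → ℂ) ∧
      (∀ x ∈ (P : Subgroup G), ∀ n : N, (θ : N → ℂ) ⟨x * n * x⁻¹, hN.conj_mem n n.2 x⟩ =
        (θ : N → ℂ) n) ∧ ∀ n : N, (θ : N → ℂ) (n ^ k) = (θ : N → ℂ) n} := by
  classical
  have hcp : ∀ {n : ℕ}, ¬ p ∣ n → n.Coprime p := fun h =>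
    ((Nat.Prime.coprime_iff_not_dvd hp.out).2 h).symm
  obtain ⟨hk, -⟩ := m5_pow (p := p) hk₁ fun g hg => hk₂ g (hcp hg)
  have hf := isNE_subtype N
  have hQ : IsPGroup p (G ⧸ N) := by subst hNres; exact H4.isPGroup_quotient_pResidual p
  have hr : ∀ g : G, ¬ p ∣ orderOf g → g ∈ N := fun g hg => by
    rw [hNres]; exact H4.mem_pResidual (hcp hg)
  have hr' : ∀ g : G, ¬ p ∣ orderOf g → g ∈ N.subtype.range := by rwa [range_subtype]
  have hi : ∀ {n : ℕ}, ¬ p ∣ n → N.subtype.range.index.Coprime n := fun h => by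
    obtain ⟨a, ha⟩ := IsPGroup.iff_card.1 hQ
    rw [range_subtype, index_eq_card, ha]
    exact (hcp h).symm.pow_left a
  have hres : ∀ {χ : G → ℂ}, IsIrrCharacter G χ → ¬ p ∣ charDegree χ →
      IsIrrCharacter N fun n => χ n := by
    intro χ hχ hd
    obtain ⟨θ, hθ, h1⟩ := exists_irr_ip_ne_zero (char_cf (char_comp N.subtype (irr_char hχ)))
      (fun h => m4_one_ne hχ (by simpa using congrFun h 1))
    obtain ⟨e, he, he'⟩ := hf.deg_ratio hθ hχ h1
    have : e = 1 := Nat.eq_one_of_dvd_coprimes (hi (n := e) fun h => hd (he ▸ h.mul_right _)) he'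
      dvd_rfl
    rw [this, one_mul] at he
    have := eq_irr_of_degree_eq (char_comp N.subtype (irr_char hχ)) hθ h1
      (by rw [map_one, m4_deg hχ, m4_deg hθ, he])
    rw [← this] at hθ
    exact hθ
  let F : IrrCharacter G → IrrCharacter N := fun χ =>
    if h : IsIrrCharacter N fun n => χ.1 n then ⟨_, h⟩ else ⟨_, irr_one⟩
  have hF : ∀ χ : IrrCharacter G, ¬ p ∣ charDegree χ.1 → ∀ n : N, (F χ).1 n = χ.1 n := by
    intro χ hd n
    simp only [F, dif_pos (hres χ.2 hd)]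
  rw [← Set.coe_setOf, ← Set.coe_setOf, Nat.card_coe_set_eq, Nat.card_coe_set_eq]
  refine H28.ncard_eq_mul_of_fibers F ?_ ?_
  · rintro χ ⟨h1, h2, h3⟩
    refine ⟨(m5_mem_iff hM hf.inj hr' fun n => (hF χ h2 n).symm).1 h1, ?_, fun x _ n => ?_,
      fun n => ?_⟩
    · rw [funext (hF χ h2)]
      exact fun h => h2 (by simpa [charDegree] using h)
    · rw [hF χ h2, hF χ h2]
      exact irr_cf χ.2 _ _
    · rw [hF χ h2, hF χ h2]
      exact h3 _
  rintro θ ⟨h1, h2, h3, h4⟩
  have hinv : hf.Inv θ.1 := by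
    rw [hf.inv_iff_inertia, eq_top_iff,
      ← H4.sup_eq_top_of_isPGroup_quotient N hQ (H4.sylow_index_coprime P)]
    refine sup_le (fun n hn => hf.apply_mem_inertia (irr_cf θ.2) ⟨n, hn⟩) fun x hx => ?_
    rw [hf.mem_inertia, cjf_subtype]
    exact funext (h3 x hx)
  have hdet : ¬ p ∣ detOrder θ.1 := by
    rw [detOrder_eq]
    refine not_dvd_orderOf_hom hp.out ?_ _
    subst hNres
    exact H4.pResidual_pResidual p
  obtain ⟨χ, a1, a2, a3⟩ := hf.exists_canonical_ext θ.2 hinv (m4_deg θ.2)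
    ((hi hdet).mul_right (hi h2))
  have a4 : ∀ g, χ (g ^ k) = χ g := by
    obtain ⟨τ, hτ⟩ := H6.exists_ringEquiv_map_isGen hk
    have e : (fun g => χ (g ^ k)) = fun g => (τ : ℂ →+* ℂ) (χ g) :=
      funext fun g => (hτ χ (H6.isGen_of_irr a1) g).symm
    refine congrFun (hf.canonical_ext_unique θ.2 (m4_deg θ.2) (hi h2)
      (irr_char (H6.isIrr_comp_pow a1 hk)) (irr_char a1) (fun n => ?_) a2 ?_ (a3 ▸ hi hdet))
    · rw [← map_pow, a2, h4]
    · rw [e, detOrder_map _ (irr_char a1), a3]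
      exact hi hdet
  have a5 : IsIrrCharacter N fun n => χ (N.subtype n) := by rw [funext a2]; exact θ.2
  have hpk : ∀ g : G, (g : G ⧸ N) ^ k = (g : G ⧸ N) ^ (1 + p) := by
    intro g
    have : (g : G ⧸ N) = pPart p g := by
      conv_lhs => rw [← pPart_mul_pReg p g]
      rw [QuotientGroup.mk_mul, (QuotientGroup.eq_one_iff _).2 (hr _ (not_dvd_orderOf_pReg g)),
        mul_one]
    rw [this, ← QuotientGroup.mk_pow, ← QuotientGroup.mk_pow, hk₁ _ (orderOf_pPart g)]
  have hker : (QuotientGroup.mk' N).ker = N.subtype.range := by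
    rw [QuotientGroup.ker_mk', range_subtype]
  have hsur := QuotientGroup.mk'_surjective N
  have hpQ : p ∣ Nat.card (G ⧸ N) := by
    obtain ⟨a, ha⟩ := IsPGroup.iff_card.1 hQ
    rw [ha]
    refine dvd_pow_self p ?_
    rintro rfl
    exact hnt (index_eq_one.1 (by rw [index_eq_card, ha, pow_zero]))
  refine Eq.trans ?_ (m5_cyc_count (Q := G ⧸ N) hpQ)
  have b1 : ∀ (lam : G ⧸ N →* ℂˣ) (n : N),
      ((fun x => linFun lam (QuotientGroup.mk' N x)) * χ) n = θ.1 n := by
    intro lam n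
    rw [Pi.mul_apply, QuotientGroup.mk'_apply, (QuotientGroup.eq_one_iff _).2 n.2,
      linFun_one_apply, one_mul]
    exact a2 n
  have b2 : ∀ (lam : G ⧸ N →* ℂˣ) (g : G),
      ((fun x => linFun lam (QuotientGroup.mk' N x)) * χ) (g ^ k) =
        ((fun x => linFun (lam ^ (1 + p)) (QuotientGroup.mk' N x)) * χ) g := by
    intro lam g
    simp only [Pi.mul_apply, a4, QuotientGroup.mk'_apply, QuotientGroup.mk_pow, hpk, linFun_apply,
      map_pow, MonoidHom.pow_apply]
  have b3 : ∀ lam : G ⧸ N →* ℂˣ,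
      charDegree ((fun x => linFun lam (QuotientGroup.mk' N x)) * χ) = charDegree θ.1 := by
    intro lam
    have := b1 lam 1
    rw [coe_one] at this
    simp only [charDegree, this]
  symm
  refine Set.ncard_congr (fun lam _ => ⟨_, gallagher_irr hsur hker (irr_char a1) a5
    (irr_linFun lam)⟩) ?_ ?_ ?_
  · intro lam hl
    refine ⟨⟨(m5_mem_iff hM hf.inj hr' (b1 lam)).2 h1, by rw [b3]; exact h2, fun g => ?_⟩, ?_⟩
    · refine (b2 lam g).trans ?_
      rw [pow_add lam, pow_one, show lam ^ p = 1 from hl, mul_one lam]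
    · exact Subtype.ext (funext fun n => (hF _ (by rw [b3]; exact h2) n).trans (b1 lam n))
  · intro lam mu _ _ h
    exact linFun_injective (gallagher_inj hsur hker (irr_char a1) a5 (irr_linFun lam)
      (irr_linFun mu) (congrArg Subtype.val h))
  · rintro ψ ⟨⟨c1, c2, c3⟩, c4⟩
    obtain ⟨β, hβ, e⟩ := hf.gallagher_surj hsur hker (irr_char a1) a5 ψ.2 (by
      have : (fun n => ψ.1 (N.subtype n)) = θ.1 := funext fun n => by rw [← c4]; exact (hF ψ c2 n).symm
      rw [this, funext a2, ip_irr_self θ.2]; exact one_ne_zero)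
    obtain ⟨lam, rfl⟩ := H6.exists_linear_of_comm (IsCyclic.commutative.1.1) hβ
    refine ⟨lam, ?_, Subtype.ext e.symm⟩
    have := linFun_injective (gallagher_inj hsur hker (irr_char a1) a5 (irr_linFun (lam ^ (1 + p)))
      (irr_linFun lam) (funext fun g => by
        rw [← b2]
        have := c3 g
        rwa [e] at this))
    rwa [pow_add lam, pow_one, mul_eq_left] at this

end Cfsg.Agent.H7
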