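import Mathlib
import Cfsg.Prelude.Def_Characters
import Cfsg.Agent.H1.Product
import Cfsg.Agent.H2.Radical
import Cfsg.Agent.H7.Jordan

/-!
The theorem of Okuyama and Wajima on extensions of Glauberman correspondents.
-/

namespace Cfsg.Agent.H7

open Cfsg
open scoped ComplexConjugate commutatorElement

section Abstract

variable {G N : Type*} [Group G] [Group N] [Finite G] [Finite N] {f : N →* G}

theorem lin_eq_one_of_mul_eq {χ : G → ℂ} (hχ : IsCharacter G χ)
    (hχN : IsIrrCharacter N fun n => χ (f n)) {lam : G →* ℂˣ} (h1 : ∀ n, lam (f n) = 1)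
    (h : linFun lam * χ = χ) : lam = 1 := by
  have h2 := ip_mul_mul_of_irr f (irr_of_irr_comp f hχ hχN) (char_linFun lam) char_one irr_one
    (by simpa using hχN) (a := 1) (b := 1) (funext fun n => by simp [linFun_apply, h1])
    (funext fun n => by simp)
  rw [h, one_mul, ip_irr_self (irr_of_irr_comp f hχ hχN)] at h2
  exact linFun_injective (irr_eq_of_ip_ne_zero (irr_linFun lam) irr_one (h2 ▸ one_ne_zero))

/-- An extension of an invariant character is invariant under a coprime automorphism acting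
trivially on the quotient. -/
theorem IsNE.comp_eq_of_ext (hf : IsNE f) (α : G →* G) {m : ℕ} (hm : ∀ g, α^[m] g = g)
    (hα : ∀ g, α g * g⁻¹ ∈ f.range) (hc : m.Coprime f.range.index) {χ : G → ℂ}
    (hχ : IsCharacter G χ) (hχN : IsIrrCharacter N fun n => χ (f n))
    (h : ∀ n, χ (α (f n)) = χ (f n)) (g : G) : χ (α g) = χ g := by
  haveI := hf.normal
  obtain ⟨lam, h1, h2⟩ := hf.exists_linear_of_ext hχ hχN (char_comp α hχ) h
  have h3 : ∀ g, lam (α g) = lam g := fun g => by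
    obtain ⟨n, hn⟩ := hα g
    rw [← mul_inv_eq_one, ← map_inv, ← map_mul, ← hn, h1]
  have h4 : ∀ j g, χ (α^[j] g) = (lam g : ℂ) ^ j * χ g := fun j => by
    induction j with
    | zero => simp
    | succ j ih => intro g; rw [Function.iterate_succ_apply, ih, h3, congrFun h2 g, pow_succ, mul_assoc]; rfl
  have h5 : lam ^ m = 1 := lin_eq_one_of_mul_eq hχ hχN (fun n => by simp [h1])
    (funext fun g => by simpa [linFun_apply, hm] using (h4 m g).symm)
  have h6 : lam = 1 := by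
    rw [← pow_one lam, ← hc.gcd_eq_one]
    exact pow_gcd_eq_one.mpr ⟨h5, hom_pow_index_eq_one lam h1⟩
  simpa [h6] using congrFun h2 g

theorem IsNE.irr_res_of_lin (hf : IsNE f) (hab : commutator G ≤ f.range) {ξ : G → ℂ}
    (hξ : IsIrrCharacter G ξ)
    (h : ∀ lam : G →* ℂˣ, (∀ n, lam (f n) = 1) → linFun lam * ξ = ξ → lam = 1) :
    IsIrrCharacter N fun n => ξ (f n) := by
  refine hf.irr_res_of_abelian hab hξ fun U h1 h2 => eq_top_iff.mpr fun g _ => ?_
  haveI : U.Normal := Subgroup.Normal.of_commutator_le _ (hab.trans h1)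
  refine H6.mem_of_forall_irr_charKer U fun χ hχ h3 => ?_
  have h4 := (H6.degree_eq_one_iff_commutator_le hχ).mpr (hab.trans (h1.trans h3))
  obtain ⟨lam, rfl⟩ := exists_linFun (irr_char hχ) h4
  have h5 : ∀ x ∈ U, lam x = 1 := fun x hx =>
    Units.ext ((H6.apply_eq_of_mem_charKer (h3 hx)).trans h4)
  rw [h lam (fun n => h5 _ (h1 ⟨n, rfl⟩)) (funext fun x => by
    by_cases e : ξ x = 0
    · simp [e]
    · simp [linFun_apply, h5 x (h2 x e)])]
  exact fun x => rfl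

omit [Finite G] [Finite N] in
theorem PCong.lin_mul {p : ℕ} {φ β : G → ℂ} (h : PCong p φ β) (lam : G →* ℂˣ) :
    PCong p (linFun lam * φ) (linFun lam * β) := by
  obtain ⟨ε, hε, Δ, hΔ, rfl⟩ := h
  exact ⟨ε, hε, linFun lam * Δ, H6.isGen_mul (H6.isGen_of_isCharacter (char_linFun lam)) hΔ,
    by simp [mul_add]⟩

end Abstract

section Ambient

variable {Γ : Type*} [Group Γ] [Finite Γ] {p : ℕ}

theorem Nrm.sup_right {S G H : Subgroup Γ} (h : Nrm S G) (h' : Nrm S H) : Nrm S (G ⊔ H) :=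
  nrm_iff.mpr (H1.le_normalizer_sup h.le_normalizer h'.le_normalizer)

omit [Finite Γ] in
theorem Nrm.inf_right {S G H : Subgroup Γ} (h : Nrm S G) (h' : Nrm S H) : Nrm S (G ⊓ H) :=
  fun s hs g hg => ⟨h s hs g hg.1, h' s hs g hg.2⟩

theorem Nrm.cent {S G : Subgroup Γ} (h : Nrm S G) : Nrm S (Subgroup.centralizer (G : Set Γ)) :=
  nrm_iff.mpr (H1.le_normalizer_centralizer h.le_normalizer)

omit [Finite Γ] in
theorem nrm_of_cent {S G : Subgroup Γ} (h : S ≤ Subgroup.centralizer (G : Set Γ)) : Nrm S G :=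
  fun s hs g hg => by rwa [← h hs g hg, mul_inv_cancel_right]

omit [Finite Γ] in
theorem nrm_of_le {S G : Subgroup Γ} (h : S ≤ G) : Nrm S G := (nrm_self G).mono h

omit [Finite Γ] in
theorem nrm_of_comm {A B : Subgroup Γ} (h : B ≤ A) (h' : ⁅A, A⁆ ≤ B) : Nrm A B :=
  fun a ha b hb => by
    simpa [commutatorElement_def] using
      B.mul_mem (h' (Subgroup.commutator_mem_commutator ha (h hb))) hb

theorem Nrm.mem_sup {S G : Subgroup Γ} (h : Nrm S G) {x : Γ} :
    x ∈ G ⊔ S ↔ ∃ n ∈ G, ∃ y ∈ S, x = n * y :=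
  H1.mem_sup_iff_of_le_normalizer h.le_normalizer

theorem Nrm.comm_sup_le {B K : Subgroup Γ} (h : Nrm B K) (h' : ⁅B, B⁆ ≤ K) :
    ⁅K ⊔ B, K ⊔ B⁆ ≤ K := by
  rw [Subgroup.commutator_le]
  intro x hx y hy
  obtain ⟨k, hk, b, hb, rfl⟩ := h.mem_sup.mp hx
  obtain ⟨k', hk', b', hb', rfl⟩ := h.mem_sup.mp hy
  convert K.mul_mem (K.mul_mem (K.mul_mem (K.mul_mem hk (h b hb k' hk'))
    (h' (Subgroup.commutator_mem_commutator hb hb'))) (h b' hb' _ (K.inv_mem hk))) (K.inv_mem hk')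
    using 1
  simp only [commutatorElement_def]
  group

theorem Nrm.not_dvd_sup (hp : p.Prime) {B K : Subgroup Γ} (h : Nrm B K) (hB : ¬ p ∣ Nat.card B)
    (hK : ¬ p ∣ Nat.card K) : ¬ p ∣ Nat.card (K ⊔ B : Subgroup Γ) := fun e => by
  rw [sup_comm] at e
  exact (hp.dvd_mul.mp (e.trans (H2.card_sup_dvd_of_le_normalizer h.le_normalizer))).elim hB hK

theorem copAct_of_pgroup (hp : p.Prime) {R K : Subgroup Γ} (hR : IsPGroup p R)
    (hK : ¬ p ∣ Nat.card K) (h : Nrm R K) : CopAct R K (K ⊓ Subgroup.centralizer (R : Set Γ)) :=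
  haveI := Fact.mk hp
  ⟨h, H1.coprime_card_of_isPGroup hR (hp.coprime_iff_not_dvd.mpr hK).symm, rfl⟩

theorem PCong.sInv_right (hp : p.Prime) {A G C : Subgroup Γ} {h : C ≤ G} (hG : Nrm A G)
    (hC : Nrm A C) {χ : G → ℂ} (hχ : SInv A G χ) {β : C → ℂ} (hβ : IsIrrCharacter C β)
    (e : PCong p (fun c => χ (Subgroup.inclusion h c)) β) : SInv A C β :=
  (sInv_iff hC).mpr fun u hu => by
    refine PCong.unique hp ?_ e (irr_cjHom _ _ hβ) hβ
    rw [← (sInv_iff hG).mp hχ u hu]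
    exact e.comp (cjHom u (hC u hu))

theorem GlP.sInv_left {A S G C : Subgroup Γ} {h : C ≤ G} (X : GlP p S h) (hG : Nrm A G)
    (hC : Nrm A C) (hS : Nrm A S) {χ : G → ℂ} (hχ : IsIrrCharacter G χ) (hi : SInv S G χ)
    {β : C → ℂ} (hβ : IsIrrCharacter C β) (hβi : SInv A C β)
    (e : PCong p (fun c => χ (Subgroup.inclusion h c)) β) : SInv A G χ :=
  (sInv_iff hG).mpr fun u hu => by
    refine X.inj _ _ β (irr_cjHom _ _ hχ) (hi.cjHom _ (hS u hu)) hχ hi hβ ?_ e
    rw [← (sInv_iff hC).mp hβi u hu]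
    exact e.comp (cjHom u (hC u hu))

theorem extTo_of_cyclic {A B : Subgroup Γ} (hAB : Nrm A B) {g : Γ} (hg : B ⊔ Subgroup.zpowers g = A)
    {ξ : B → ℂ} (hξ : IsIrrCharacter B ξ) (hi : SInv A B ξ) : ExtTo B.subtype ξ A := by
  subst hg
  have hf := isNE_inclusion (le_sup_left : B ≤ B ⊔ Subgroup.zpowers g) hAB
  obtain ⟨χ, h1, h2⟩ := hf.exists_ext_of_cyclic hξ ((inv_inclusion_iff _ hf ξ).mpr hi)
    ⟨g, Subgroup.mem_sup_right (Subgroup.mem_zpowers g)⟩ fun x => by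
      obtain ⟨i, n, hn, e⟩ := exists_zpow_mul_of_mem_sup (hAB.mono le_sup_right) x.2
      exact ⟨i, ⟨n, hn⟩, Subtype.ext e⟩
  exact ⟨χ, irr_char h1, fun n _ => h2 n⟩

omit [Finite Γ] in
theorem ExtTo.of_res {K B A : Subgroup Γ} (h : K ≤ B) (h' : B ≤ A) {η : B → ℂ}
    (e : ExtTo B.subtype η A) : ExtTo K.subtype (fun k => η (Subgroup.inclusion h k)) A :=
  let ⟨χ, h1, h2⟩ := e
  ⟨χ, h1, fun n _ => h2 (Subgroup.inclusion h n) (h' (h n.2))⟩

omit [Finite Γ] in
theorem ExtTo.mono {N : Type*} [Group N] {f : N →* Γ} {θ : N → ℂ} {A B : Subgroup Γ} (h : B ≤ A)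
    (e : ExtTo f θ A) : ExtTo f θ B :=
  let ⟨χ, h1, h2⟩ := e
  ⟨_, char_comp (Subgroup.inclusion h) h1, fun n hn => h2 n (h hn)⟩

/-- The case of operators centralized by a cocyclic subgroup. -/
theorem ow_step (hp : p.Prime) {K A B R C : Subgroup Γ} (hR : IsPGroup p R)
    (hK : ¬ p ∣ Nat.card K) (hB : ¬ p ∣ Nat.card B) (h : CopAct R K C) (hAK : Nrm A K)
    (hAR : Nrm A R) (hAB : Nrm A B) (hBR : B ≤ Subgroup.centralizer (R : Set Γ))
    (hBB : ⁅B, B⁆ ≤ K) {g : Γ} (hg : B ⊔ Subgroup.zpowers g = A) {θ : K → ℂ}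
    (hθ : IsIrrCharacter K θ) (hθR : SInv R K θ) {β : C → ℂ} (hβ : IsIrrCharacter C β)
    (e : PCong p (fun c => θ (Subgroup.inclusion h.le c)) β) :
    ExtTo K.subtype θ (K ⊔ A) ↔ ExtTo C.subtype β (C ⊔ A) := by
  have hBA : B ≤ A := hg ▸ le_sup_left
  have hBK := hAK.mono hBA
  have hAC : Nrm A C := h.fix ▸ hAK.inf_right hAR.cent
  have hRB : Nrm R B := nrm_of_cent (Subgroup.le_centralizer_iff.mp hBR)
  have hD := hBK.not_dvd_sup hp hB hK
  have h' : CopAct R (K ⊔ B) (C ⊔ B) := by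
    refine ⟨h.nrm.sup_right hRB, (copAct_of_pgroup hp hR hD (h.nrm.sup_right hRB)).cop,
      le_antisymm (le_inf (sup_le_sup_right h.le _) (sup_le h.le_centralizer hBR)) ?_⟩
    rintro x ⟨hx, hx'⟩
    obtain ⟨k, hk, b, hb, rfl⟩ := hBK.mem_sup.mp hx
    refine Subgroup.mul_mem_sup (h.fix ▸ ⟨hk, ?_⟩) hb
    simpa using Subgroup.mul_mem _ hx' (Subgroup.inv_mem _ (hBR hb))
  have X := h'.glP hp hR
  have hf := isNE_inclusion (le_sup_left : K ≤ K ⊔ B) ((nrm_self K).sup hBK)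
  have hf' := isNE_inclusion (le_sup_left : C ≤ C ⊔ B) ((nrm_self C).sup (hAC.mono hBA))
  have hab := commutator_le_range_inclusion le_sup_left (hBK.comm_sup_le hBB)
  have hab' : commutator (C ⊔ B : Subgroup Γ) ≤ (Subgroup.inclusion le_sup_left).range :=
    commutator_le_range_inclusion le_sup_left ((hAC.mono hBA).comm_sup_le (h.fix ▸ le_inf hBB
      ((Subgroup.commutator_le_self _).trans hBR)))
  have hKA : K ⊔ B ≤ K ⊔ A := sup_le_sup_left hBA _
  have hCA : C ⊔ B ≤ C ⊔ A := sup_le_sup_left hBA _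
  have n1 : Nrm (K ⊔ A) (K ⊔ B) := (nrm_of_le le_sup_left).sup (hAK.sup_right hAB)
  have n2 : Nrm (C ⊔ A) (C ⊔ B) := (nrm_of_le le_sup_left).sup (hAC.sup_right hAB)
  have key : ∀ lam : (K ⊔ B : Subgroup Γ) →* ℂˣ, (∀ n, lam (Subgroup.inclusion le_sup_left n) = 1) →
      (lam.comp (Subgroup.inclusion h'.le) = 1 → lam = 1) ∧
      ∀ η, SInv R _ η → SInv R _ (linFun lam * η) := fun lam hl => by
    have h1 : ∀ x : (K ⊔ B : Subgroup Γ), ∃ (k : K) (b : B),
        x = Subgroup.inclusion le_sup_left k * Subgroup.inclusion le_sup_right b := fun x => by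
      obtain ⟨k, hk, b, hb, e⟩ := hBK.mem_sup.mp x.2
      exact ⟨⟨k, hk⟩, ⟨b, hb⟩, Subtype.ext e⟩
    refine ⟨fun e => MonoidHom.ext fun x => ?_, fun η hη s hs x y e => ?_⟩
    · obtain ⟨k, b, rfl⟩ := h1 x
      rw [map_mul, hl, one_mul]
      exact DFunLike.congr_fun e (Subgroup.inclusion le_sup_right b)
    · obtain ⟨k, b, rfl⟩ := h1 x
      rw [Pi.mul_apply, Pi.mul_apply, hη s hs _ _ e, linFun_apply, linFun_apply,
        show y = Subgroup.inclusion le_sup_left ⟨_, h.nrm s hs k k.2⟩ *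
          Subgroup.inclusion le_sup_right b from Subtype.ext (by
            simp only [e, Subgroup.coe_mul, Subgroup.coe_inclusion]
            rw [mul_assoc (s * k), hBR b.2 _ (inv_mem hs)]; group), map_mul, map_mul, hl, hl]
  constructor
  · rintro ⟨χ, hχ, e1⟩
    let η := fun x => χ (Subgroup.inclusion hKA x)
    have e2 : (fun n => η (Subgroup.inclusion le_sup_left n)) = θ := funext fun n => e1 n _
    have hη := char_comp (Subgroup.inclusion hKA) hχ
    have hη' : IsIrrCharacter _ η := irr_of_irr_comp _ hη (e2 ▸ hθ)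
    have hi : SInv R _ η := (sInv_iff h'.nrm).mpr fun s hs => funext <|
      hf.comp_eq_of_ext (cjHom s (h'.nrm s hs)) (m := Nat.card R) (fun x => Subtype.ext (by
        have : ∀ j, (((cjHom s (h'.nrm s hs))^[j] x : (K ⊔ B : Subgroup Γ)) : Γ) =
            s ^ j * x * (s ^ j)⁻¹ := fun j => by
          induction j with
          | zero => simp
          | succ j ih => rw [Function.iterate_succ_apply', cjHom_coe, ih, pow_succ']; group
        rw [this, show s ^ Nat.card R = 1 from congrArg Subtype.val (pow_card_eq_one' (x := (⟨s, hs⟩ : R)))]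
        simp))
        (fun x => by
          obtain ⟨k, hk, b, hb, e⟩ := hBK.mem_sup.mp x.2
          refine ⟨⟨_, K.mul_mem (h.nrm s hs k hk) (K.inv_mem hk)⟩, Subtype.ext ?_⟩
          simp only [Subgroup.coe_inclusion, Subgroup.coe_mul, cjHom_coe, Subgroup.coe_inv, e]
          rw [← mul_assoc s, mul_assoc (s * k) b, ← hBR hb _ (inv_mem hs)]; group)
        (h'.cop.symm.coprime_dvd_right (Subgroup.index_dvd_card _)) hη (e2 ▸ hθ)
        fun n => (congrFun e2 ⟨_, h.nrm s hs n n.2⟩).trans ((hθR s hs _ _ rfl).trans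
          (congrFun e2 n).symm)
    obtain ⟨ξ, hξ, e3⟩ := X.ex η hη' hi
    have h1 := hf'.irr_res_of_lin hab' hξ fun lam h1 h2 => by
      haveI := hf.normal
      let φ := (QuotientGroup.mk' (Subgroup.inclusion (le_sup_left : K ≤ K ⊔ B)).range).comp
        (Subgroup.inclusion h'.le)
      have hφ : Function.Surjective φ := fun q => by
        obtain ⟨x, rfl⟩ := QuotientGroup.mk_surjective q
        obtain ⟨k, hk, b, hb, e⟩ := hBK.mem_sup.mp x.2
        refine ⟨⟨b, Subgroup.mem_sup_right hb⟩, QuotientGroup.eq.mpr ⟨⟨_, hBK _ (inv_mem hb) k hk⟩,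
          Subtype.ext ?_⟩⟩
        simp [e, mul_assoc]
      let μ := (φ.liftOfSurjective hφ ⟨lam, fun x hx => by
        obtain ⟨k, hk⟩ := (QuotientGroup.eq_one_iff _).mp hx
        have : (x : Γ) ∈ C := h.fix.ge ⟨(show (k : Γ) = x from congrArg Subtype.val hk) ▸ k.2,
          h'.le_centralizer x.2⟩
        exact h1 ⟨x, this⟩⟩).comp (QuotientGroup.mk' _)
      have hμ : μ.comp (Subgroup.inclusion h'.le) = lam := MonoidHom.ext fun x =>
        φ.liftOfRightInverse_comp_apply (Function.surjInv hφ) (Function.rightInverse_surjInv hφ) _ x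
      have hμ1 : ∀ n, μ (Subgroup.inclusion le_sup_left n) = 1 := fun n => by
        simp only [μ, MonoidHom.comp_apply, QuotientGroup.mk'_apply]
        rw [(QuotientGroup.eq_one_iff (Subgroup.inclusion le_sup_left n)).mpr
          (MonoidHom.mem_range.mpr ⟨n, rfl⟩), map_one]
      have e4 := e3.lin_mul lam
      rw [h2, ← hμ] at e4
      have e5 := lin_eq_one_of_mul_eq hη (e2 ▸ hθ) hμ1 (X.inj _ _ ξ (mul_comm η _ ▸ irr_mul_linear hη'
        (char_linFun μ) (linFun_one_apply μ)) ((key μ hμ1).2 η hi) hη' hi hξ e4 e3)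
      rw [← hμ, e5]
      rfl
    have h2 := PCong.unique hp (e3.comp (Subgroup.inclusion le_sup_left)) (by rw [← e2] at e; exact e) h1 hβ
    rw [← h2]
    refine ExtTo.of_res _ hCA (extTo_of_cyclic n2 (g := g) (by rw [sup_assoc, hg]) hξ
      ((sInv_self (irr_cf hξ)).mono le_sup_left |>.sup ?_ (nrm_of_le le_sup_left)
        (n2.mono le_sup_right)))
    exact PCong.sInv_right hp (n1.mono le_sup_right) (n2.mono le_sup_right)
      (((sInv_self (char_cf hχ)).mono le_sup_right).res hKA) hξ e3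
  · rintro ⟨χ, hχ, e1⟩
    let ξ := fun x => χ (Subgroup.inclusion hCA x)
    have e2 : (fun n => ξ (Subgroup.inclusion le_sup_left n)) = β := funext fun n => e1 n _
    have hξ := char_comp (Subgroup.inclusion hCA) hχ
    have hξ' : IsIrrCharacter _ ξ := irr_of_irr_comp _ hξ (e2 ▸ hβ)
    obtain ⟨η, hη, hi, e3⟩ := X.surj ξ hξ'
    have h1 := hf.irr_res_of_lin hab hη fun lam h1 h2 => (key lam h1).1 <| by
      have e4 := e3.lin_mul (lam.comp (Subgroup.inclusion h'.le))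
      refine lin_eq_one_of_mul_eq hξ (e2 ▸ hβ) (fun n => h1 (Subgroup.inclusion h.le n))
        (PCong.unique hp e4 ?_ (mul_comm ξ _ ▸ irr_mul_linear hξ' (char_linFun _)
          (linFun_one_apply _)) hξ')
      rw [← h2] at e3
      exact e3
    have h2 := (h.glP hp hR).inj _ _ β h1 (hi.res _) hθ hθR hβ
      (e2 ▸ e3.comp (Subgroup.inclusion le_sup_left)) e
    rw [← h2]
    refine ExtTo.of_res _ hKA (extTo_of_cyclic n1 (g := g) (by rw [sup_assoc, hg]) hη
      ((sInv_self (irr_cf hη)).mono le_sup_left |>.sup ?_ (nrm_of_le le_sup_left)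
        (n1.mono le_sup_right)))
    exact X.sInv_left (n1.mono le_sup_right) (n2.mono le_sup_right) hAR hη hi hξ'
      (((sInv_self (char_cf hχ)).mono le_sup_right).res hCA) e3

theorem exists_cocyclic {A R C L : Subgroup Γ} (hAR : Nrm A R)
    (hcop : (Nat.card A).Coprime (Nat.card R)) (hC : C ≤ A)
    (hCR : C ≤ Subgroup.centralizer (R : Set Γ)) (hab : ⁅A, A⁆ ≤ C) (h : ¬ R ≤ L) :
    ∃ B, C ≤ B ∧ B ≤ A ∧ (∃ g, B ⊔ Subgroup.zpowers g = A) ∧
      ¬ R ⊓ Subgroup.centralizer (B : Set Γ) ≤ L := by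
  by_contra H
  simp only [not_exists, not_and, not_not] at H
  let M := Subgroup.normalizer (C : Set Γ)
  have hA : A ≤ M := (nrm_of_comm hC hab).le_normalizer
  have hR : R ≤ M := (nrm_of_cent (Subgroup.le_centralizer_iff.mp hCR)).le_normalizer
  let π := QuotientGroup.mk' (C.subgroupOf M)
  have hd : ∀ x : M, π x = 1 → (x : Γ) ∈ R → (x : Γ) = 1 := fun x h1 h2 =>
    Subgroup.disjoint_def.mp (Subgroup.disjoint_of_coprime_natCard hcop)
      (hC ((QuotientGroup.eq_one_iff x).mp h1)) h2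
  haveI : IsMulCommutative ((A.subgroupOf M).map π) := ⟨⟨by
    rintro ⟨_, a, ha, rfl⟩ ⟨_, b, hb, rfl⟩
    refine Subtype.ext (commutatorElement_eq_one_iff_mul_comm.mp ?_)
    change ⁅π a, π b⁆ = 1
    rw [← map_commutatorElement]
    exact (QuotientGroup.eq_one_iff _).mpr (hab (Subgroup.commutator_mem_commutator ha hb))⟩⟩
  have h1 := H1.le_of_centralizer_cocyclic_le ((A.subgroupOf M).map π) ((R.subgroupOf M).map π)
    (((R ⊓ L).subgroupOf M).map π) (nrm_iff.mp (by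
      rintro _ ⟨a, ha, rfl⟩ _ ⟨r, hr, rfl⟩
      exact ⟨a * r * a⁻¹, hAR _ ha _ hr, by simp⟩))
    ((hcop.coprime_dvd_left ((Subgroup.card_map_dvd _ _).trans (Subgroup.card_comap_dvd_of_injective
      _ _ M.subtype_injective))).coprime_dvd_right ((Subgroup.card_map_dvd _ _).trans
        (Subgroup.card_comap_dvd_of_injective _ _ M.subtype_injective)))
    (by
      rintro B hB ⟨_, ⟨g, hg, rfl⟩, e⟩ _ ⟨⟨r, hr, rfl⟩, hr'⟩
      have h2 : ∀ x : M, π x ∈ (A.subgroupOf M).map π → (x : Γ) ∈ A := by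
        rintro x ⟨a, ha, e⟩
        simpa using A.mul_mem ha (hC ((QuotientGroup.eq (a := a) (b := x)).mp e))
      refine ⟨r, ⟨hr, H ((B.comap π).map M.subtype) (fun c hc => ⟨⟨c, hA (hC hc)⟩, by
        rw [SetLike.mem_coe, Subgroup.mem_comap, show π ⟨c, hA (hC hc)⟩ = 1 from
          (QuotientGroup.eq_one_iff _).mpr hc]
        exact one_mem _, rfl⟩) (by rintro _ ⟨b, hb, rfl⟩; exact h2 b (hB hb)) ⟨g, ?_⟩ ⟨hr, ?_⟩⟩, rfl⟩
      · change _ ⊔ Subgroup.zpowers (M.subtype g) = _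
        rw [← MonoidHom.map_zpowers, ← Subgroup.map_sup, ← Subgroup.map_subgroupOf_eq_of_le hA]
        congr 1
        rw [← Subgroup.comap_map_eq_self (f := π) (H := A.subgroupOf M)
          (by rw [QuotientGroup.ker_mk']; exact fun x hx => hC hx), ← e,
          ← MonoidHom.map_zpowers, ← Subgroup.comap_sup_eq _ _ _ (QuotientGroup.mk'_surjective _),
          Subgroup.comap_map_eq, sup_comm (Subgroup.zpowers g), ← sup_assoc,
          sup_eq_left.mpr (Subgroup.ker_le_comap _ _)]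
      · rintro _ ⟨b, hb, rfl⟩
        refine commutatorElement_eq_one_iff_mul_comm.mp (hd ⁅b, r⁆ ?_ ?_)
        · rw [map_commutatorElement, commutatorElement_eq_one_iff_mul_comm]
          exact hr' _ hb
        · exact R.mul_mem (hAR _ (h2 b (hB hb)) _ hr) (R.inv_mem hr))
  refine h fun r hr => ?_
  obtain ⟨l, hl, e⟩ := h1 ⟨⟨r, hR hr⟩, hr, rfl⟩
  have h2 := hd (l⁻¹ * ⟨r, hR hr⟩) (by rw [map_mul, map_inv, e, inv_mul_cancel])
    (R.mul_mem (R.inv_mem hl.1) hr)
  have h3 : (l : Γ) = r := inv_mul_eq_one.mp h2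
  exact h3 ▸ hl.2

/-- The theorem of Okuyama and Wajima. -/
theorem okuyama_wajima (hp : p.Prime) {Q A : Subgroup Γ} (hQ : IsPGroup p Q)
    (hA : ¬ p ∣ Nat.card A) (hAQ : Nrm A Q) : ∀ (n : ℕ) {K C : Subgroup Γ} (_ : Nat.card K = n)
    (_ : ¬ p ∣ Nat.card K) (h : CopAct Q K C) (_ : Nrm A K) (_ : ⁅A, A⁆ ≤ K) {θ : K → ℂ}
    (_ : IsIrrCharacter K θ) (_ : SInv Q K θ) {β : C → ℂ} (_ : IsIrrCharacter C β)
    (_ : PCong p (fun c => θ (Subgroup.inclusion h.le c)) β),
    ExtTo K.subtype θ (K ⊔ A) ↔ ExtTo C.subtype β (C ⊔ A) := by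
  intro n
  induction n using Nat.strong_induction_on with
  | _ n ih =>
  intro K C hn hK h hAK hAA θ hθ hi β hβ e
  haveI := Fact.mk hp
  by_cases h0 : Q ≤ Subgroup.centralizer (K : Set Γ)
  · obtain rfl : C = K := by rw [h.fix, inf_eq_left]; exact Subgroup.le_centralizer_iff.mp h0
    rw [PCong.unique hp (PCong.refl θ) e hθ hβ]
  obtain ⟨R₀, hR₀⟩ := exists_minimal_of_wellFoundedLT (fun R : Subgroup Γ => R ≤ Q ∧ Nrm Q R ∧
    Nrm A R ∧ ¬ R ≤ Subgroup.centralizer (K : Set Γ)) ⟨Q, le_rfl, nrm_self Q, hAQ, h0⟩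
  obtain ⟨h1, h2, h3, h4⟩ := hR₀.prop
  have h5 : ⁅R₀, Q⁆ ≤ Subgroup.centralizer (K : Set Γ) := by
    by_contra h5
    have h6 := H1.commutator_lt_of_isPGroup (hQ.to_le h1) hQ h2.le_normalizer
      (by rintro rfl; exact h4 bot_le)
    exact h6.not_ge (hR₀.le_of_le ⟨h6.le.trans h1, nrm_iff.mpr (H1.le_normalizer_commutator
      h2.le_normalizer Subgroup.le_normalizer), nrm_iff.mpr (H1.le_normalizer_commutator
      h3.le_normalizer hAQ.le_normalizer), h5⟩ h6.le)
  have h6 : A ⊓ K ≤ Subgroup.centralizer (Q : Set Γ) := fun a ha q hq => by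
    refine commutatorElement_eq_one_iff_mul_comm.mp (Subgroup.disjoint_def.mp
      (Subgroup.disjoint_of_coprime_natCard h.cop) (K.mul_mem (h.nrm q hq a ha.2) (K.inv_mem ha.2)) ?_)
    simpa [commutatorElement_def, mul_assoc] using Q.mul_mem hq (hAQ a ha.1 _ (Q.inv_mem hq))
  have hAA' : ⁅A, A⁆ ≤ A ⊓ K := le_inf (Subgroup.commutator_le_self _) hAA
  obtain ⟨B, h7, h8, ⟨g, hg⟩, h9⟩ := exists_cocyclic h3 (H1.coprime_card_of_isPGroup (hQ.to_le h1)
    (hp.coprime_iff_not_dvd.mpr hA).symm) inf_le_left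
    (h6.trans (Subgroup.centralizer_le h1)) hAA' h4
  set R := R₀ ⊓ Subgroup.centralizer (B : Set Γ)
  have hRQ : R ≤ Q := inf_le_left.trans h1
  have hAB := nrm_of_comm h8 (hAA'.trans h7)
  have h' := h.mono hRQ
  set K₁ := K ⊓ Subgroup.centralizer (R : Set Γ)
  have hAR : Nrm A R := h3.inf_right hAB.cent
  have hQK : Nrm Q K₁ := fun q hq k hk => ⟨h.nrm q hq k hk.1, fun r hr => by
    have a1 := h5 (Subgroup.commutator_mem_commutator (R₀.inv_mem hr.1) (Q.inv_mem hq)) k hk.1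
    have a2 := hk.2 r hr
    simp only [commutatorElement_def, inv_inv] at a1
    calc r * (q * k * q⁻¹) = q * r * ((r⁻¹ * q⁻¹ * r * q) * k) * q⁻¹ := by group
      _ = q * (r * k) * (r⁻¹ * q⁻¹ * r * q) * q⁻¹ := by rw [← a1]; group
      _ = _ := by rw [a2]; group⟩
  obtain ⟨θ₁, hθ₁, e₁⟩ := (h'.glP hp (hQ.to_le hRQ)).ex θ hθ (hi.mono hRQ)
  have h'' : CopAct Q K₁ C := ⟨hQK, h.cop.coprime_dvd_left (Subgroup.card_dvd_of_le inf_le_left), by
    rw [h.fix, inf_assoc, inf_eq_right.mpr (Subgroup.centralizer_le hRQ)]⟩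
  have hi₁ := PCong.sInv_right hp h.nrm hQK hi hθ₁ e₁
  obtain ⟨β₁, hβ₁, e₂⟩ := (h''.glP hp hQ).ex θ₁ hθ₁ hi₁
  obtain rfl := PCong.unique hp ((e₁.comp (Subgroup.inclusion h''.le)).trans e₂) e hβ₁ hβ
  refine (ow_step hp (hQ.to_le hRQ) hK (fun a => hA (a.trans (Subgroup.card_dvd_of_le h8))) h' hAK
    hAR hAB (Subgroup.le_centralizer_iff.mp inf_le_right)
    ((Subgroup.commutator_mono h8 h8).trans hAA) hg hθ (hi.mono hRQ) hθ₁ e₁).trans
    (ih _ (hn ▸ H4.card_lt_card_of_lt (lt_of_le_of_ne inf_le_left fun a => h9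
      (Subgroup.le_centralizer_iff.mp (inf_eq_left.mp a)))) rfl
      (fun a => hK (a.trans (Subgroup.card_dvd_of_le inf_le_left))) h'' (hAK.inf_right hAR.cent)
      (le_inf hAA (hAA'.trans (h6.trans (Subgroup.centralizer_le hRQ)))) hθ₁ hi₁ hβ e₂)

end Ambient

end Cfsg.Agent.H7
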