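import Cfsg.Agent.H7.M5
import Cfsg.Agent.H7.OW
import Cfsg.Agent.H7.CT
import Cfsg.Agent.H7.M1
import Cfsg.Agent.H8.Rank1
import Cfsg.Agent.H6.Square
import Cfsg.Agent.H4.Control

/-! Fully ramified characters and assorted results. -/

namespace Cfsg.Agent.H7

open Subgroup
open scoped ComplexConjugate commutatorElement

variable {G : Type*} [Group G] [Finite G]

theorem m6_unique_over {Z : Subgroup G} {χ : G → ℂ} (hχ : IsIrrCharacter G χ) {θ : Z → ℂ}
    (hθ : IsIrrCharacter Z θ) {e : ℕ} (he : e ^ 2 = Z.index) (h : ∀ z : Z, χ z = e * θ z)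
    {ψ : G → ℂ} (hψ : IsIrrCharacter G ψ) (h0 : ip (fun z : Z => ψ z) θ ≠ 0) : ψ = χ := by
  have h1 := ind_eq_smul_of_sq_eq_index Z.subtype_injective hχ hθ (funext h)
    (by rwa [range_subtype])
  obtain ⟨m, hm⟩ := ip_char_nat (char_comp Z.subtype (irr_char hψ)) (irr_char hθ)
  have h2 := ip_ind_left Z.subtype θ (irr_cf hψ)
  rw [ip_natCast_comm hm, h1, ip_smul_left, ← hm] at h2
  by_contra hne
  rw [ip_irr_ne hχ hψ (Ne.symm hne), mul_zero] at h2
  exact h0 h2.symm

theorem s4565 (Z : Subgroup G) [hZ : Z.Normal] {χ : G → ℂ} (hχ : IsIrrCharacter G χ) {θ : Z → ℂ}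
    (hθ : IsIrrCharacter Z θ) {e : ℕ} (he : e ^ 2 = Z.index) (h : ∀ z : Z, χ z = e * θ z)
    (hZ' : Z ≠ ⊤) (C : Subgroup (G ⧸ Z)) (hC : IsCyclic C) :
    centralizer (C : Set (G ⧸ Z)) ≠ C := by
  intro hc
  have hf := isNE_subtype Z
  have he0 : (e : ℂ) ≠ 0 := by
    rintro h0
    rw [Nat.cast_eq_zero.1 h0] at he
    exact index_ne_zero_of_finite he.symm
  have hinv : hf.Inv θ := hf.inv_of_res_eq_smul (irr_cf hχ) he0 (funext h)
  have h1 := hf.card_over hθ hinv (QuotientGroup.mk'_surjective Z)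
    (by rw [QuotientGroup.ker_mk', range_subtype])
  have hext : ∀ a : G ⧸ Z, ExtTo Z.subtype θ ((zpowers a).comap (QuotientGroup.mk' Z)) := by
    intro a
    obtain ⟨g, rfl⟩ := QuotientGroup.mk'_surjective Z a
    refine extTo_of_cyclic (g := g) (fun s _ x hx => hZ.conj_mem x hx s) ?_ hθ ?_
    · rw [← MonoidHom.map_zpowers, comap_map_eq, QuotientGroup.ker_mk', sup_comm]
    · intro s _ x y e
      have := (inv_subtype_iff Z hf θ).1 hinv s x
      rw [← this]
      congr 1
      exact Subtype.ext e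
  obtain ⟨c, hc'⟩ := (Subgroup.isCyclic_iff_exists_zpowers_eq_top C).1 hC
  have h2 : Nat.card {ψ : IrrCharacter G // ip (fun n => (ψ : G → ℂ) (Z.subtype n)) θ ≠ 0} ≤ 1 := by
    rw [Finite.card_le_one_iff_subsingleton]
    exact ⟨fun a b => Subtype.ext (Subtype.ext ((m6_unique_over hχ hθ he h a.1.2 a.2).trans
      (m6_unique_over hχ hθ he h b.1.2 b.2).symm))⟩
  rw [h1, Finite.card_le_one_iff_subsingleton] at h2
  have h3 := congrArg Subtype.val (h2.elim ⟨ConjClasses.mk 1, 1, rfl, fun b _ =>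
    (hext b).mono (comap_mono (by simp [closure_le, Set.insert_subset_iff]))⟩
    ⟨ConjClasses.mk c, c, rfl, fun b hb => (hext c).mono (comap_mono ?_)⟩)
  · have h4 : c = 1 := isConj_one_right.1 (ConjClasses.mk_eq_mk_iff_isConj.1 h3)
    rw [h4, zpowers_one_eq_bot] at hc'
    rw [← hc'] at hc
    apply hZ'
    rw [eq_top_iff]
    intro g _
    rw [← QuotientGroup.eq_one_iff, ← mem_bot, ← hc]
    simp [mem_centralizer_iff]
  · rw [closure_le, Set.insert_subset_iff, Set.singleton_subset_iff]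
    refine ⟨mem_zpowers c, ?_⟩
    rw [hc', ← hc, ← hc']
    intro y hy
    obtain ⟨k, rfl⟩ := mem_zpowers_iff.1 hy
    exact ((show Commute b c from hb).zpow_right k).symm

theorem s4582 (N : Subgroup G) [hN : N.Normal] (P : Sylow 2 G)
    (hP : ∀ x ∈ (P : Subgroup G), x ^ 2 ∈ ((P : Subgroup G) ⊓ N) ⊔ ⁅(P : Subgroup G), (P : Subgroup G)⁆)
    (hQ : ∀ x ∈ (P : Subgroup G) ⊓ N, x ^ 2 ∈ ⁅(P : Subgroup G) ⊓ N, (P : Subgroup G) ⊓ N⁆)
    (hodd : Odd (Nat.card (Abelianization N))) :
    ∀ x ∈ (P : Subgroup G), x ^ 2 ∈ ⁅(P : Subgroup G), (P : Subgroup G)⁆ := by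
  intro x hx
  let K := (P : Subgroup G) ⊔ N
  have hPK : (P : Subgroup G) ≤ K := le_sup_left
  have hNK : N ≤ K := le_sup_right
  let A := Abelianization (P : Subgroup G)
  let μ : (P : Subgroup G).subgroupOf K →* A :=
    Abelianization.of.comp (subgroupOfEquivOfLe hPK).toMonoidHom
  let D : Subgroup A := (N.subgroupOf P).map Abelianization.of
  let V : K →* A := MonoidHom.transfer μ
  have hA : IsPGroup 2 A := P.isPGroup'.to_quotient _
  have hodd' : ∀ (a : A) (m : ℕ), Odd m → a ^ m = 1 → a = 1 := by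
    intro a m hm h
    obtain ⟨k, hk⟩ := hA a
    have := Nat.dvd_gcd (orderOf_dvd_of_pow_eq_one hk) (orderOf_dvd_of_pow_eq_one h)
    rwa [Nat.Coprime.pow_left k (Nat.coprime_two_left.2 hm), Nat.dvd_one, orderOf_eq_one_iff] at this
  have hc : ∀ y : (P : Subgroup G), Abelianization.of y = 1 ↔
      (y : G) ∈ ⁅(P : Subgroup G), (P : Subgroup G)⁆ := by
    intro y
    rw [← MonoidHom.mem_ker, Abelianization.ker_of, ← map_subtype_commutator]
    exact (mem_map_iff_mem (subtype_injective _)).symm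
  have h1 : ∀ n : N, V (inclusion hNK n) = 1 := by
    intro n
    refine hodd' _ _ hodd ?_
    have := congrArg (Abelianization.lift (V.comp (inclusion hNK)))
      (pow_card_eq_one' (x := Abelianization.of n))
    rwa [map_pow, map_one] at this
  have h2 : ((P : Subgroup G) ⊓ N) ⊔ ⁅(P : Subgroup G), (P : Subgroup G)⁆ ≤ V.ker.map K.subtype := by
    refine sup_le (fun y hy => ⟨⟨y, hNK hy.2⟩, h1 ⟨y, hy.2⟩, rfl⟩) (commutator_le.2 ?_)
    intro a ha b hb
    refine ⟨⁅(⟨a, hPK ha⟩ : K), (⟨b, hPK hb⟩ : K)⁆, ?_, rfl⟩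
    change V _ = 1
    rw [map_commutatorElement, commutatorElement_eq_one_iff_mul_comm, mul_comm]
  have h3 : QuotientGroup.mk' D (V ⟨x, hPK hx⟩) =
      QuotientGroup.mk' D (Abelianization.of ⟨x, hx⟩) ^ ((P : Subgroup G).subgroupOf K).index := by
    rw [← H4.transfer_eq_pow_of_forall ((QuotientGroup.mk' D).comp μ) ⟨x, hPK hx⟩]
    · classical
      haveI := Fintype.ofFinite (Quotient (MulAction.orbitRel (zpowers (⟨x, hPK hx⟩ : K))
        (K ⧸ (P : Subgroup G).subgroupOf K)))
      simp only [V, MonoidHom.transfer_eq_prod_quotient_orbitRel_zpowers_quot, map_prod]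
      rfl
    · rintro k ⟨t, ht⟩ h
      obtain ⟨y, hy, n, hn, rfl⟩ := mem_sup_of_normal_right.1 ht
      have hw : y⁻¹ * x ^ k * y ∈ (P : Subgroup G) := mul_mem (mul_mem (inv_mem hy) (pow_mem hx k)) hy
      have e1 : Abelianization.of (⟨x, hx⟩ : (P : Subgroup G)) ^ k = Abelianization.of ⟨_, hw⟩ := by
        have : (⟨_, hw⟩ : (P : Subgroup G)) = ⟨y, hy⟩⁻¹ * ⟨x, hx⟩ ^ k * ⟨y, hy⟩ := rfl
        rw [this, map_mul, map_mul, map_inv, map_pow, inv_mul_cancel_comm]
      rw [← map_pow, e1]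
      refine (QuotientGroup.eq.2 ?_).symm
      refine ⟨⟨_, hw⟩⁻¹ * ⟨_, h⟩, ?_, by rw [map_mul, map_inv]; rfl⟩
      change (y⁻¹ * x ^ k * y)⁻¹ * ((y * n)⁻¹ * x ^ k * (y * n)) ∈ N
      have := mul_mem (hN.conj_mem _ (inv_mem hn) (y⁻¹ * x ^ k * y)⁻¹) hn
      convert this using 1
      group
  rw [← map_pow] at h3
  obtain ⟨q, hq, e⟩ := QuotientGroup.eq.1 h3
  obtain ⟨z, hz, hz'⟩ := h2 (hP x hx)
  have e2 : z = ⟨x, hPK hx⟩ ^ 2 := Subtype.ext hz'
  have e3 : V ⟨x, hPK hx⟩ ^ 2 = 1 := by rw [← map_pow, ← e2]; exact hz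
  have e4 : Abelianization.of q ^ 2 = 1 := by
    rw [← map_pow, hc]
    exact commutator_mono inf_le_left inf_le_left (hQ q (mem_inf.2 ⟨q.2, hq⟩))
  rw [e, mul_pow, inv_pow, e3, inv_one, one_mul, ← pow_mul, mul_comm, pow_mul, ← map_pow] at e4
  refine (hc (⟨x, hx⟩ ^ 2)).1 (hodd' _ _ ?_ e4)
  rw [← Nat.not_even_iff_odd, even_iff_two_dvd]
  exact fun h => P.not_dvd_index (h.trans (relIndex_dvd_index_of_le hPK))

theorem m6_sqrt_one : {s : G | s * s = 1}.ncard = Nat.card {x : G // orderOf x = 2} + 1 := by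
  have : {s : G | s * s = 1} = insert 1 {x : G | orderOf x = 2} := by
    ext s
    simp only [Set.mem_setOf_eq, Set.mem_insert_iff]
    constructor
    · intro h
      by_cases h1 : s = 1
      · exact Or.inl h1
      · exact Or.inr (orderOf_eq_prime (by rwa [pow_two]) h1)
    · rintro (rfl | h)
      · simp
      · rw [← pow_two, ← h, pow_orderOf_eq_one]
  rw [this, Set.ncard_insert_of_notMem (by simp)]
  rfl

theorem m6_invol_mod {α : Type*} [Finite α] (f : α → α) (hf : ∀ a, f (f a) = a) :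
    Nat.card α % 2 = Nat.card {a // f a = a} % 2 := by
  classical
  haveI := Fintype.ofFinite α
  haveI : Fact (Nat.Prime 2) := ⟨Nat.prime_two⟩
  have := Equiv.Perm.card_fixedPoints_modEq (f := (f : Function.End α)) (p := 2) (n := 1)
    (funext hf)
  rwa [← Nat.card_eq_fintype_card, ← Nat.card_eq_fintype_card] at this

theorem m6_sqrt_even (h : 2 ∣ Nat.card G) : 2 ∣ {s : G | s * s = 1}.ncard := by
  have := m6_invol_mod (fun g : G => g⁻¹) inv_inv
  simp only [inv_eq_iff_mul_eq_one] at this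
  have e : Nat.card {s : G // s * s = 1} = {s : G | s * s = 1}.ncard := rfl
  omega

theorem m6_aft_key (hG : IsPGroup 2 G) {z : G} (hz : z * z = 1) (hc : z ∈ center G)
    (hz' : z ∈ commutator G)
    (h : (({s : G | s * s = 1}.ncard : ℤ) - {s : G | s * s = z}.ncard) % 8 = 4) :
    (commutator G).index ≤ 4 := by
  classical
  haveI := Fintype.ofFinite G
  haveI := Fintype.ofFinite (IrrCharacter G)
  have ha : ∀ χ : IrrCharacter G, ∃ a : ℤ, H6.fsInd χ.1 = a ∧
      a % 2 = if (fun g => conj (χ.1 g)) = χ.1 then 1 else 0 := by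
    intro χ
    split_ifs with hr
    · rcases H6.fsInd_of_real χ.2 hr with h | h
      · exact ⟨1, by simp [h], rfl⟩
      · exact ⟨-1, by simp [h], rfl⟩
    · exact ⟨0, by simp [H6.fsInd_of_not_real χ.2 hr], rfl⟩
  choose a ha ha' using ha
  have hz2 : ∀ χ : IrrCharacter G, χ.1 z ≠ χ.1 1 → χ.1 z = -χ.1 1 := by
    intro χ hne
    obtain ⟨c, -, hc⟩ := H6.center_le_charCenter χ.2 hc
    have h1 := hc z
    have h2 := hc 1
    rw [mul_one] at h2
    rw [hz, h2, ← mul_assoc, eq_comm, mul_eq_right₀ (m4_one_ne χ.2), mul_self_eq_one_iff] at h1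
    rcases h1 with rfl | rfl
    · exact absurd (by rw [h2, one_mul]) hne
    · rw [h2, neg_one_mul]
  let Y := {χ : IrrCharacter G // χ.1 z ≠ χ.1 1 ∧ charDegree χ.1 = 2}
  have h1 : (({s : G | s * s = 1}.ncard : ℤ) - {s : G | s * s = z}.ncard) =
      ∑ χ : IrrCharacter G, if χ.1 z = χ.1 1 then 0 else 2 * a χ * charDegree χ.1 := by
    have e1 : ∀ c : G, (({s : G | s * s = c}.ncard : ℕ) : ℂ) = _ := H6.card_sqrt_eq_sum
    apply Int.cast_injective (α := ℂ)
    push_cast
    rw [e1, e1, ← Finset.sum_sub_distrib]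
    refine Finset.sum_congr rfl fun χ _ => ?_
    split_ifs with h
    · rw [h, sub_self]
    · rw [hz2 χ h, ha, m4_deg χ.2]
      simp only [map_neg, map_natCast]
      ring
  have h2 : (∑ χ : IrrCharacter G, if χ.1 z = χ.1 1 then 0 else 2 * a χ * charDegree χ.1) % 8 =
      (∑ χ : IrrCharacter G, if (χ.1 z ≠ χ.1 1 ∧ charDegree χ.1 = 2) ∧
        (fun g => conj (χ.1 g)) = χ.1 then 4 else 0) % 8 := by
    rw [Finset.sum_int_mod, Finset.sum_int_mod _ 8 (fun _ => ite _ _ _)]
    congr 1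
    refine Finset.sum_congr rfl fun χ _ => ?_
    by_cases hχ : χ.1 z = χ.1 1
    · simp [hχ]
    obtain ⟨s, hs⟩ := m4_deg_pow hG χ.2
    have := ha' χ
    rw [if_neg hχ]
    rcases s with _ | _ | s
    · refine absurd ((H6.mem_charKer_iff_irr χ.2).1
        ((H6.degree_eq_one_iff_commutator_le χ.2).1 ?_ hz')) hχ
      rw [m4_deg χ.2, hs]; simp
    · simp only [hχ, hs, ne_eq, not_false_eq_true, true_and]
      clear h1 h
      split_ifs at this ⊢ with h1 h2 h2
      · push_cast; omega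
      · exact absurd h1.2 h2
      · exact absurd ⟨rfl, h2⟩ h1
      · push_cast; omega
    · rw [if_neg (by rw [hs]; rintro ⟨⟨-, h⟩, -⟩; rw [pow_succ, pow_succ] at h; omega), hs]
      push_cast
      rw [pow_succ, pow_succ]
      exact Int.emod_eq_zero_of_dvd ⟨a χ * 2 ^ s, by ring⟩
  rw [h1, h2, ← Finset.sum_filter, Finset.sum_const, nsmul_eq_mul] at h
  let f : Y → Y := fun χ => ⟨⟨fun g => conj (χ.1.1 g), H6.isIrr_conj χ.1.2⟩,
    fun h => χ.2.1 (star_injective h), by simpa [charDegree] using χ.2.2⟩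
  have h3 := m6_invol_mod f fun χ => Subtype.ext (Subtype.ext (funext fun g => by simp [f]))
  have h4 : Nat.card {χ // f χ = χ} = (Finset.univ.filter fun χ : IrrCharacter G =>
      (χ.1 z ≠ χ.1 1 ∧ charDegree χ.1 = 2) ∧ (fun g => conj (χ.1 g)) = χ.1).card := by
    rw [← Nat.card_eq_finsetCard]
    refine Nat.card_congr ((Equiv.subtypeSubtypeEquivSubtypeExists _ (fun χ : Y => f χ = χ)).trans
      (Equiv.subtypeEquivRight fun χ => ?_))
    simp only [Finset.mem_filter, Finset.mem_univ, true_and]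
    constructor
    · rintro ⟨b, c⟩
      exact ⟨b, congrArg (fun t : Y => t.1.1) c⟩
    · rintro ⟨b, c⟩
      exact ⟨b, Subtype.ext (Subtype.ext c)⟩
  have hlz : ∀ lam : G →* ℂˣ, lam z = 1 := fun lam => Abelianization.commutator_subset_ker lam hz'
  letI : MulAction (G →* ℂˣ) Y :=
    { smul := fun lam χ => ⟨⟨χ.1.1 * linFun lam, irr_mul_linear χ.1.2 (char_linFun lam)
        (linFun_one_apply lam)⟩, by simpa [linFun_apply, hlz] using χ.2.1,
        by simpa [charDegree, linFun_apply] using χ.2.2⟩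
      one_smul := fun χ => Subtype.ext (Subtype.ext (by
        change χ.1.1 * linFun 1 = χ.1.1
        rw [map_one, mul_one]))
      mul_smul := fun x y χ => Subtype.ext (Subtype.ext (by
        change χ.1.1 * linFun (x * y) = χ.1.1 * linFun y * linFun x
        rw [map_mul, mul_assoc, mul_comm (linFun y)])) }
  have hC : IsPGroup 2 (G →* ℂˣ) := by
    obtain ⟨k, hk⟩ := IsPGroup.iff_card.1 (hG.to_quotient (commutator G))
    exact IsPGroup.of_card (by rw [H6.card_linear]; exact hk)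
  obtain ⟨χ, hχ⟩ := hC.nonempty_fixed_point_of_prime_not_dvd_card Y (by omega)
  have h5 := index_le_sq_of_vanish (commutator G).subtype_injective χ.1.2 fun g hg => by
    rw [range_subtype] at hg
    by_contra h0
    refine hg (H6.mem_of_forall_irr_charKer _ fun ψ hψ hle => ?_)
    obtain ⟨lam, rfl⟩ := exists_linFun (irr_char hψ)
      ((H6.degree_eq_one_iff_commutator_le hψ).2 hle)
    have e : χ.1.1 g * linFun lam g = χ.1.1 g :=
      congrFun (congrArg (fun t : Y => t.1.1) (hχ lam)) g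
    rw [H6.mem_charKer_iff_irr hψ, linFun_one_apply]
    exact (mul_eq_left₀ h0).1 e
  rwa [range_subtype, χ.2.2] at h5

universe u in
theorem s4477 (n : ℕ) : ∀ {G : Type u} [Group G] [Finite G], Nat.card G = n → IsPGroup 2 G →
    Nat.card {x : G // orderOf x = 2} % 4 = 1 → IsCyclic G ∨ (commutator G).index = 4 := by
  induction n using Nat.strong_induction_on with
  | _ n ih =>
  intro G _ _ hn hG ht
  classical
  haveI := hG.isNilpotent
  have h1 := m6_sqrt_one (G := G)
  by_cases hc : commutator G = ⊥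
  · left
    have hab : ∀ a b : G, Commute a b := fun a b => by
      have := m4_comm_mem a b
      rwa [hc, mem_bot, commutatorElement_eq_one_iff_commute] at this
    let T : Subgroup G :=
      { carrier := {s | s * s = 1}
        mul_mem' := fun {a b} ha hb => by
          change a * b * (a * b) = 1
          rw [(hab a b).symm.mul_mul_mul_comm, show a * a = 1 from ha, show b * b = 1 from hb,
            mul_one]
        one_mem' := by simp
        inv_mem' := fun {a} ha => by
          change a⁻¹ * a⁻¹ = 1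
          rw [← mul_inv_rev, show a * a = 1 from ha, inv_one] }
    obtain ⟨k, hk⟩ := IsPGroup.iff_card.1 (hG.to_subgroup T)
    have e : Nat.card T = {s : G | s * s = 1}.ncard := rfl
    have h2 : Nat.card {x : G // orderOf x = 2} ≤ 1 := by
      rcases k with _ | _ | k
      · omega
      · omega
      · rw [pow_succ, pow_succ] at hk
        omega
    rw [Finite.card_le_one_iff_subsingleton] at h2
    exact H8.isCyclic_of_comm_of_unique hG hab fun s t hs ht =>
      congrArg Subtype.val (h2.elim ⟨s, hs⟩ ⟨t, ht⟩)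
  right
  obtain ⟨z, hz, hz1, hz2⟩ := H3.exists_order_p_mem hG (H3.normal_inf_center_ne_bot _ hc)
  have hzo : orderOf z = 2 := orderOf_eq_prime hz2 hz1
  haveI : (zpowers z).Normal := H3.normal_of_le_center (zpowers_le.2 hz.2)
  have hcard : Nat.card G = 2 * Nat.card (G ⧸ zpowers z) := by
    rw [card_eq_card_quotient_mul_card_subgroup (zpowers z), Nat.card_zpowers, hzo, mul_comm]
  have hnc : ¬ IsCyclic (G ⧸ zpowers z) := fun h => hc (by
    rw [eq_bot_iff, commutator_def, commutator_le]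
    intro a _ b _
    rw [mem_bot, commutatorElement_eq_one_iff_mul_comm]
    exact commutative_of_cyclic_center_quotient (QuotientGroup.mk' (zpowers z))
      (by rw [QuotientGroup.ker_mk']; exact zpowers_le.2 hz.2) a b)
  have hidx : (commutator (G ⧸ zpowers z)).index = (commutator G).index := by
    rw [← index_comap_of_surjective _ (QuotientGroup.mk'_surjective (zpowers z)), commutator_def,
      ← map_top_of_surjective _ (QuotientGroup.mk'_surjective (zpowers z)), ← map_commutator,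
      comap_map_eq, QuotientGroup.ker_mk', ← commutator_def, sup_eq_left.2 (zpowers_le.2 hz.1)]
  by_cases h4 : Nat.card {x : G ⧸ zpowers z // orderOf x = 2} % 4 = 1
  · have hpos : 0 < Nat.card (G ⧸ zpowers z) := Nat.card_pos
    exact hidx ▸ (ih _ (by omega) rfl (hG.to_quotient _) h4).resolve_left hnc
  have h5 := m6_sqrt_one (G := G ⧸ zpowers z)
  have h6 : 2 ∣ {s : G ⧸ zpowers z | s * s = 1}.ncard := by
    refine m6_sqrt_even ?_
    obtain ⟨k, hk⟩ := IsPGroup.iff_card.1 (hG.to_quotient (zpowers z))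
    rw [hk]
    refine dvd_pow_self 2 ?_
    rintro rfl
    exact hnc (isCyclic_of_card_dvd_prime (p := 2) (by simp [hk]))
  have h7 := QuotientGroup.card_preimage_mk (zpowers z) {s | s * s = 1}
  have h8 : (QuotientGroup.mk : G → G ⧸ zpowers z) ⁻¹' {s | s * s = 1} =
      {s | s * s = 1} ∪ {s | s * s = z} := by
    ext s
    simp only [Set.mem_preimage, Set.mem_setOf_eq, Set.mem_union, ← QuotientGroup.mk_mul,
      QuotientGroup.eq_one_iff]
    constructor
    · intro h
      rw [mem_zpowers_iff_mem_range_orderOf, hzo] at h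
      simpa [Finset.range_add_one, eq_comm, or_comm] using h
    · rintro (h | h) <;> rw [h]
      · exact one_mem _
      · exact mem_zpowers z
  rw [h8, Nat.card_coe_set_eq, Nat.card_coe_set_eq, Set.ncard_union_eq (by
    rw [Set.disjoint_left]
    exact fun s h1 h2 => hz1 (h2.symm.trans h1)), Nat.card_zpowers, hzo] at h7
  have h9 := m6_aft_key hG (by rwa [← pow_two]) hz.2 hz.1 (by omega)
  have h10 : 2 ^ 2 ∣ (commutator G).index := by
    rw [← hidx]
    exact (H3.sq_dvd_index_frattini (hG.to_quotient _) hnc).trans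
      (index_dvd_of_le (H3.commutator_le_frattini (hG.to_quotient _)))
  have : (commutator G).index ≠ 0 := index_ne_zero_of_finite
  omega

theorem m6_rat_value {p : ℕ} (hp : p.Prime) {ψ : G → ℂ} (hψ : IsCharacter G ψ) {n : ℕ}
    (hn : ψ 1 = n) {x : G} {j : ℕ} (hx : orderOf x = p ^ j) (h1 : ψ x ≠ ψ 1)
    (h : ∀ m : ℕ, m.Coprime p → ψ (x ^ m) = ψ x) :
    ∃ k ∈ Finset.Icc 1 (n / (p - 1)), ψ x = n - p * k := by
  classical
  haveI := Fintype.ofFinite G
  obtain ⟨a, ha⟩ := H6.exists_int_of_pow_eq (H6.isGen_of_isCharacter hψ) x fun m hm => h m (by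
    rcases j with _ | j
    · rw [pow_zero, orderOf_eq_one_iff] at hx
      exact absurd (by rw [hx]) h1
    · rw [hx] at hm
      exact hm.coprime_dvd_right (dvd_pow_self p j.succ_ne_zero))
  have hj : j ≠ 0 := by
    rintro rfl
    rw [pow_zero, orderOf_eq_one_iff] at hx
    exact h1 (by rw [hx])
  have h2 : (p : ℤ) ∣ n - a := by
    obtain ⟨r, hr⟩ := m1_char_pow hp j hψ x
    rw [← hx, pow_orderOf_eq_one, hn, ha, hx] at hr
    have e1 : (p : ℤ) ∣ a ^ p ^ j - n := H6.int_dvd_of_isIntegral_div (by exact_mod_cast hp.ne_zero) (by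
      push_cast
      rw [hr, add_sub_cancel_left, mul_div_cancel_left₀ _ (by exact_mod_cast hp.ne_zero)]
      exact r.2)
    haveI := Fact.mk hp
    rw [← ZMod.intCast_zmod_eq_zero_iff_dvd] at e1 ⊢
    push_cast at e1 ⊢
    rw [ZMod.pow_card_pow] at e1
    rw [← neg_sub, e1, neg_zero]
  have h3 : a < n := by
    have := H6.isCharacter_norm_le' hψ hn x
    rw [ha, Complex.norm_intCast] at this
    have e : |a| ≤ n := by exact_mod_cast this
    refine lt_of_le_of_ne ((le_abs_self a).trans e) fun e' => h1 ?_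
    rw [ha, hn, e', Int.cast_natCast]
  have h4 : -(n : ℤ) ≤ (p - 1) * a := by
    obtain ⟨b, hb⟩ := ip_char_nat (char_comp (zpowers x).subtype hψ) (irr_char irr_one)
    rw [ip_def, inv_mul_eq_iff_eq_mul₀ (card_ne_zero' _)] at hb
    simp only [Pi.one_apply, map_one, mul_one, coe_subtype] at hb
    let s := Finset.univ.filter (· ∈ zpowers x)
    let t := Finset.univ.filter (· ∈ zpowers (x ^ p))
    have hts : t ⊆ s := fun y hy => by
      simp only [s, t, Finset.mem_filter, Finset.mem_univ, true_and] at hy ⊢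
      exact zpowers_le.2 (pow_mem (mem_zpowers x) p) hy
    have hs : s.card = p * t.card := by
      have e1 : s.card = orderOf x := by
        rw [← Nat.card_zpowers, ← Nat.card_eq_finsetCard]; simp [s]
      have e2 : t.card = orderOf (x ^ p) := by
        rw [← Nat.card_zpowers, ← Nat.card_eq_finsetCard]; simp [t]
      rw [e1, e2, orderOf_pow_of_dvd hp.ne_zero (hx ▸ dvd_pow_self p hj),
        Nat.mul_div_cancel' (hx ▸ dvd_pow_self p hj)]
    have e1 : ∑ y ∈ s, ψ y = (Nat.card (zpowers x) * b : ℕ) := by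
      rw [Nat.cast_mul, ← hb]
      exact Finset.sum_subtype _ (by simp [s]) _
    have e2 : ∑ y ∈ s \ t, ψ y = (s \ t).card * a := by
      rw [Finset.sum_congr rfl (g := fun _ => (a : ℂ)), Finset.sum_const, nsmul_eq_mul]
      intro y hy
      simp only [s, t, Finset.mem_sdiff, Finset.mem_filter, Finset.mem_univ, true_and] at hy
      obtain ⟨m, rfl⟩ := (Submonoid.mem_powers_iff _ _).1 (mem_powers_iff_mem_zpowers.2 hy.1)
      rw [← ha]
      refine h m ((Nat.Prime.coprime_iff_not_dvd hp).2 ?_).symm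
      rintro ⟨c, rfl⟩
      exact hy.2 (by rw [pow_mul]; exact pow_mem (mem_zpowers _) c)
    have e3 : ‖∑ y ∈ t, ψ y‖ ≤ t.card * n := by
      refine (norm_sum_le _ _).trans ?_
      rw [← nsmul_eq_mul]
      exact Finset.sum_le_card_nsmul _ _ _ fun y _ => H6.isCharacter_norm_le' hψ hn y
    rw [← Finset.sum_sdiff hts, e2, Finset.card_sdiff_of_subset hts, hs, add_comm,
      ← eq_sub_iff_add_eq] at e1
    have e4 : ∑ y ∈ t, ψ y = ((Nat.card (zpowers x) * b : ℕ) - t.card * ((p - 1) * a) : ℤ) := by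
      rw [e1, Nat.cast_sub (Nat.le_mul_of_pos_left _ hp.pos)]
      push_cast
      ring
    rw [e4, Complex.norm_intCast] at e3
    have e5 : |((Nat.card (zpowers x) * b : ℕ) - t.card * ((p - 1) * a) : ℤ)| ≤ t.card * n := by
      exact_mod_cast e3
    have e6 : (0 : ℤ) < t.card := by
      exact_mod_cast Finset.card_pos.2 ⟨1, by simp [t]⟩
    have e7 := (le_abs_self _).trans e5
    have e8 : (0 : ℤ) ≤ (Nat.card (zpowers x) * b : ℕ) := Int.natCast_nonneg _
    nlinarith
  obtain ⟨k, hk⟩ := h2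
  have hp1 : (1 : ℤ) < p := by exact_mod_cast hp.one_lt
  have hk0 : 0 < k := by nlinarith
  lift k to ℕ using hk0.le
  refine ⟨k, Finset.mem_Icc.2 ⟨by exact_mod_cast hk0, ?_⟩, ?_⟩
  · rw [Nat.le_div_iff_mul_le (by have := hp.one_lt; omega)]
    have : (k : ℤ) * (p - 1) ≤ n := by nlinarith
    zify [hp.one_le]
    exact this
  · rw [ha]
    have : a = n - p * k := by omega
    rw [this]
    push_cast
    rfl

theorem s4488 {p : ℕ} (hp : p.Prime) {χ : G → ℂ} (hχ : IsCharacter G χ)
    (hf : ∀ g : G, χ g = χ 1 → g = 1) {r : ℕ} (hr : 0 < r) (hpr : ¬ p ∣ r)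
    (hrat : ∀ g : G, χ g ∈ IntermediateField.adjoin ℚ
      ({Complex.exp (2 * Real.pi * Complex.I / r)} : Set ℂ)) {n : ℕ} (hn : charDegree χ = n) :
    (Nat.card G).factorization p ≤ ∑ i ∈ Finset.range (n + 1), n / ((p - 1) * p ^ i) := by
  classical
  haveI := Fact.mk hp
  obtain ⟨P⟩ : Nonempty (Sylow p G) := inferInstance
  have h1 : χ 1 = n := by rw [char_one_eq hχ, hn]
  set m := n / (p - 1) with hm
  have h2 : ∀ x ∈ (P : Subgroup G), x ≠ 1 → ∃ k ∈ Finset.Icc 1 m, χ x = n - p * k := by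
    intro x hx hx1
    obtain ⟨j, hj⟩ := H8.pElt_of_mem P.isPGroup' hx
    refine m6_rat_value hp hχ h1 hj (fun h => hx1 (hf x h)) fun k hk => ?_
    obtain ⟨τ, t1, t2⟩ := H6.exists_ringEquiv_pow_fix (pow_ne_zero j hp.ne_zero) hr.ne'
      (((Nat.Prime.coprime_iff_not_dvd hp).2 hpr).pow_left j) (hk.pow_right j)
    rw [← H6.map_apply_eq_pow (τ : ℂ →+* ℂ) t1 (H6.isGen_of_isCharacter hχ)
      (by rw [← hj, pow_orderOf_eq_one])]
    refine IntermediateField.adjoin_induction ℚ (p := fun z _ => (τ : ℂ →+* ℂ) z = z)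
      ?_ ?_ ?_ ?_ ?_ (hrat x)
    · rintro _ rfl
      exact t2 _ (Complex.isPrimitiveRoot_exp r hr.ne').pow_eq_one
    · intro q
      simp
    · intro a b _ _ ha hb
      rw [map_add, ha, hb]
    · intro a _ ha
      rw [map_inv₀, ha]
    · intro a b _ _ ha hb
      rw [map_mul, ha, hb]
  let φ : ↥(P : Subgroup G) → ℂ := ∏ k ∈ Finset.Icc 1 m, ((fun x : (P : Subgroup G) => χ x) -
    ((n - p * k : ℤ) : ↥(P : Subgroup G) → ℂ))
  have h3 : IsGeneralizedCharacter _ φ := by
    rw [← H6.mem_genCharRing]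
    exact prod_mem fun k _ => sub_mem (H6.isGen_of_isCharacter (char_comp (Subgroup.subtype _) hχ))
      (intCast_mem _ _)
  obtain ⟨c, hc⟩ := ip_gen_int h3 (H6.isGen_of_irr irr_one)
  rw [ip_one_of_vanish, inv_mul_eq_iff_eq_mul₀ (card_ne_zero' _)] at hc
  swap
  · intro g hg
    obtain ⟨k, hk, e⟩ := h2 g g.2 (by simpa using hg)
    refine (Finset.prod_apply _ _ _).trans ?_
    exact Finset.prod_eq_zero hk (by simp [e])
  have h4 : φ 1 = (p ^ m * m.factorial : ℕ) := by
    refine (Finset.prod_apply _ _ _).trans ?_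
    rw [Finset.prod_congr rfl (g := fun k : ℕ => (p : ℂ) * k) (by simp [h1]),
      Finset.prod_mul_distrib, Finset.prod_const, Nat.card_Icc, ← Nat.cast_prod,
      ← Finset.Ico_add_one_right_eq_Icc, Finset.prod_Ico_id_eq_factorial]
    simp
  have h5 : Nat.card (P : Subgroup G) ∣ p ^ m * m.factorial := by
    rw [h4] at hc
    exact Int.natCast_dvd_natCast.1 ⟨c, by exact_mod_cast hc⟩
  rw [P.card_eq_multiplicity, hp.pow_dvd_iff_le_factorization
    (mul_ne_zero (pow_ne_zero _ hp.ne_zero) m.factorial_ne_zero),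
    Nat.factorization_mul (pow_ne_zero _ hp.ne_zero) m.factorial_ne_zero, Finsupp.add_apply,
    hp.factorization_pow, Finsupp.single_eq_same,
    Nat.factorization_factorial hp (b := n + 1) (Nat.lt_succ_of_le
      ((Nat.log_le_self p m).trans (Nat.div_le_self _ _)))] at h5
  refine h5.trans (le_of_eq ?_)
  rw [Finset.range_eq_Ico, Finset.sum_eq_sum_Ico_succ_bot (Nat.succ_pos n), pow_zero, mul_one]
  simp only [hm, Nat.div_div_eq_div_mul, zero_add]

end Cfsg.Agent.H7
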