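import Mathlib
import Cfsg.Prelude.Def_Characters
import Cfsg.Agent.H7.OW
import Cfsg.Agent.H7.Gal

/-!
Counting characters of `p'`-degree: the reduction steps of the relative McKay equality.
-/

namespace Cfsg.Agent.H7

open Cfsg
open scoped ComplexConjugate commutatorElement Pointwise

universe u

theorem card_exists_eq_sum {X I : Type*} [Finite X] [Fintype I] (r : X → I → Prop)
    (e : I → I → Prop) (h : ∀ a i, r a i → ∀ j, r a j ↔ e i j) :
    (Nat.card {a // ∃ i, r a i} : ℚ) =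
      ∑ i, (Nat.card {a // r a i} : ℚ) * (Nat.card {j // e i j} : ℚ)⁻¹ := by
  classical
  haveI := Fintype.ofFinite X
  simp only [Nat.card_eq_fintype_card, Fintype.card_subtype]
  simp only [Finset.card_filter (fun a => r a _), Finset.card_filter (fun a => ∃ i, r a i),
    Nat.cast_sum, Finset.sum_mul]
  rw [Finset.sum_comm]
  refine Finset.sum_congr rfl fun a _ => ?_
  have h1 : ∀ i, ((if r a i then 1 else 0 : ℕ) : ℚ) * ((Finset.univ.filter (e i)).card : ℚ)⁻¹ =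
      if r a i then ((Finset.univ.filter (r a)).card : ℚ)⁻¹ else 0 := fun i => by
    split_ifs with hi
    · rw [Nat.cast_one, one_mul, Finset.filter_congr fun j _ => h a i hi j]
    · simp
  simp only [h1]
  rw [← Finset.sum_filter, Finset.sum_const, nsmul_eq_mul]
  split_ifs with hi
  · obtain ⟨i, hi⟩ := hi
    rw [mul_inv_cancel₀ (Nat.cast_ne_zero.mpr (Finset.card_ne_zero.mpr ⟨i, by simpa using hi⟩)),
      Nat.cast_one]
  · rw [Finset.filter_false_of_mem fun i _ h => hi ⟨i, h⟩]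
    simp

theorem card_eq_of_classes {X Y I : Type*} [Finite X] [Finite Y] [Finite I] (r : X → I → Prop)
    (s : Y → I → Prop) (e : I → I → Prop) (hr : ∀ a i, r a i → ∀ j, r a j ↔ e i j)
    (hs : ∀ a i, s a i → ∀ j, s a j ↔ e i j)
    (h : ∀ i, Nat.card {a // r a i} = Nat.card {a // s a i}) :
    Nat.card {a // ∃ i, r a i} = Nat.card {a // ∃ i, s a i} := by
  haveI := Fintype.ofFinite I
  have := (card_exists_eq_sum r e hr).trans
    ((Finset.sum_congr rfl fun i _ => by rw [h]).trans (card_exists_eq_sum s e hs).symm)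
  exact_mod_cast this

section Triple

variable {N : Type*} [Group N] [Finite N]

theorem IsNE.exists_triple' {G : Type u} [Group G] [Finite G] {f : N →* G} (hf : IsNE f)
    {θ : N → ℂ} (hθ : IsIrrCharacter N θ) (hinv : hf.Inv θ) {H : Type*} [Group H] {k : N →* H}
    {ι : H →* G} (hι : Function.Injective ι) (hk : ∀ n, ι (k n) = f n) {η : H → ℂ}
    (hη : IsCharacter H η) (h : ∀ n, η (k n) = θ n) :
    ∃ (G' : Type u) (_ : Group G') (_ : Finite G') (π : G' →* G) (j : N →* G') (θ' : G' → ℂ)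
      (μ : π.ker →* ℂˣ), Function.Surjective π ∧ (∀ n, π (j n) = f n) ∧ IsNE j ∧
      π.ker ≤ Subgroup.center G' ∧ IsIrrCharacter G' θ' ∧ (∀ n, θ' (j n) = θ n) ∧
      Function.Injective μ ∧ (∀ (a : π.ker) x, θ' (a * x) = μ a * θ' x) ∧
      ∀ a, μ a ^ ι.range.index = 1 := by
  obtain ⟨d, ρ, hρ, rfl⟩ := hθ
  obtain ⟨lam, h1, h2⟩ := index_mem_powSet hf ρ hinv hι hk hη h
  simp only [zpow_natCast] at h1
  have hm : ι.range.index ≠ 0 := Subgroup.index_ne_zero_of_finite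
  let π : lam.ker →* G := (projPi hf ρ).comp lam.ker.subtype
  let j : N →* lam.ker := (projJ hf ρ).codRestrict _ h2
  have hex : ∀ a : π.ker, ∃ c, projZ hf ρ c = a := fun a => (projPi_eq_one_iff hf ρ _).mp a.2
  choose l hl using hex
  let μ : π.ker →* ℂˣ := MonoidHom.mk' l fun a b => projZ_injective hf ρ (by simp [hl])
  have hμ : Function.Injective μ := fun a b h => by
    apply Subtype.ext; apply Subtype.ext
    rw [← hl, ← hl]; exact congrArg _ h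
  have hμm : ∀ a, μ a ^ ι.range.index = 1 := fun a => by
    rw [← h1]; change lam (projZ hf ρ (l a)) = 1; rw [hl]; exact a.1.2
  have hfin : Finite π.ker :=
    haveI : NeZero ι.range.index := ⟨hm⟩
    Finite.of_injective (fun a => (⟨μ a, hμm a⟩ : rootsOfUnity ι.range.index ℂ))
      fun a b h => hμ (congrArg Subtype.val h)
  have hfin' : Finite lam.ker := by
    have : Finite (lam.ker ⧸ π.ker) :=
      Finite.of_injective _ (QuotientGroup.kerLift_injective π)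
    exact Finite.of_subgroup_quotient π.ker
  let σ : Representation ℂ lam.ker (Fin d → ℂ) := (projRep hf ρ).comp lam.ker.subtype
  have hσ : ∀ n, σ.character (j n) = ρ.character n := fun n => rfl
  refine ⟨lam.ker, inferInstance, hfin', π, j, σ.character, μ, fun g => ?_, fun n => rfl,
    isNE_codRestrict (isNE_projJ hf ρ) _ _, fun a ha => ?_,
    irr_of_irr_comp j (char_of_rep σ) (irr_of_rep ρ), hσ, hμ, fun a x => ?_, hμm⟩
  · obtain ⟨x, rfl⟩ := projPi_surjective hf ρ hinv g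
    obtain ⟨b, hb⟩ := units_pow_surjective hm (lam x)⁻¹
    exact ⟨⟨x * projZ hf ρ b, by simp [MonoidHom.mem_ker, h1, hb]⟩, by simp [π, projPi_Z]⟩
  · rw [Subgroup.mem_center_iff]
    intro x
    apply Subtype.ext
    have := Subgroup.mem_center_iff.mp (projZ_mem_center hf ρ (l ⟨a, ha⟩)) x
    rwa [hl] at this
  · have : σ a = (μ a : ℂ) • 1 := by
      change projRep hf ρ _ = _
      rw [← projRep_Z hf ρ]; congr 1; exact (hl a).symm
    simp [Representation.character, this]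

/-- If `θ` extends to `H`, the central subgroup has exponent dividing the index of `H`. -/
theorem IsNE.exists_ct' {G : Type u} [Group G] [Finite G] {f : N →* G} (hf : IsNE f)
    {θ : N → ℂ} (hθ : IsIrrCharacter N θ) (hinv : hf.Inv θ) {H : Type*} [Group H] {k : N →* H}
    {ι : H →* G} (hι : Function.Injective ι) (hk : ∀ n, ι (k n) = f n) {η : H → ℂ}
    (hη : IsCharacter H η) (h : ∀ n, η (k n) = θ n) :
    ∃ (E Q : Type u) (_ : Group E) (_ : Finite E) (_ : Group Q) (_ : Finite Q) (π : E →* G)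
      (q : E →* Q) (θ' : E → ℂ) (Z : Subgroup Q) (lam : Z →* ℂˣ), CT f θ π q θ' Z lam ∧
        ∀ z : Z, z ^ ι.range.index = 1 := by
  obtain ⟨E, _, _, π, j, θ', μ, h1, h2, h3, h4, h5, h6, h7, h8, h9⟩ :=
    hf.exists_triple' hθ hinv hι hk hη h
  have := h3.normal
  let q := QuotientGroup.mk' j.range
  have hq : Function.Injective (q.comp π.ker.subtype) := by
    rw [injective_iff_map_eq_one]
    rintro ⟨a, ha⟩ h
    obtain ⟨n, rfl⟩ : a ∈ j.range := (QuotientGroup.eq_one_iff _).mp h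
    have : n = 1 := hf.inj (by rw [← h2, map_one]; exact ha)
    subst this
    exact Subtype.ext (map_one j)
  let e : π.ker ≃* π.ker.map q := (MonoidHom.ofInjective hq).trans
    (MulEquiv.subgroupCongr (by rw [MonoidHom.range_comp, Subgroup.range_subtype]))
  have he : ∀ a (ha : π a = 1) (hz : q a ∈ π.ker.map q), e.symm ⟨q a, hz⟩ = ⟨a, ha⟩ :=
    fun a ha hz => by rw [MulEquiv.symm_apply_eq]; rfl
  have hz : ∀ z : π.ker.map q, z ^ ι.range.index = 1 := fun z => by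
    obtain ⟨a, rfl⟩ := e.surjective z
    rw [← map_pow, map_eq_one_iff _ e.injective]
    exact h7 (by rw [map_pow, h9, map_one])
  refine ⟨E, E ⧸ j.range, inferInstance, inferInstance, inferInstance, inferInstance, π, q, θ',
    π.ker.map q, μ⁻¹.comp e.symm.toMonoidHom, ⟨hf, hθ, h1, QuotientGroup.mk'_surjective _,
    irr_char h5, ⟨j, h2, QuotientGroup.ker_mk' _, h6⟩, h4, rfl, ?_, ?_, ?_⟩, hz⟩
  · intro a b h
    exact e.symm.injective (h7 (inv_injective h))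
  · intro a ha h x
    have := h8 ⟨a, h⟩ x
    simp only [MonoidHom.comp_apply, MulEquiv.coe_toMonoidHom, he a h ha, MonoidHom.inv_apply]
    rw [this, ← mul_assoc, Units.inv_mul, one_mul]
  · intro z
    rw [← index_range_comp hι k hk, pow_mul, hz, one_pow]

end Triple

/-- `χ` has degree prime to `p` and is real if `r` holds. -/
def Gd (p : ℕ) (r : Prop) {G : Type*} [Group G] (χ : G → ℂ) : Prop :=
  ¬ p ∣ charDegree χ ∧ (r → ∀ g, (χ g).im = 0)

section Ambient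

variable {Γ : Type*} [Group Γ] [Finite Γ] {p : ℕ} {r : Prop}

/-- `χ` lies over `ν`. -/
def Ov {L G : Subgroup Γ} (h : L ≤ G) (χ : G → ℂ) (ν : L → ℂ) : Prop :=
  ip (fun l => χ (Subgroup.inclusion h l)) ν ≠ 0

/-- The number of good characters over `ν`. -/
noncomputable def cnt (p : ℕ) (r : Prop) {L G : Subgroup Γ} (h : L ≤ G) (ν : L → ℂ) : ℕ :=
  Nat.card {χ : IrrCharacter G // Gd p r (χ : G → ℂ) ∧ Ov h χ ν}

/-- `μ'` is the conjugate of `μ` by `x`. -/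
def Cj (x : Γ) {M : Subgroup Γ} (μ μ' : M → ℂ) : Prop :=
  ∀ m m' : M, (m' : Γ) = x * m * x⁻¹ → μ' m = μ m'

theorem Nrm.mem_of_coprime {L M : Subgroup Γ} (h : Nrm M L) {y : Γ} (hy : y ∈ M)
    (hc : (orderOf y).Coprime (L.relIndex M)) : y ∈ L := by
  haveI := h.normal_subgroupOf
  obtain ⟨m, hm⟩ := exists_pow_eq_self_of_coprime hc.symm
  rw [← hm]
  exact L.pow_mem ((L.subgroupOf M).pow_index_mem ⟨y, hy⟩) m

omit [Finite Γ] in
theorem cj_iff {x : Γ} {M : Subgroup Γ} (h : ∀ g ∈ M, x * g * x⁻¹ ∈ M) {μ μ' : M → ℂ} :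
    Cj x μ μ' ↔ (fun m => μ (cjHom x h m)) = μ' :=
  ⟨fun e => funext fun m => (e m _ rfl).symm, fun e m m' e' => by
    rw [← e]; exact congrArg μ (Subtype.ext e'.symm)⟩

omit [Finite Γ] in
theorem cjf_inclusion {L G : Subgroup Γ} {h : L ≤ G} (hn : Nrm G L)
    (hf : IsNE (Subgroup.inclusion h)) (x : G) (ν : L → ℂ) :
    hf.cjf x ν = fun l => ν (cjHom (x : Γ) (hn x x.2) l) :=
  funext fun l => congrArg ν (hf.cj_eq (Subtype.ext rfl))

theorem mem_stab_iff {L : Subgroup Γ} {x : Γ} (h : ∀ g ∈ L, x * g * x⁻¹ ∈ L) {ν : L → ℂ} :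
    x ∈ stab L ν ↔ (fun m => ν (cjHom x h m)) = ν :=
  ⟨fun e => funext fun m => e.2 m _ rfl, fun e =>
    ⟨H4.mem_normalizer_of_conj_le (H4.conj_smul_le_iff.mpr h), fun m m' e' =>
      ((cj_iff h).mpr e m m' e').symm⟩⟩

theorem inertia_inclusion {L G : Subgroup Γ} {h : L ≤ G} (hn : Nrm G L)
    (hf : IsNE (Subgroup.inclusion h)) (ν : L → ℂ) : hf.inertia ν = (stab L ν).subgroupOf G := by
  ext x
  rw [hf.mem_inertia, cjf_inclusion hn, Subgroup.mem_subgroupOf, mem_stab_iff (hn x x.2)]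

theorem Ov.trans {L M G : Subgroup Γ} {h : L ≤ M} {h' : M ≤ G} {χ : G → ℂ} {μ : M → ℂ}
    {ν : L → ℂ} (h1 : Ov h' χ μ) (h2 : Ov h μ ν) (hχ : IsCharacter G χ) (hμ : IsIrrCharacter M μ)
    (hν : IsCharacter L ν) : Ov (h.trans h') χ ν :=
  ip_comp_comp_ne_zero (Subgroup.inclusion h') (Subgroup.inclusion h) hχ hμ hν h1 h2

theorem Ov.of_under {L M G : Subgroup Γ} {h : L ≤ M} {h' : M ≤ G} (hn : Nrm G L) {χ : G → ℂ}
    {μ : M → ℂ} {ν : L → ℂ} (h1 : Ov h' χ μ) (h2 : Ov (h.trans h') χ ν) (hχ : IsIrrCharacter G χ)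
    (hμ : IsIrrCharacter M μ) (hν : IsIrrCharacter L ν) (hi : SInv G L ν) : Ov h μ ν := by
  obtain ⟨ν', h3, h4⟩ := exists_irr_under (Subgroup.inclusion h) hμ
  have hf := isNE_inclusion (h.trans h') hn
  have := hf.mem_orbit_of_under hχ hν h3 h2 (h1.trans h4 (irr_char hχ) hμ (irr_char h3))
  rw [hf.orbit_of_inv ((inv_inclusion_iff _ hf ν).mpr hi), Finset.mem_singleton] at this
  exact this ▸ h4

theorem Ov.deg {L G : Subgroup Γ} {h : L ≤ G} (hn : Nrm G L) {χ : G → ℂ} {ν : L → ℂ}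
    (h1 : Ov h χ ν) (hχ : IsIrrCharacter G χ) (hν : IsIrrCharacter L ν) :
    (stab L ν).relIndex G * charDegree ν ∣ charDegree χ := by
  have hf := isNE_inclusion h hn
  have := hf.degree_dvd_of_under hχ hν h1 (char_one_eq (irr_char hχ)) (char_one_eq (irr_char hν))
  rwa [inertia_inclusion hn] at this

theorem Ov.real {L G : Subgroup Γ} {h : L ≤ G} (hn : Nrm G L) {χ : G → ℂ} {ν : L → ℂ}
    (h1 : Ov h χ ν) (hχ : IsIrrCharacter G χ) (hν : IsIrrCharacter L ν) (hr : r → p = 2)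
    (hg : Gd p r χ) : Gd p r ν := by
  have h2 := h1.deg hn hχ hν
  refine ⟨fun a => hg.1 ((a.mul_left _).trans h2), fun a => ?_⟩
  have hf := isNE_inclusion h hn
  refine hf.real_under hχ (hg.2 a) hν h1 fun b => hg.1 ?_
  rw [inertia_inclusion hn] at b
  exact hr a ▸ (b.mul_right _).trans h2

theorem Ov.star {L G : Subgroup Γ} {h : L ≤ G} {χ : G → ℂ} {ν : L → ℂ} (h1 : Ov h χ ν)
    (h2 : ∀ g, (ν g).im = 0) : Ov h (star χ) ν := by
  have := ip_star_star (fun l => χ (Subgroup.inclusion h l)) ν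
  rw [(real_iff_star ν).mp h2] at this
  exact fun a => ip_ne_zero_comm.mp h1 (this.symm.trans a)

/-- The Clifford correspondence. -/
theorem cnt_clifford (hp : p.Prime) {L T G : Subgroup Γ} (h : L ≤ T) (h' : T ≤ G) (hn : Nrm G L)
    {ν : L → ℂ} (hν : IsIrrCharacter L ν) (hT : G ⊓ stab L ν ≤ T) (hi : ¬ p ∣ T.relIndex G)
    (hr : r → ∀ g, (ν g).im = 0) : cnt p r (h.trans h') ν = cnt p r h ν := by
  have hf := isNE_inclusion (h.trans h') hn
  have hι := Subgroup.inclusion_injective h'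
  have hk : ∀ n, Subgroup.inclusion h' (Subgroup.inclusion h n) =
    Subgroup.inclusion (h.trans h') n := fun n => rfl
  have hT' : hf.inertia ν ≤ (Subgroup.inclusion h').range := fun x hx => by
    rw [inertia_inclusion hn] at hx
    exact ⟨⟨x, hT ⟨x.2, hx⟩⟩, rfl⟩
  refine card_eq_of_rel (fun χ ψ => ind (Subgroup.inclusion h') ψ.1 = χ.1) ?_ ?_ ?_ ?_
  · rintro ⟨χ, h1, h2⟩
    obtain ⟨ψ, h3, h4, h5⟩ := hf.corr_surj hι hk hν hT' χ.2 h2
    have h6 : Ov h ψ ν := fun a => h2 (h5.symm.trans a)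
    refine ⟨⟨⟨ψ, h3⟩, ⟨fun a => h1.1 ?_, fun a => (real_iff_star ψ).mpr ?_⟩, h6⟩, h4⟩
    · rw [← h4, deg_ind hι (irr_char h3)]
      exact a.mul_left _
    · refine hf.corr_inj hι hk hν hT' (irr_star h3) (h6.star (hr a)) h3 h6 ?_
      rw [ind_star, h4, (real_iff_star _).mp (h1.2 a)]
  · rintro ⟨ψ, h1, h2⟩
    refine ⟨⟨⟨_, hf.corr_irr hι hk hν hT' ψ.2 h2⟩, ⟨fun a => ?_, fun a => real_ind _ (h1.2 a)⟩,
      fun a => h2 ((hf.corr_ip hι hk hν hT' ψ.2 h2).symm.trans a)⟩, rfl⟩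
    change p ∣ charDegree (ind _ _) at a
    rw [deg_ind hι (irr_char ψ.2), range_inclusion_index] at a
    exact (hp.dvd_mul.mp a).elim hi h1.1
  · rintro χ ⟨ψ, h1, h2⟩ ⟨ψ', h1', h2'⟩ e e'
    exact Subtype.ext (Subtype.ext (hf.corr_inj hι hk hν hT' ψ.2 h2 ψ'.2 h2' (e.trans e'.symm)))
  · rintro χ χ' ψ e e'
    exact Subtype.ext (Subtype.ext (e.symm.trans e'))

theorem Ov.cj {M G : Subgroup Γ} {h : M ≤ G} (hn : Nrm G M) {χ : G → ℂ} {μ μ' : M → ℂ}
    (h1 : Ov h χ μ) (hχ : IsClassFunction G χ) {x : Γ} (hx : x ∈ G) (e : Cj x μ μ') :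
    Ov h χ μ' := by
  have hf := isNE_inclusion h hn
  have := hf.ip_res_cjf hχ ⟨x, hx⟩ μ
  rw [cjf_inclusion hn, (cj_iff _).mp e] at this
  exact fun a => h1 (this.symm.trans a)

theorem Cj.le_stab {M S : Subgroup Γ} {x : Γ} (hx : ∀ g ∈ M, x * g * x⁻¹ ∈ M) {μ μ' : M → ℂ}
    (e : Cj x μ μ') (h : S ≤ stab M μ') : MulAut.conj x • S ≤ stab M μ := by
  have hx' := H4.mem_normalizer_of_conj_le (H4.conj_smul_le_iff.mpr hx)
  refine H4.conj_smul_le_iff.mpr fun s hs => ⟨mul_mem (mul_mem hx' (h hs).1) (inv_mem hx'),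
    fun g g' e' => ?_⟩
  have h1 : ∀ g : M, x⁻¹ * g * x⁻¹⁻¹ ∈ M := fun g => (inv_mem hx' g).mp g.2
  rw [← e ⟨_, h1 g⟩ g (by simp [mul_assoc]), ← e ⟨_, h1 g'⟩ g' (by simp [mul_assoc])]
  exact (h hs).2 _ _ (by simp [e', mul_assoc])

variable [hp : Fact p.Prime]

theorem exists_sInv_under_sylow {S M G : Subgroup Γ} (hS : H4.IsSylowIn p S G) (h : M ≤ G)
    (hn : Nrm G M) {χ : G → ℂ} (hχ : IsIrrCharacter G χ) (hd : ¬ p ∣ charDegree χ) :
    ∃ μ, IsIrrCharacter M μ ∧ SInv S M μ ∧ Ov h χ μ := by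
  obtain ⟨μ, h1, h2⟩ := exists_irr_under (Subgroup.inclusion h) hχ
  obtain ⟨T, hT⟩ := H4.IsSylowIn.exists_isSylowIn p (G ⊓ stab M μ)
  have hT' : H4.IsSylowIn p T G := ⟨hT.le.trans inf_le_left, hT.isPGroup, fun a => by
    rw [← Subgroup.relIndex_mul_relIndex _ _ _ hT.le inf_le_left, Subgroup.inf_relIndex_left] at a
    exact (hp.out.dvd_mul.mp a).elim hT.not_dvd fun a =>
      hd ((a.mul_right _).trans (Ov.deg hn h2 hχ h1))⟩
  obtain ⟨x, hx, rfl⟩ := hT'.exists_conj_eq hS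
  have e : Cj x⁻¹ μ _ := (cj_iff (hn _ (inv_mem hx))).mpr rfl
  refine ⟨_, irr_cjHom _ _ h1, (le_stab_iff.mp (Cj.le_stab (hn x hx) (fun m m' e => ?_)
    (hT.le.trans inf_le_right))).2, Ov.cj hn h2 (irr_cf hχ) (inv_mem hx) e⟩
  exact congrArg μ (Subtype.ext (by simp [cjHom_coe, e, mul_assoc]))

theorem Ov.iff_cj {S M G : Subgroup Γ} (hS : H4.IsSylowIn p S G) {h : M ≤ G} (hn : Nrm G M)
    {χ : G → ℂ} (hχ : IsIrrCharacter G χ) {μ μ' : M → ℂ} (hμ : IsIrrCharacter M μ)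
    (hμ' : IsIrrCharacter M μ') (hi : SInv S M μ) (hi' : SInv S M μ') (h1 : Ov h χ μ) :
    Ov h χ μ' ↔ ∃ x ∈ G ⊓ Subgroup.normalizer (S : Set Γ), Cj x μ μ' := by
  refine ⟨fun h2 => ?_, fun ⟨x, hx, e⟩ => h1.cj hn (irr_cf hχ) hx.1 e⟩
  have hf := isNE_inclusion h hn
  obtain ⟨g, hg⟩ := hf.mem_orbit.mp (hf.mem_orbit_of_under hχ hμ hμ' h1 h2)
  rw [cjf_inclusion hn, ← cj_iff] at hg
  have hSM := hn.mono hS.le
  have h3 := hS.of_le (le_inf hS.le (le_stab_iff.mpr ⟨hSM, hi⟩)) inf_le_left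
  have h4 := hS.conj_of_mem (Subgroup.le_normalizer g.2)
  obtain ⟨t, ht, e⟩ := (h4.of_le (le_inf h4.le (hg.le_stab (hn g g.2)
    (le_stab_iff.mpr ⟨hSM, hi'⟩))) inf_le_left).exists_conj_eq h3
  rw [← H4.conj_mul_smul, H4.conj_smul_eq_iff_mem_normalizer] at e
  refine ⟨t * g, ⟨mul_mem ht.1 g.2, e⟩, fun m m' e' => ?_⟩
  rw [hg m ⟨_, hn g g.2 m m.2⟩ rfl]
  exact (ht.2.2 _ _ (by simp [e', mul_assoc])).symm

theorem cnt_eq_card_exists {S L M G : Subgroup Γ} (hS : H4.IsSylowIn p S G) (h : L ≤ M)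
    (h' : M ≤ G) (hL : Nrm G L) (hM : Nrm G M) (hr : r → p = 2) {ν : L → ℂ}
    (hν : IsIrrCharacter L ν) (hi : SInv G L ν) {I : Type*} (a : I → M → ℂ)
    (h1 : ∀ i, IsIrrCharacter M (a i) ∧ Ov h (a i) ν)
    (h2 : ∀ μ, IsIrrCharacter M μ → SInv S M μ → Gd p r μ → Ov h μ ν → ∃ i, a i = μ) :
    cnt p r (h.trans h') ν =
      Nat.card {χ : IrrCharacter G // ∃ i, Gd p r (χ : G → ℂ) ∧ Ov h' χ (a i)} := by
  refine Nat.card_congr (Equiv.subtypeEquivRight fun χ => ⟨fun ⟨h3, h4⟩ => ?_, fun ⟨i, h3, h4⟩ =>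
    ⟨h3, h4.trans (h1 i).2 (irr_char χ.2) (h1 i).1 (irr_char hν)⟩⟩)
  obtain ⟨μ, h5, h6, h7⟩ := exists_sInv_under_sylow hS h' hM χ.2 h3.1
  obtain ⟨i, rfl⟩ := h2 μ h5 h6 (h7.real hM χ.2 h5 hr h3) (h7.of_under hL h4 χ.2 h5 hν hi)
  exact ⟨i, h3, h7⟩

/-- Comparing the counts through the invariant characters of intermediate normal subgroups. -/
theorem cnt_eq_of_index {S L M M' X G : Subgroup Γ} (hS : H4.IsSylowIn p S G) (hX : X ≤ G)
    (hN : G ⊓ Subgroup.normalizer (S : Set Γ) ≤ X) (h : L ≤ M) (h' : M ≤ G) (k : L ≤ M')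
    (k' : M' ≤ X) (hL : Nrm G L) (hM : Nrm G M) (hM' : Nrm X M') (hr : r → p = 2) {ν : L → ℂ}
    (hν : IsIrrCharacter L ν) (hi : SInv G L ν) {I : Type*} [Finite I] (a : I → M → ℂ)
    (b : I → M' → ℂ) (h1 : ∀ i, IsIrrCharacter M (a i) ∧ Ov h (a i) ν) (h0 : ∀ i, SInv S M (a i))
    (h2 : ∀ μ, IsIrrCharacter M μ → SInv S M μ → Gd p r μ → Ov h μ ν → ∃ i, a i = μ)
    (k1 : ∀ i, IsIrrCharacter M' (b i) ∧ Ov k (b i) ν) (k0 : ∀ i, SInv S M' (b i))
    (k2 : ∀ μ, IsIrrCharacter M' μ → SInv S M' μ → Gd p r μ → Ov k μ ν → ∃ i, b i = μ)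
    (hc : ∀ i j, ∀ x ∈ G ⊓ Subgroup.normalizer (S : Set Γ), Cj x (a i) (a j) ↔ Cj x (b i) (b j))
    (H : ∀ i, cnt p r h' (a i) = cnt p r k' (b i)) :
    cnt p r (h.trans h') ν = cnt p r (k.trans k') ν := by
  have hS' := hS.of_le ((le_inf hS.le Subgroup.le_normalizer).trans hN) hX
  haveI := finite_irr G
  haveI := finite_irr X
  rw [cnt_eq_card_exists hS h h' hL hM hr hν hi a h1 h2,
    cnt_eq_card_exists hS' k k' (hL.mono hX) hM' hr hν (hi.mono hX) b k1 k2]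
  refine card_eq_of_classes _ _ (fun i j => ∃ x ∈ G ⊓ Subgroup.normalizer (S : Set Γ),
    Cj x (a i) (a j)) (fun χ i ⟨h3, h4⟩ j => ?_) (fun χ i ⟨h3, h4⟩ j => ?_) H
  · rw [and_iff_right h3, h4.iff_cj hS hM χ.2 (h1 i).1 (h1 j).1 (h0 i) (h0 j)]
  · rw [and_iff_right h3, h4.iff_cj hS' hM' χ.2 (k1 i).1 (k1 j).1 (k0 i) (k0 j)]
    exact ⟨fun ⟨x, hx, e⟩ => ⟨x, ⟨hX hx.1, hx.2⟩, (hc i j x ⟨hX hx.1, hx.2⟩).mpr e⟩,
      fun ⟨x, hx, e⟩ => ⟨x, ⟨hN hx, hx.2⟩, (hc i j x hx).mp e⟩⟩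

/-- The inductive reduction to a chief factor of order prime to `p`. -/
theorem cnt_eq_of_final (hr : r → p = 2) {S : Subgroup Γ}
    (F : ∀ {L M Y G : Subgroup Γ} (h : L ≤ Y) (h' : Y ≤ G) (ν : L → ℂ), H4.IsSylowIn p S G →
      L ≤ M → M ≤ G → Nrm G L → Nrm G M → ¬ p ∣ L.relIndex M →
      Y = L ⊔ (G ⊓ Subgroup.normalizer (S : Set Γ)) → M ⊔ Y = G → IsIrrCharacter L ν →
      SInv G L ν → (r → ∀ g, (ν g).im = 0) → cnt p r (h.trans h') ν = cnt p r h ν) :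
    ∀ (n : ℕ) {L H G : Subgroup Γ} (h : L ≤ H) (h' : H ≤ G) (ν : L → ℂ), L.relIndex G = n →
      IsPSolvable p G → H4.IsSylowIn p S G → G ⊓ Subgroup.normalizer (S : Set Γ) ≤ H → Nrm G L →
      IsIrrCharacter L ν → SInv S L ν → (r → ∀ g, (ν g).im = 0) →
      cnt p r (h.trans h') ν = cnt p r h ν := by
  intro n
  induction n using Nat.strong_induction_on with
  | _ n ih =>
  intro L H G h h' ν hn hG hS hN hL hν hi hre
  by_cases h0 : H = G
  · subst h0; rfl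
  have lt : ∀ {T : Subgroup Γ}, L ≤ T → T ≤ G → T ≠ G → L.relIndex T < n := fun {T} a b c => by
    rw [← hn, ← Subgroup.relIndex_mul_relIndex _ _ _ a b]
    exact lt_mul_of_one_lt_right (Nat.pos_of_ne_zero Subgroup.index_ne_zero_of_finite)
      (Nat.one_lt_iff_ne_zero_and_ne_one.mpr ⟨Subgroup.index_ne_zero_of_finite,
        fun e => c (le_antisymm b (Subgroup.relIndex_eq_one.mp e))⟩)
  have sub : ∀ {T : Subgroup Γ}, T ≤ G → IsPSolvable p T := fun a =>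
    H1.isPSolvable_of_injective hp.out _ (Subgroup.inclusion_injective a) hG
  have hSH : S ≤ H := (le_inf hS.le Subgroup.le_normalizer).trans hN
  have hSs : S ≤ stab L ν := le_stab_iff.mpr ⟨hL.mono hS.le, hi⟩
  have hLs : L ≤ stab L ν := le_stab_iff.mpr ⟨nrm_self L, sInv_self (irr_cf hν)⟩
  have nd : ∀ {T U : Subgroup Γ}, S ≤ T → T ≤ U → U ≤ G → ¬ p ∣ T.relIndex U :=
    fun {T U} a b c d => (hS.of_le (a.trans b) c).not_dvd
      (d.trans (Subgroup.relIndex_dvd_of_le_left _ a))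
  by_cases h1 : G ⊓ stab L ν = G
  swap
  · have a1 : L ≤ H ⊓ stab L ν := le_inf h hLs
    have a2 : H ⊓ stab L ν ≤ G ⊓ stab L ν := inf_le_inf_right _ h'
    exact (cnt_clifford hp.out (a1.trans a2) inf_le_left hL hν le_rfl
      (nd (le_inf hS.le hSs) inf_le_left le_rfl) hre).trans ((ih _ (lt (a1.trans a2) inf_le_left h1)
      a1 a2 ν rfl (sub inf_le_left) (hS.of_le (le_inf hS.le hSs) inf_le_left)
      (fun x hx => ⟨hN ⟨hx.1.1, hx.2⟩, hx.1.2⟩) (hL.mono inf_le_left) hν hi hre).trans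
      (cnt_clifford hp.out a1 inf_le_left (hL.mono h') hν le_rfl
        (nd (le_inf hSH hSs) inf_le_left h') hre).symm)
  have hi' : SInv G L ν := (le_stab_iff.mp (inf_eq_left.mp h1)).2
  haveI := hL.normal_subgroupOf
  obtain ⟨M₀, hM₀, h2, -, h3⟩ := ((H1.isPSolvable_iff hp.out).mp hG).exists_step (H1.piSep_dvd _)
    (L.subgroupOf G) bot_le (lt_top_iff_ne_top.mpr fun a =>
      h0 (le_antisymm h' ((Subgroup.subgroupOf_eq_top.mp a).trans h)))
  set M := M₀.map G.subtype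
  have hMG : M ≤ G := Subgroup.map_subtype_le _
  have e0 : M.subgroupOf G = M₀ := Subgroup.comap_map_eq_self_of_injective G.subtype_injective _
  have hLM : L ≤ M := fun x hx => ⟨⟨x, h' (h hx)⟩, h2.le hx, rfl⟩
  have hM : Nrm G M := by
    rintro g hg _ ⟨m, hm, rfl⟩
    exact ⟨_, hM₀.conj_mem m hm ⟨g, hg⟩, rfl⟩
  rw [← e0, Subgroup.relIndex_subgroupOf hMG] at h3
  have lt' : M.relIndex G < n := by
    rw [← hn, ← Subgroup.relIndex_mul_relIndex _ _ _ hLM hMG]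
    exact lt_mul_of_one_lt_left (Nat.pos_of_ne_zero Subgroup.index_ne_zero_of_finite)
      (Nat.one_lt_iff_ne_zero_and_ne_one.mpr ⟨Subgroup.index_ne_zero_of_finite, fun e =>
        h2.not_ge (e0 ▸ Subgroup.subgroupOf_mono _ (Subgroup.relIndex_eq_one.mp e))⟩)
  set Y := L ⊔ (G ⊓ Subgroup.normalizer (S : Set Γ))
  have hYH : Y ≤ H := sup_le h hN
  have hLY : L ≤ Y := le_sup_left
  have hX : M ⊔ Y ≤ G := sup_le hMG (hYH.trans h')
  have hNX : G ⊓ Subgroup.normalizer (S : Set Γ) ≤ M ⊔ Y := le_sup_right.trans le_sup_right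
  have sub' : ∀ {T : Subgroup Γ} (a : Y ≤ T) (b : T ≤ G), T ≠ G →
      cnt p r (hLY.trans a) ν = cnt p r hLY ν := fun {T} a b c =>
    ih _ (lt (hLY.trans a) b c) hLY a ν rfl (sub b) (hS.of_le ((le_inf hS.le
      Subgroup.le_normalizer).trans (le_sup_right.trans a)) b)
      ((inf_le_inf_right _ b).trans le_sup_right) (hL.mono b) hν hi hre
  refine Eq.trans ?_ (sub' hYH h' h0).symm
  by_cases h4 : M ⊔ Y = G
  · rcases h3 with h3 | h3
    · refine absurd (le_antisymm h' (h4 ▸ sup_le (fun x hx => ?_) hYH)) h0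
      obtain ⟨k, hk, -, s, hs, rfl⟩ := (hS.inf_of_normal_le hMG hM.le_normalizer
        ).exists_mul_eq_of_forall_coprime (K := L) (fun y hy hc => (hL.mono hMG).mem_of_coprime hy (by
          obtain ⟨k, hk⟩ := (H1.isPiNum_singleton_iff hp.out Subgroup.index_ne_zero_of_finite).mp h3
          exact (show L.relIndex M = _ from hk) ▸ hc.pow_right k)) hx
      exact mul_mem (h hk) (hSH hs.1)
    · exact F hLY (hYH.trans h') ν hS hLM hMG hL hM (hp.out.coprime_iff_not_dvd.mp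
        ((H1.isPiNum_compl_singleton_iff hp.out).mp h3).symm) rfl h4 hν hi' hre
  · haveI := finite_irr M
    refine Eq.trans ?_ (sub' le_sup_right hX h4)
    exact cnt_eq_of_index hS hX hNX hLM hMG hLM le_sup_left hL hM (hM.mono hX) hr hν hi'
      (I := {μ : IrrCharacter M // SInv S M μ ∧ Gd p r (μ : M → ℂ) ∧ Ov hLM μ ν})
      (fun i => i.1) (fun i => i.1) (fun i => ⟨i.1.2, i.2.2.2⟩) (fun i => i.2.1)
      (fun μ a b c d => ⟨⟨⟨μ, a⟩, b, c, d⟩, rfl⟩) (fun i => ⟨i.1.2, i.2.2.2⟩) (fun i => i.2.1)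
      (fun μ a b c d => ⟨⟨⟨μ, a⟩, b, c, d⟩, rfl⟩) (fun _ _ _ _ => Iff.rfl) fun i =>
      ih _ lt' le_sup_left hX _ rfl hG hS hNX hM i.1.2 i.2.1 i.2.2.1.2

end Ambient

end Cfsg.Agent.H7
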