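import Mathlib
import Cfsg.Prelude.Def_Characters
import Cfsg.Agent.H5.Basic
import Cfsg.Agent.H7.McKay

/-!
The relative McKay equality for `p`-solvable groups and its real version.
-/

namespace Cfsg.Agent.H7

open Cfsg
open scoped ComplexConjugate commutatorElement Pointwise

universe u

section Res

variable {G M H D : Type*} [Group G] [Group M] [Group H] [Group D] [Finite G] [Finite M] [Finite H]
  [Finite D] {ι : H →* G} {k : M →* G} {a : D →* H} {b : D →* M}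

/-- `G = M H` with `M` normal and `D = M ∩ H`. -/
structure Sq (ι : H →* G) (k : M →* G) (a : D →* H) (b : D →* M) : Prop where
  ne : IsNE k
  comm : ∀ d, ι (a d) = k (b d)
  inj : ∀ d d', a d = a d' → b d = b d' → d = d'
  pb : ∀ h x, ι h = k x → ∃ d, a d = h ∧ b d = x
  surj : ∀ g, ∃ h x, g = k x * ι h

namespace Sq

variable (h : Sq ι k a b) {μ : M → ℂ} (hμ : IsIrrCharacter M μ)
include h hμ

theorem ip_ind {ψ : H → ℂ} (hψ : IsClassFunction H ψ) :
    ip (fun x => ind ι ψ (k x)) μ = ip (fun d => ψ (a d)) fun d => μ (b d) := by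
  rw [ind_comp_of_mul h.comm h.inj h.pb h.surj hψ, ip_ind_left _ _ (irr_cf hμ)]

theorem exists_over {ψ : H → ℂ} (hψ : IsIrrCharacter H ψ)
    (h0 : ip (fun d => ψ (a d)) (fun d => μ (b d)) ≠ 0) :
    ∃ χ, IsIrrCharacter G χ ∧ ip (fun x => χ (ι x)) ψ ≠ 0 ∧ ip (fun x => χ (k x)) μ ≠ 0 := by
  rw [← h.ip_ind hμ (irr_cf hψ)] at h0
  obtain ⟨χ, h1, h2, h3⟩ := exists_irr_between (MonoidHom.id G) k (char_ind ι (irr_char hψ)) h0
  exact ⟨χ, h1, ip_ne_zero_comm.mp (ip_ind_left ι ψ (irr_cf h1) ▸ h2), h3⟩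

variable (hi : h.ne.Inv μ) (hD : IsIrrCharacter D fun d => μ (b d))
include hi hD

theorem res_eq {χ : G → ℂ} (hχ : IsIrrCharacter G χ) (h0 : ip (fun x => χ (k x)) μ ≠ 0)
    {ψ : H → ℂ} (hψ : IsIrrCharacter H ψ) (h1 : ip (fun x => χ (ι x)) ψ ≠ 0) :
    (fun x => χ (ι x)) = ψ ∧ ip (fun x => (ind ι ψ - χ) (k x)) μ = 0 := by
  obtain ⟨e, -, he⟩ := h.ne.clifford_inv_nat hχ hμ hi h0
  have h2 := char_sub_irr (char_ind ι (irr_char hψ)) hχ
    (by rw [ip_ind_left _ _ (irr_cf hχ)]; exact ip_ne_zero_comm.mp h1)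
  obtain ⟨m, hm⟩ := ip_char_nat (char_comp k h2) (irr_char hμ)
  have h3 : ip (fun d => ψ (a d)) (fun d => μ (b d)) = (e + m : ℕ) := by
    rw [← h.ip_ind hμ (irr_cf hψ), Nat.cast_add, ← hm, ← mul_one (e : ℂ), ← ip_irr_self hμ,
      ← ip_smul_left, ← he, ← ip_add_left]
    congr 1
    ext x
    simp
  have h4 := degree_le_of_ip (char_comp a (irr_char hψ)) hD h3
    (by simpa using char_one_eq (irr_char hψ)) (by simpa using char_one_eq (irr_char hμ))
  have h5 := deg_le_of_under ι (irr_char hχ) hψ h1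
  have h6 : charDegree χ = e * charDegree μ := charDegree_eq (by
    simpa [char_one_eq (irr_char hμ)] using congrFun he 1)
  have h7 := irr_degree_pos hμ
  have h8 : m = 0 := by nlinarith
  subst h8
  exact ⟨res_eq_of_deg_eq ι (irr_char hχ) hψ h1 (le_antisymm (h6 ▸ h4) h5), by simpa using hm⟩

theorem irr_res {χ : G → ℂ} (hχ : IsIrrCharacter G χ) (h0 : ip (fun x => χ (k x)) μ ≠ 0) :
    IsIrrCharacter H fun x => χ (ι x) := by
  obtain ⟨ψ, h1, h2⟩ := exists_irr_under ι hχ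
  exact (h.res_eq hμ hi hD hχ h0 h1 h2).1 ▸ h1

theorem res_inj {χ χ' : G → ℂ} (hχ : IsIrrCharacter G χ) (h0 : ip (fun x => χ (k x)) μ ≠ 0)
    (hχ' : IsIrrCharacter G χ') (h0' : ip (fun x => χ' (k x)) μ ≠ 0)
    (e : (fun x => χ (ι x)) = fun x => χ' (ι x)) : χ = χ' := by
  by_contra hne
  have h1 := h.irr_res hμ hi hD hχ h0
  have h2 : ip (fun x => χ (ι x)) (fun x => χ (ι x)) ≠ 0 := ip_irr_self h1 ▸ one_ne_zero
  refine ip_comp_ne_zero_of_le k (char_sub_irr (char_ind ι (irr_char h1)) hχ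
    (by rwa [ip_ind_left _ _ (irr_cf hχ)])) hχ' ?_ (irr_char hμ) h0'
    (h.res_eq hμ hi hD hχ h0 h1 h2).2
  rwa [ip_sub_left, ip_irr_ne hχ hχ' hne, sub_zero, ip_ind_left _ _ (irr_cf hχ'), ← e]

theorem res_over {χ : G → ℂ} (hχ : IsIrrCharacter G χ) (h0 : ip (fun x => χ (k x)) μ ≠ 0) :
    ip (fun d => χ (ι (a d))) (fun d => μ (b d)) ≠ 0 := by
  simp only [h.comm]
  exact ip_comp_comp_ne_zero k b (irr_char hχ) hμ (irr_char hD) h0
    (ip_irr_self hD ▸ one_ne_zero)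

/-- Restriction is a bijection `Irr(G | μ) → Irr(H | μ_D)`. -/
theorem card_eq (P : (G → ℂ) → Prop) (P' : (H → ℂ) → Prop)
    (hP : ∀ χ, IsIrrCharacter G χ → ip (fun x => χ (k x)) μ ≠ 0 → (P χ ↔ P' fun x => χ (ι x))) :
    Nat.card {χ : IrrCharacter G // P χ ∧ ip (fun x => (χ : G → ℂ) (k x)) μ ≠ 0} =
      Nat.card {ψ : IrrCharacter H // P' ψ ∧
        ip (fun d => (ψ : H → ℂ) (a d)) (fun d => μ (b d)) ≠ 0} := by
  refine card_eq_of_rel (fun χ ψ => (fun x => χ.1.1 (ι x)) = ψ.1.1) ?_ ?_ ?_ ?_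
  · rintro ⟨χ, h1, h2⟩
    exact ⟨⟨⟨_, h.irr_res hμ hi hD χ.2 h2⟩, (hP _ χ.2 h2).mp h1, h.res_over hμ hi hD χ.2 h2⟩, rfl⟩
  · rintro ⟨ψ, h1, h2⟩
    obtain ⟨χ, h3, h4, h5⟩ := h.exists_over hμ ψ.2 h2
    have e := (h.res_eq hμ hi hD h3 h5 ψ.2 h4).1
    exact ⟨⟨⟨χ, h3⟩, (hP _ h3 h5).mpr (e ▸ h1), h5⟩, e⟩
  · rintro χ ψ ψ' e e'
    exact Subtype.ext (Subtype.ext (e.symm.trans e'))
  · rintro χ χ' ψ e e'
    exact Subtype.ext (Subtype.ext (h.res_inj hμ hi hD χ.1.2 χ.2.2 χ'.1.2 χ'.2.2 (e.trans e'.symm)))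

end Sq

end Res

section Ambient

variable {Γ : Type*} [Group Γ] [Finite Γ] {p : ℕ}

theorem sq_inclusion {M H G : Subgroup Γ} (h : M ≤ G) (h' : H ≤ G) (hn : Nrm G M) (e : M ⊔ H = G) :
    Sq (Subgroup.inclusion h') (Subgroup.inclusion h)
      (Subgroup.inclusion (inf_le_right : M ⊓ H ≤ H)) (Subgroup.inclusion inf_le_left) :=
  ⟨isNE_inclusion h hn, fun _ => rfl, fun _ _ e _ => Subgroup.inclusion_injective _ e,
    fun y x e => ⟨⟨y, (show (y : Γ) = x from congrArg Subtype.val e) ▸ x.2, y.2⟩, rfl,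
      Subtype.ext (congrArg Subtype.val e :)⟩, fun g => by
      obtain ⟨n, hn, y, hy, e⟩ := (hn.mono h').mem_sup.mp (e.ge g.2)
      exact ⟨⟨y, hy⟩, ⟨n, hn⟩, Subtype.ext e⟩⟩

theorem Nrm.relIndex_dvd {S W U : Subgroup Γ} (h : Nrm U S) (h' : W ≤ U) :
    S.relIndex W ∣ S.relIndex U := by
  haveI := h.normal_subgroupOf
  have := H1.relIndex_dvd_of_normal_of_le (S.subgroupOf U) (le_top : W.subgroupOf U ≤ ⊤)
  rwa [Subgroup.relIndex_subgroupOf h', Subgroup.relIndex_top_right] at this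

theorem Nrm.relIndex_sup {K A : Subgroup Γ} (h : Nrm A K) : K.relIndex (K ⊔ A) = K.relIndex A := by
  rw [sup_comm, H5.relIndex_sup_of_le_normalizer h.le_normalizer]

theorem Nrm.relIndex_sup_dvd {K A U : Subgroup Γ} (h : Nrm U K) (h' : A ≤ U) :
    (K ⊔ A).relIndex (K ⊔ U) ∣ A.relIndex U := by
  refine Nat.dvd_of_mul_dvd_mul_left (Nat.pos_of_ne_zero (Subgroup.index_ne_zero_of_finite
    (H := K.subgroupOf A))) ?_
  change K.relIndex A * _ ∣ K.relIndex A * _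
  nth_rw 1 [← (h.mono h').relIndex_sup]
  rw [Subgroup.relIndex_mul_relIndex _ _ _ le_sup_left (sup_le_sup_left h' _), h.relIndex_sup,
    ← Subgroup.inf_relIndex_right K A, Subgroup.relIndex_mul_relIndex _ _ _ inf_le_right h']
  exact Subgroup.relIndex_dvd_of_le_left _ inf_le_left

/-- The real case of the final step. -/
theorem cnt_real_final {L M Y G : Subgroup Γ} (h : L ≤ Y) (h' : Y ≤ G) (ν : L → ℂ) (hLM : L ≤ M)
    (hMG : M ≤ G) (hL : Nrm G L) (hM : Nrm G M) (ho : ¬ 2 ∣ L.relIndex M) (e : M ⊔ Y = G)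
    (hν : IsIrrCharacter L ν) (hi : SInv G L ν) (hr : ∀ g, (ν g).im = 0) :
    cnt 2 True (h.trans h') ν = cnt 2 True h ν := by
  have key : ∀ {M G : Subgroup Γ} (hLM : L ≤ M) (hMG : M ≤ G), Nrm G L → Nrm G M →
      ¬ 2 ∣ L.relIndex M → SInv G L ν → ∀ μ, IsIrrCharacter M μ → (∀ g, (μ g).im = 0) →
      Ov hLM μ ν → cnt 2 True (hLM.trans hMG) ν = cnt 2 True hMG μ := by
    intro M G hLM hMG hL hM ho hi μ h1 h2 h3
    obtain ⟨μ₀, -, -, -, h4⟩ := (isNE_inclusion hLM (hL.mono hMG)).exists_unique_real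
      (by rw [range_inclusion_index]; exact Nat.not_even_iff_odd.mp (even_iff_two_dvd.not.mpr ho))
      hν hr
    refine Nat.card_congr (Equiv.subtypeEquivRight fun χ => and_congr_right fun h5 =>
      ⟨fun h6 => ?_, fun h6 => h6.trans h3 (irr_char χ.2) h1 (irr_char hν)⟩)
    obtain ⟨μ', h7, h8⟩ := exists_irr_under (Subgroup.inclusion hMG) χ.2
    rw [h4 μ h1 h3 h2, ← h4 μ' h7 (Ov.of_under hL h8 h6 χ.2 h7 hν hi)
      ((Ov.real hM h8 χ.2 h7 (fun _ => rfl) h5).2 trivial)]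
    exact h8
  have hf := isNE_inclusion hLM (hL.mono hMG)
  obtain ⟨μ, h1, h2, h3, h4⟩ := hf.exists_unique_real
    (by rw [range_inclusion_index]; exact Nat.not_even_iff_odd.mp (even_iff_two_dvd.not.mpr ho))
    hν hr
  have h5 := hf.res_eq_of_ip_one h1 hν ((inv_inclusion_iff _ hf ν).mpr (hi.mono hMG)) h2
  have h6 : Ov hLM μ ν := fun a => one_ne_zero (h2.symm.trans a)
  have hD : L ≤ M ⊓ Y := le_inf hLM h
  have h7 : IsIrrCharacter (M ⊓ Y : Subgroup Γ) fun d => μ (Subgroup.inclusion inf_le_left d) :=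
    irr_of_irr_comp (Subgroup.inclusion hD) (char_comp _ (irr_char h1)) (h5 ▸ hν)
  have X := sq_inclusion hMG h' hM e
  have h8 : X.ne.Inv μ := (inv_inclusion_iff _ _ μ).mpr ((sInv_iff hM).mpr fun s hs =>
    h4 _ (irr_cjHom _ _ h1) (by
      rw [← (sInv_iff hL).mp hi s hs]
      exact fun a => h6 ((ip_cjHom s (hL s hs) _ _).symm.trans a)) fun g => h3 _)
  rw [key hLM hMG hL hM ho hi μ h1 h3 h6, key hD inf_le_right (hL.mono h')
    ((hM.mono h').inf_right (nrm_self Y)) (fun a => ho (a.trans ((hL.mono hMG).relIndex_dvd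
      inf_le_left))) (hi.mono h') _ h7 (fun g => h3 _) h6]
  refine X.card_eq h1 h8 h7 _ _ fun χ hχ h9 => and_congr (by rw [deg_comp]) ⟨fun a _ g => a trivial _,
    fun a _ => (real_iff_star χ).mpr (X.res_inj h1 h8 h7 (irr_star hχ) (Ov.star h9 h3) hχ h9 ?_)⟩
  exact (real_iff_star _).mp (a trivial)

omit [Finite Γ] in
theorem extTo_map {E T : Subgroup Γ} (h : E ≤ T) {φ : E → ℂ} (U : Subgroup T) :
    ExtTo (Subgroup.inclusion h) φ U ↔ ExtTo E.subtype φ (U.map T.subtype) := by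
  let e := U.equivMapOfInjective T.subtype T.subtype_injective
  refine ⟨fun ⟨η, h1, h2⟩ => ⟨_, char_comp e.symm.toMonoidHom h1, fun n hn => ?_⟩,
    fun ⟨η, h1, h2⟩ => ⟨_, char_comp e.toMonoidHom h1, fun n hn => h2 n _⟩⟩
  obtain ⟨x, hx, e'⟩ := hn
  have h3 : Subgroup.inclusion h n ∈ U := by rwa [show Subgroup.inclusion h n = x from Subtype.ext e'.symm]
  rw [← h2 n h3]
  exact congrArg η (e.symm_apply_eq.mpr rfl)

theorem extTo_of_local {K W : Subgroup Γ} (h : K ≤ W) (hn : Nrm W K) {θ : K → ℂ}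
    (hθ : IsIrrCharacter K θ) (hi : SInv W K θ)
    (H : ∀ q : ℕ, q.Prime → q ∣ detOrder θ * charDegree θ →
      ∃ B, K ≤ B ∧ B ≤ W ∧ ¬ q ∣ B.relIndex W ∧ ExtTo K.subtype θ B) : ExtTo K.subtype θ W := by
  have hf := isNE_inclusion h hn
  obtain ⟨χ, h1, h2⟩ := hf.exists_ext_of_local' hθ ((inv_inclusion_iff _ hf θ).mpr hi)
    (char_one_eq (irr_char hθ)) fun q hq _ hd => by
      obtain ⟨B, h1, h2, h3, η, h4, h5⟩ := H q hq hd
      exact ⟨B.subgroupOf W, fun n => h1 n.2, _,  h3,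
        char_comp (Subgroup.subgroupOfEquivOfLe h2).toMonoidHom h4, fun n => h5 n (h1 n.2)⟩
  exact ⟨χ, irr_char h1, fun n _ => h2 n⟩

theorem extTo_of_compl {K E F B W : Subgroup Γ} (h1 : K ≤ E) (h2 : E ≤ F) (h3 : F ≤ W)
    (h4 : K ≤ B) (h5 : B ≤ W) (hK : Nrm W K) (hE : Nrm W E) (hF : ¬ p ∣ F.relIndex W)
    (hB : ∀ q : ℕ, q.Prime → q ∣ B.relIndex W → q = p)
    (hEK : ∀ q : ℕ, q.Prime → q ∣ K.relIndex E → q = p) {η : F → ℂ} (hη : IsCharacter F η)
    (hθ : IsIrrCharacter K fun k => η (Subgroup.inclusion (h1.trans h2) k))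
    (hi : SInv W E fun x => η (Subgroup.inclusion h2 x))
    (H : ExtTo K.subtype (fun k => η (Subgroup.inclusion (h1.trans h2) k)) B) :
    ExtTo E.subtype (fun x => η (Subgroup.inclusion h2 x)) W := by
  obtain ⟨ξ, h6, h7⟩ := extTo_of_local (h1.trans (h2.trans h3)) hK hθ (hi.res h1) fun q hq _ => by
    by_cases e : q = p
    · exact ⟨F, h1.trans h2, h3, e ▸ hF, η, hη, fun n _ => rfl⟩
    · exact ⟨B, h4, h5, fun a => e (hB q hq a), H⟩
  have e1 : (fun k => ξ (Subgroup.inclusion (h1.trans (h2.trans h3)) k)) =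
    fun k => η (Subgroup.inclusion (h1.trans h2) k) := funext fun k => h7 k _
  obtain ⟨l, h8, h9⟩ := (isNE_inclusion (h1.trans h2) (hK.mono h3)).exists_linear_of_ext
    (char_comp (Subgroup.inclusion h3) h6) (by rw [← e1] at hθ; exact hθ) hη
    fun k => (congrFun e1 k).symm
  let lam := l.comp (Subgroup.inclusion h2)
  have h10 : ∀ x, η (Subgroup.inclusion h2 x) = lam x * ξ (Subgroup.inclusion (h2.trans h3) x) :=
    fun x => congrFun h9 _
  obtain ⟨ζ, h11, h12⟩ := extTo_of_local (h2.trans h3) hE (irr_linFun lam)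
    ((sInv_iff hE).mpr fun w hw => by
      have := lin_eq_one_of_mul_eq (f := Subgroup.inclusion h1) (char_comp (Subgroup.inclusion
        (h2.trans h3)) h6) (by rw [← e1] at hθ; exact hθ) (lam := lam⁻¹ * lam.comp (cjHom w (hE w hw)))
        (fun n => by
          have a1 : lam (Subgroup.inclusion h1 n) = 1 := h8 n
          have a2 : lam (cjHom w (hE w hw) (Subgroup.inclusion h1 n)) = 1 := h8 ⟨_, hK w hw n n.2⟩
          simp [a1, a2])
        (funext fun x => by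
          have a1 := hi w hw x (cjHom w (hE w hw) x) rfl
          have a2 := sInv_self (char_cf h6) w hw (Subgroup.inclusion (h2.trans h3) x)
            (Subgroup.inclusion (h2.trans h3) (cjHom w (hE w hw) x)) rfl
          simp only [h10, a2] at a1
          simp [linFun_apply, mul_assoc, a1])
      exact congrArg linFun (inv_mul_eq_one.mp this).symm)
    fun q hq hd => by
      haveI := (isNE_inclusion h1 (hK.mono (h2.trans h3))).normal
      rw [charDegree_eq (d := 1) (by simp [linFun_apply]), mul_one, detOrder_eq, detHom_linFun] at hd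
      rw [hEK q hq (range_inclusion_index h1 ▸ hd.trans (orderOf_dvd_of_pow_eq_one
        (hom_pow_index_eq_one (f := Subgroup.inclusion h1) lam h8)))]
      exact ⟨F, h2, h3, hF, _, char_linFun l, fun n _ => rfl⟩
  exact ⟨_, char_mul h11 h6, fun x hx => by rw [Pi.mul_apply, h12]; exact (h10 x).symm⟩

variable [hp : Fact p.Prime]

omit [Finite Γ] in
theorem eq_of_dvd_card {S : Subgroup Γ} [Finite S] (hS : IsPGroup p S) {q : ℕ} (hq : q.Prime)
    (h : q ∣ Nat.card S) : q = p := by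
  obtain ⟨k, hk⟩ := hS.exists_card_eq
  exact (Nat.prime_dvd_prime_iff_eq hq hp.out).mp (hq.dvd_of_dvd_pow (hk ▸ h))

theorem Nrm.eq_of_dvd {S K E : Subgroup Γ} (h : Nrm S K) (hS : IsPGroup p S) (h' : E ≤ K ⊔ S)
    {q : ℕ} (hq : q.Prime) (hd : q ∣ K.relIndex E) : q = p :=
  eq_of_dvd_card hS hq (hd.trans ((((nrm_self K).sup h).relIndex_dvd h').trans
    (h.relIndex_sup ▸ Subgroup.index_dvd_card _)))

/-- A character of `p'`-degree over an invariant character with `p`-power index is an extension. -/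
theorem Ov.res_eq {L P : Subgroup Γ} {h : L ≤ P} (hn : Nrm P L)
    (hd : ∀ q : ℕ, q.Prime → q ∣ L.relIndex P → q = p) {ψ : P → ℂ} (hψ : IsIrrCharacter P ψ)
    (h0 : ¬ p ∣ charDegree ψ) {ν : L → ℂ} (hν : IsIrrCharacter L ν) (h1 : Ov h ψ ν) :
    (fun l => ψ (Subgroup.inclusion h l)) = ν := by
  obtain ⟨e, h2, h3⟩ := (isNE_inclusion h hn).deg_ratio hν hψ h1
  rw [range_inclusion_index] at h3
  obtain rfl : e = 1 := Nat.eq_one_iff_not_exists_prime_dvd.mpr fun q hq a =>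
    h0 (h2 ▸ (hd q hq (a.trans h3) ▸ a).mul_right _)
  exact res_eq_of_deg_eq _ (irr_char hψ) hν h1 (by rw [h2, one_mul])

section Core

variable {K S T₀ T E : Subgroup Γ} (hS : H4.IsSylowIn p S T₀) (hK : ¬ p ∣ Nat.card K)
  (h1 : Nrm T₀ K) (h2 : Nrm T₀ S) (hT : K ⊔ T₀ = T) (hE : K ⊔ ⁅S, S⁆ = E) {θ : K → ℂ}
  (hθ : IsIrrCharacter K θ) (hi : SInv T₀ K θ) (hKE : K ≤ E) (hEF : E ≤ K ⊔ S) (hET : E ≤ T)
include hS hK h1 h2 hT hE hθ hi

theorem core_count : ∃ η : (K ⊔ S : Subgroup Γ) → ℂ, IsCharacter _ η ∧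
    (fun k => η (Subgroup.inclusion le_sup_left k)) = θ ∧
    SInv T E (fun x => η (Subgroup.inclusion hEF x)) ∧ cnt p False (hKE.trans hET) θ =
      Nat.card {χ : IrrCharacter T // Ov hET χ fun x => η (Subgroup.inclusion hEF x)} := by
  subst hT
  have hSK := h1.mono hS.le
  have hF : K ⊔ S ≤ K ⊔ T₀ := sup_le_sup_left hS.le _
  have hTK := (nrm_self K).sup h1
  have hTF : Nrm (K ⊔ T₀) (K ⊔ S) := (nrm_of_le le_sup_left).sup (h1.sup_right h2)
  have hf := isNE_inclusion (le_sup_left : K ≤ K ⊔ S) (hTK.mono hF)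
  have hiT := (sInv_self (irr_cf hθ)).sup hi (nrm_self K) h1
  have hd : ¬ p ∣ charDegree θ := fun a => hK (a.trans (irr_degree_dvd_card hθ))
  obtain ⟨η, h3, h4, -⟩ := hf.exists_ext_of_hall (Nat.coprime_of_dvd fun q hq a b => hK (by
    rw [range_inclusion_index] at a
    exact hSK.eq_of_dvd hS.isPGroup le_rfl hq a ▸ b)) hθ
    ((inv_inclusion_iff _ hf θ).mpr (hiT.mono hF)) (char_one_eq (irr_char hθ))
    (irr_degree_dvd_card hθ)
  have h5 : (fun k => η (Subgroup.inclusion le_sup_left k)) = θ := funext h4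
  have key : ∀ ψ, IsCharacter _ ψ → (∀ k, ψ (Subgroup.inclusion le_sup_left k) = θ k) →
      (fun x => ψ (Subgroup.inclusion hEF x)) = fun x => η (Subgroup.inclusion hEF x) := by
    intro ψ a b
    obtain ⟨l, c, rfl⟩ := hf.exists_linear_of_ext (irr_char h3) (h5 ▸ hθ) a
      fun n => (b n).trans (h4 n).symm
    have : E ≤ l.ker.map (K ⊔ S).subtype := hE ▸ sup_le (fun k hk => ⟨_, c ⟨k, hk⟩, rfl⟩)
      (Subgroup.commutator_le.mpr fun s hs t ht => ⟨⁅Subgroup.inclusion le_sup_right ⟨s, hs⟩,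
        Subgroup.inclusion le_sup_right ⟨t, ht⟩⁆, by
          rw [SetLike.mem_coe, MonoidHom.mem_ker, map_commutatorElement,
            commutatorElement_eq_one_iff_mul_comm, mul_comm], rfl⟩)
    ext x
    obtain ⟨y, hy, e⟩ := this x.2
    rw [Pi.mul_apply, show l (Subgroup.inclusion hEF x) = 1 by
      rwa [show Subgroup.inclusion hEF x = y from Subtype.ext e.symm], Units.val_one, one_mul]
  have hφ : IsIrrCharacter E fun x => η (Subgroup.inclusion hEF x) :=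
    irr_of_irr_comp (Subgroup.inclusion hKE) (char_comp _ (irr_char h3)) (h5 ▸ hθ)
  refine ⟨η, irr_char h3, h5, fun t ht x y e => ?_,
    Nat.card_congr (Equiv.subtypeEquivRight fun χ => ⟨fun ⟨a, b⟩ => ?_, fun a => ?_⟩)⟩
  · refine Eq.trans ?_ (congrFun (key _ (char_comp (cjHom t (hTF t ht)) (irr_char h3))
      fun k => (h4 ⟨_, hTK t ht k k.2⟩).trans (hiT t ht _ _ rfl)) x)
    exact congrArg η (Subtype.ext e)
  · obtain ⟨ψ, c, d, e⟩ := exists_irr_between (Subgroup.inclusion hF)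
      (Subgroup.inclusion (le_sup_left : K ≤ K ⊔ S)) (irr_char χ.2) b
    refine Ov.trans (h := hEF) d ?_ (irr_char χ.2) c (irr_char hφ)
    rw [Ov, key ψ (irr_char c) (congrFun (Ov.res_eq (hTK.mono hF) (fun q => hSK.eq_of_dvd
      hS.isPGroup le_rfl) c (fun a' => a.1 ((a'.mul_left _).trans (Ov.deg hTF d χ.2 c))) hθ e)),
      ip_irr_self hφ]
    exact one_ne_zero
  · refine ⟨⟨fun b => ?_, False.elim⟩, a.trans (h := hKE) (fun b => one_ne_zero
      ((ip_irr_self hθ).symm.trans (by nth_rw 1 [← h5]; exact b))) (irr_char χ.2) hφ (irr_char hθ)⟩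
    obtain ⟨ψ, c, d, e⟩ := exists_irr_between (Subgroup.inclusion hF)
      (Subgroup.inclusion hEF) (irr_char χ.2) a
    have hab : ⁅K ⊔ S, K ⊔ S⁆ ≤ E := by
      have := Nrm.comm_sup_le (B := S) (K := E) (hE ▸ hSK.sup_right (nrm_of_comm
        (Subgroup.commutator_le_self _) le_rfl)) (hE ▸ le_sup_right)
      exact (Subgroup.commutator_mono (sup_le_sup_right hKE _) (sup_le_sup_right hKE _)).trans this
    obtain ⟨l, -, rfl⟩ := (isNE_inclusion hEF (nrm_of_comm hEF hab)).exists_linear_of_abelian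
      (commutator_le_range_inclusion hEF hab) h3 c e
    obtain ⟨m, h6, h7⟩ := (isNE_inclusion hF hTF).deg_ratio c χ.2 d
    rw [range_inclusion_index] at h7
    rw [h6, deg_mul (char_linFun l) (irr_char h3), charDegree_eq (d := 1) (by simp [linFun_apply]),
      one_mul, ← deg_comp (Subgroup.inclusion (le_sup_left : K ≤ K ⊔ S)), h5] at b
    exact (hp.out.dvd_mul.mp b).elim
      (fun b => hS.not_dvd (b.trans (h7.trans (h1.relIndex_sup_dvd hS.le)))) hd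

omit hK hi in
include hKE in
theorem core_ext {η : (K ⊔ S : Subgroup Γ) → ℂ} (hη : IsCharacter _ η)
    (e : (fun k => η (Subgroup.inclusion le_sup_left k)) = θ)
    (hφ : SInv T E fun x => η (Subgroup.inclusion hEF x)) {W A : Subgroup Γ} (hW : E ≤ W)
    (hW' : W ≤ T) (hA : A ≤ T₀ ⊓ W) (hA' : A.relIndex (T₀ ⊓ W) = Nat.card (S ⊓ W : Subgroup Γ)) :
    ExtTo E.subtype (fun x => η (Subgroup.inclusion hEF x)) W ↔ ExtTo K.subtype θ (K ⊔ A) := by
  subst hT e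
  have hTK := (nrm_self K).sup h1
  have hB : K ⊔ A ≤ W := sup_le (hKE.trans hW) (hA.trans inf_le_right)
  refine ⟨fun H => (H.of_res hKE hW).mono hB, fun H => ?_⟩
  have e1 : K ⊔ T₀ ⊓ W = W := by
    rw [← H1.sup_inf_eq_of_le_normalizer (hKE.trans hW) h1.le_normalizer, inf_eq_right.mpr hW']
  have h3 : E ≤ K ⊔ S ⊓ W := hE ▸ sup_le_sup_left (le_inf (Subgroup.commutator_le_self _)
    ((hE ▸ le_sup_right : ⁅S, S⁆ ≤ E).trans hW)) _
  have h4 : K ⊔ S ⊓ W ≤ K ⊔ S := sup_le_sup_left inf_le_left _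
  have h5 := h1.mono (inf_le_left : T₀ ⊓ W ≤ T₀)
  refine extTo_of_compl hKE h3 (sup_le (hKE.trans hW) inf_le_right) le_sup_left hB (hTK.mono hW')
    (Nrm.mono (hE ▸ (nrm_of_le le_sup_left).sup (h1.sup_right (nrm_iff.mpr
      (H1.le_normalizer_commutator h2.le_normalizer h2.le_normalizer)))) hW') (fun a => ?_)
    (fun q hq a => ?_) (fun q => (h1.mono hS.le).eq_of_dvd hS.isPGroup hEF)
    (char_comp (Subgroup.inclusion h4) hη) hθ (hφ.mono hW') H
  · nth_rw 2 [← e1] at a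
    have := a.trans (h5.relIndex_sup_dvd (inf_le_inf_right W hS.le))
    rw [show S ⊓ W = S ⊓ (T₀ ⊓ W) by rw [← inf_assoc, inf_eq_left.mpr hS.le],
      Subgroup.inf_relIndex_right] at this
    exact hS.not_dvd (this.trans (h2.relIndex_dvd inf_le_left))
  · nth_rw 1 [← e1] at a
    exact eq_of_dvd_card (hS.isPGroup.to_le inf_le_left) hq (hA' ▸ a.trans (h5.relIndex_sup_dvd hA))

end Core

theorem cnt_core {K S C T₀ T : Subgroup Γ} (hS : H4.IsSylowIn p S T₀) (hK : ¬ p ∣ Nat.card K)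
    (h : CopAct S K C) (h1 : Nrm T₀ K) (h2 : Nrm T₀ S) (hT : K ⊔ T₀ = T) (hC : K ⊓ T₀ = C)
    {θ : K → ℂ} (hθ : IsIrrCharacter K θ) (hi : SInv T₀ K θ) {β : C → ℂ} (hβ : IsIrrCharacter C β)
    (e : PCong p (fun c => θ (Subgroup.inclusion h.le c)) β) (k : K ≤ T) (k' : C ≤ T₀) :
    cnt p False k θ = cnt p False k' β := by
  have h1' : Nrm T₀ C := hC ▸ h1.inf_right (nrm_self _)
  have hi' := PCong.sInv_right hp.out h1 h1' hi hβ e
  have hC' : ¬ p ∣ Nat.card C := fun a => hK (a.trans (Subgroup.card_dvd_of_le h.le))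
  have hS' : ⁅S, S⁆ ≤ S := Subgroup.commutator_le_self _
  have hT₀ : T₀ ≤ T := hT ▸ le_sup_right
  have a1 : K ⊔ ⁅S, S⁆ ≤ T := sup_le k (hS'.trans (hS.le.trans hT₀))
  have a2 : C ⊔ ⁅S, S⁆ ≤ T₀ := sup_le k' (hS'.trans hS.le)
  have a3 : (K ⊔ ⁅S, S⁆) ⊓ T₀ = C ⊔ ⁅S, S⁆ := by
    rw [H1.sup_inf_eq_of_le_normalizer' (hS'.trans hS.le)
      (h1.mono (hS'.trans hS.le)).le_normalizer, hC]
  have n0 : Nrm T₀ ⁅S, S⁆ := nrm_iff.mpr
    (H1.le_normalizer_commutator h2.le_normalizer h2.le_normalizer)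
  have n1 : Nrm T (K ⊔ ⁅S, S⁆) := hT ▸ (nrm_of_le le_sup_left).sup (h1.sup_right n0)
  obtain ⟨η, b1, b2, b3, b4⟩ := core_count hS hK h1 h2 hT rfl hθ hi le_sup_left
    (sup_le_sup_left hS' _) a1
  obtain ⟨ζ, c1, c2, c3, c4⟩ := core_count hS hC' h1' h2 (sup_eq_right.mpr k') rfl hβ hi' le_sup_left
    (sup_le_sup_left hS' _) a2
  haveI := n1.normal_subgroupOf
  let σ := QuotientGroup.mk' ((K ⊔ ⁅S, S⁆).subgroupOf T)
  have hf := isNE_inclusion a1 n1
  have hf' := isNE_inclusion a2 (h1'.sup_right n0)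
  refine b4.trans (Eq.trans ?_ c4.symm)
  refine card_over_eq hf (irr_of_irr_comp (Subgroup.inclusion le_sup_left) (char_comp _ b1)
    (b2 ▸ hθ)) ((inv_inclusion_iff _ hf _).mpr b3) (σ := σ) (QuotientGroup.mk'_surjective _)
    (by rw [QuotientGroup.ker_mk', Subgroup.inclusion_range]) hf'
    (irr_of_irr_comp (Subgroup.inclusion le_sup_left) (char_comp _ c1) (c2 ▸ hβ))
    ((inv_inclusion_iff _ hf' _).mpr c3) (σ' := σ.comp (Subgroup.inclusion hT₀)) (fun q => ?_)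
    ?_ fun A hA => ?_
  · obtain ⟨x, rfl⟩ := QuotientGroup.mk_surjective q
    obtain ⟨a, ha, b, hb, e⟩ := h1.mem_sup.mp (hT.ge x.2)
    refine ⟨⟨b, hb⟩, QuotientGroup.eq.mpr (Subgroup.mem_sup_left ?_)⟩
    simpa [e, mul_assoc] using h1 _ (inv_mem hb) a ha
  · ext x
    rw [Subgroup.inclusion_range, Subgroup.mem_subgroupOf, ← a3, Subgroup.mem_inf,
      and_iff_left x.2]
    exact QuotientGroup.eq_one_iff _
  rw [extTo_map, extTo_map]
  set W := (A.comap σ).map T.subtype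
  have hW : W ≤ T := Subgroup.map_subtype_le _
  have e1 : (A.comap (σ.comp (Subgroup.inclusion hT₀))).map T₀.subtype = T₀ ⊓ W := by
    ext x
    exact ⟨by rintro ⟨y, hy, rfl⟩; exact ⟨y.2, _, hy, rfl⟩,
      by rintro ⟨hx, y, hy, rfl⟩; exact ⟨⟨y, hx⟩, hy, rfl⟩⟩
  have hEW : K ⊔ ⁅S, S⁆ ≤ W := fun x hx => ⟨⟨x, a1 hx⟩, by
    rw [SetLike.mem_coe, Subgroup.mem_comap, show σ ⟨x, a1 hx⟩ = 1 from
      (QuotientGroup.eq_one_iff _).mpr hx]
    exact one_mem _, rfl⟩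
  have hWW : ⁅W, W⁆ ≤ K ⊔ ⁅S, S⁆ := Subgroup.commutator_le.mpr <| by
    rintro _ ⟨x, hx, rfl⟩ _ ⟨y, hy, rfl⟩
    refine (QuotientGroup.eq_one_iff (N := (K ⊔ ⁅S, S⁆).subgroupOf T) ⁅x, y⁆).mp ?_
    change σ _ = 1
    rw [map_commutatorElement, commutatorElement_eq_one_iff_mul_comm]
    exact congrArg Subtype.val (hA.1.1 ⟨_, hx⟩ ⟨_, hy⟩)
  have d0 : ¬ p ∣ (S ⊓ W).relIndex (T₀ ⊓ W) := fun a => by
    rw [show S ⊓ W = S ⊓ (T₀ ⊓ W) by rw [← inf_assoc, inf_eq_left.mpr hS.le],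
      Subgroup.inf_relIndex_right] at a
    exact hS.not_dvd (a.trans (h2.relIndex_dvd inf_le_left))
  obtain ⟨B, d1, -, -, d2, d3⟩ := H1.exists_complement_in (S ⊓ W) (T₀ ⊓ W)
    (inf_le_inf_right _ hS.le) ((h2.mono inf_le_left).inf_right (nrm_of_le inf_le_right)).le_normalizer
    (Nat.coprime_of_dvd fun q hq a b =>
      d0 (eq_of_dvd_card (hS.isPGroup.to_le inf_le_left) hq a ▸ b))
  have e2 : T₀ ⊓ (T₀ ⊓ W) = T₀ ⊓ W := by rw [← inf_assoc, inf_idem]
  have e3 : S ⊓ (T₀ ⊓ W) = S ⊓ W := by rw [← inf_assoc, inf_eq_left.mpr hS.le]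
  rw [e1]
  refine (core_ext hS h1 h2 hT rfl hθ le_sup_left _ b1 b2 b3 hEW hW d1 d3).trans (Iff.trans ?_
    (core_ext hS h1' h2 (sup_eq_right.mpr k') rfl hβ le_sup_left _ c1 c2 c3 (W := T₀ ⊓ W)
      (le_inf a2 ((sup_le_sup_right h.le _).trans hEW)) inf_le_left (A := B)
      (by rwa [e2]) (by rwa [e2, e3])).symm)
  have d4 := d1.trans inf_le_left
  refine okuyama_wajima hp.out hS.isPGroup (d2 ▸ d0) (h2.mono d4) _ rfl hK h (h1.mono d4)
    (fun x hx => ((nrm_self K).sup h.nrm).mem_of_coprime (sup_le_sup_left hS' _ (hWW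
      (Subgroup.commutator_mono (d1.trans inf_le_right) (d1.trans inf_le_right) hx)))
      (Nat.coprime_of_dvd fun q hq a b => d0 ?_)) hθ (hi.mono hS.le) hβ e
  rw [← d2, ← h.nrm.eq_of_dvd hS.isPGroup le_rfl hq b]
  exact a.trans (Subgroup.orderOf_dvd_natCard _ (Subgroup.commutator_le_self _ hx))

/-- The final step for a normal `p'`-subgroup `K` with `G = K N_G(S)`. -/
theorem cnt_glauberman {L K S U G : Subgroup Γ} (hS : H4.IsSylowIn p S G) (hK : ¬ p ∣ Nat.card K)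
    (hU : U = G ⊓ Subgroup.normalizer (S : Set Γ)) (hG : K ⊔ U = G) (hL : Nrm G L) (hn : Nrm G K)
    (h1 : L ≤ K) (h2 : L ≤ Subgroup.centralizer (S : Set Γ)) {ν : L → ℂ} (hν : IsIrrCharacter L ν)
    (hi : SInv G L ν) (k : L ≤ G) (k' : L ≤ U) : cnt p False k ν = cnt p False k' ν := by
  have hKG : K ≤ G := hG ▸ le_sup_left
  have hUG : U ≤ G := hG ▸ le_sup_right
  have h := copAct_of_pgroup hp.out hS.isPGroup hK (hn.mono hS.le)
  set C := K ⊓ Subgroup.centralizer (S : Set Γ)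
  have X := h.glP hp.out hS.isPGroup
  have hUS : Nrm U S := nrm_of_le_normalizer (hU ▸ inf_le_right)
  have hSU : S ≤ U := hU ▸ le_inf hS.le Subgroup.le_normalizer
  have hCU : C ≤ U := hU ▸ inf_le_inf hKG (H4.centralizer_le_normalizer' S)
  have hUK := hn.mono hUG
  have hUC : Nrm U C := hUK.inf_right hUS.cent
  have hC : K ⊓ U = C := le_antisymm (fun x hx => ⟨hx.1, fun s hs => by
    refine commutatorElement_eq_one_iff_mul_comm.mp (Subgroup.disjoint_def.mp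
      (Subgroup.disjoint_of_coprime_natCard h.cop) (K.mul_mem (h.nrm s hs x hx.1) (K.inv_mem hx.1)) ?_)
    simpa [commutatorElement_def, mul_assoc] using S.mul_mem hs (hUS x hx.2 _ (S.inv_mem hs))⟩)
    (le_inf h.le hCU)
  have hLC : L ≤ C := le_inf h1 h2
  haveI := finite_irr K
  haveI := finite_irr C
  let I := {x : IrrCharacter K × IrrCharacter C // SInv S K x.1 ∧ Ov h1 x.1 ν ∧
    PCong p (fun c => x.1.1 (Subgroup.inclusion h.le c)) x.2}
  have hc : ∀ i j : I, ∀ x ∈ U, Cj x i.1.1.1 j.1.1.1 ↔ Cj x i.1.2.1 j.1.2.1 := fun i j x hx => by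
    have e := i.2.2.2.comp (cjHom x (hUC x hx))
    rw [cj_iff (hUK x hx), cj_iff (hUC x hx)]
    refine ⟨fun a => PCong.unique hp.out ?_ j.2.2.2 (irr_cjHom _ _ i.1.2.2) j.1.2.2,
      fun a => X.inj _ _ _ (irr_cjHom _ _ i.1.1.2) (i.2.1.cjHom _ (hUS x hx)) j.1.1.2 j.2.1 j.1.2.2
        ?_ j.2.2.2⟩
    · rw [← a]; exact e
    · rw [← a]; exact e
  refine cnt_eq_of_index hS hUG hU.ge h1 hKG hLC hCU hL hn hUC False.elim hν hi (I := I)
    (fun i => i.1.1) (fun i => i.1.2) (fun i => ⟨i.1.1.2, i.2.2.1⟩) (fun i => i.2.1)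
    (fun μ a b _ d => ?_) (fun i => ⟨i.1.2.2, Ov.of_under (hL.mono hKG)
      (i.2.2.2.ip_ne_zero hp.out i.1.2.2) i.2.2.1 i.1.1.2 i.1.2.2 hν (hi.mono hKG)⟩)
    (fun i => sInv_of_centralizer h.le_centralizer _) (fun μ a _ _ d => ?_)
    (fun i j x hx => hc i j x (hU.ge hx)) fun i => ?_
  · obtain ⟨β, h3, h4⟩ := X.ex μ a b
    exact ⟨⟨(⟨μ, a⟩, ⟨β, h3⟩), b, d, h4⟩, rfl⟩
  · obtain ⟨θ, h3, h4, h5⟩ := X.surj μ a
    exact ⟨⟨(⟨θ, h3⟩, ⟨μ, a⟩), h4, Ov.trans (h5.ip_ne_zero hp.out a) d (irr_char h3) a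
      (irr_char hν), h5⟩, rfl⟩
  have hst : ∀ x ∈ U, x ∈ stab K i.1.1.1 ↔ x ∈ stab C i.1.2.1 := fun x hx =>
    ((mem_stab_iff (hUK x hx)).trans (cj_iff _).symm).trans
    ((hc i i x hx).trans ((mem_stab_iff (hUC x hx)).trans (cj_iff _).symm).symm)
  obtain ⟨⟨⟨θ, hθ⟩, β, hβ⟩, h3, h5, h4⟩ := i
  simp only at hst h3 h4 ⊢
  have e : U ⊓ stab K θ = U ⊓ stab C β := by
    ext x
    exact and_congr_right (hst x)
  have a1 : K ≤ stab K θ := le_stab_iff.mpr ⟨nrm_self K, sInv_self (irr_cf hθ)⟩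
  have a2 : C ≤ U ⊓ stab K θ := le_inf hCU (h.le.trans a1)
  have a3 : S ≤ U ⊓ stab K θ := le_inf hSU (le_stab_iff.mpr ⟨h.nrm, h3⟩)
  have a4 : U ⊓ stab K θ ≤ G ⊓ stab K θ := inf_le_inf_right _ hUG
  exact (cnt_clifford hp.out (le_inf hKG a1) inf_le_left hn hθ le_rfl (fun a => hS.not_dvd (a.trans
    (Subgroup.relIndex_dvd_of_le_left _ (a3.trans a4)))) False.elim).trans
    ((cnt_core (hS.of_le a3 (inf_le_left.trans hUG)) hK h (hUK.mono inf_le_left)
    (hUS.mono inf_le_left) (by rw [← H1.sup_inf_eq_of_le_normalizer a1 hUK.le_normalizer, hG])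
    (by rw [← inf_assoc, hC, inf_eq_left.mpr (h.le.trans a1)]) hθ
    (le_stab_iff.mp inf_le_right).2 hβ h4 _ a2).trans (cnt_clifford hp.out a2 inf_le_left hUC hβ
    e.ge (fun a => (hS.of_le hSU hUG).not_dvd (a.trans (Subgroup.relIndex_dvd_of_le_left _ a3)))
    False.elim).symm)

theorem cnt_eq_zero {L P G : Subgroup Γ} (h : L ≤ P) (h' : P ≤ G) (hL : Nrm G L)
    (hd : ∀ q : ℕ, q.Prime → q ∣ L.relIndex P → q = p) {ν : L → ℂ} (hν : IsIrrCharacter L ν)
    (hi : SInv G L ν) (H : ¬ p ∣ charDegree ν → ¬ ExtTo L.subtype ν P) :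
    cnt p False (h.trans h') ν = 0 := by
  refine Nat.card_eq_zero.mpr (Or.inl ⟨fun ⟨χ, h1, h2⟩ => ?_⟩)
  refine h1.1 (deg_comp (Subgroup.inclusion h') χ.1 ▸ dvd_deg_of_forall
    (char_comp _ (irr_char χ.2)) fun ψ h3 h4 => by_contra fun h5 =>
      H (fun a => h1.1 ((a.mul_left _).trans (h2.deg hL χ.2 hν))) ⟨ψ, irr_char h3, fun n _ => ?_⟩)
  exact congrFun (Ov.res_eq (h := h) (hL.mono h') hd h3 h5 hν (Ov.of_under hL h4 h2 χ.2 h3 hν hi)) n

theorem normalizer_sup_eq {L S G : Subgroup Γ} (hS : H4.IsSylowIn p S G) (h : L ≤ G)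
    (hL : Nrm G L) : G ⊓ Subgroup.normalizer ((L ⊔ S : Subgroup Γ) : Set Γ) =
      L ⊔ G ⊓ Subgroup.normalizer (S : Set Γ) := by
  refine le_antisymm (fun g hg => ?_) (sup_le (le_inf h (le_sup_left.trans Subgroup.le_normalizer))
    (le_inf inf_le_left ((hL.mono inf_le_left).sup_right
      (nrm_of_le_normalizer inf_le_right)).le_normalizer))
  have h1 := sup_le h hS.le
  obtain ⟨k, hk, n, hn, rfl⟩ := (hS.of_le le_sup_right h1).frattini_arg hg.2
  exact mul_mem (sup_le_sup_left (le_inf hS.le Subgroup.le_normalizer) _ hk)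
    (Subgroup.mem_sup_right ⟨(G.mul_mem_cancel_left (h1 hk)).mp hg.1, hn⟩)

theorem cnt_mckay_final {S L M Y G : Subgroup Γ} (h : L ≤ Y) (h' : Y ≤ G) (ν : L → ℂ)
    (hS : H4.IsSylowIn p S G) (hLM : L ≤ M) (hMG : M ≤ G) (hL : Nrm G L) (hM : Nrm G M)
    (ho : ¬ p ∣ L.relIndex M) (hY : Y = L ⊔ (G ⊓ Subgroup.normalizer (S : Set Γ)))
    (e : M ⊔ Y = G) (hν : IsIrrCharacter L ν) (hi : SInv G L ν) :
    cnt p False (h.trans h') ν = cnt p False h ν := by
  have hPY : L ⊔ S ≤ Y := hY ▸ sup_le_sup_left (le_inf hS.le Subgroup.le_normalizer) _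
  have hPG := hPY.trans h'
  have hd := fun q => (hL.mono hS.le).eq_of_dvd (q := q) hS.isPGroup le_rfl
  by_cases H : ¬ p ∣ charDegree ν → ¬ ExtTo L.subtype ν (L ⊔ S)
  · exact (cnt_eq_zero le_sup_left hPG hL hd hν hi H).trans
      (cnt_eq_zero le_sup_left hPY (hL.mono h') hd hν (hi.mono h') H).symm
  simp only [Classical.not_imp, not_not] at H
  obtain ⟨h0, η, h1, h2⟩ := H
  have hf := isNE_inclusion (h.trans h') hL
  obtain ⟨E, Q, _, _, _, _, π, q, θ', Z, lam, X, hZ⟩ := hf.exists_ct' hν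
    ((inv_inclusion_iff _ hf ν).mpr hi) (k := Subgroup.inclusion le_sup_left)
    (Subgroup.inclusion_injective hPG) (fun _ => rfl) h1 fun n => h2 n _
  have cor : ∀ {T : Subgroup Γ}, L ≤ T → ∃ U : Subgroup Q, (T.subgroupOf G).comap π = U.comap q :=
    fun a => X.exists_cor_right _ (by
      rw [Subgroup.inclusion_range]; exact Subgroup.subgroupOf_mono _ a)
  obtain ⟨K, cK⟩ := cor hLM
  obtain ⟨P, cP⟩ := cor (le_sup_left : L ≤ L ⊔ S)
  obtain ⟨U, cU⟩ := cor h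
  have cZ := X.comap_eq
  rw [Subgroup.inclusion_range] at cZ
  have cT : (⊤ : Subgroup G).comap π = (⊤ : Subgroup Q).comap q := rfl
  have hi' : ¬ p ∣ (L ⊔ S).relIndex G := fun a => hS.not_dvd (a.trans
    (Subgroup.relIndex_dvd_of_le_left _ le_sup_right))
  have hZ' : ¬ p ∣ Nat.card Z := fun a => by
    obtain ⟨z, hz⟩ := exists_prime_orderOf_dvd_card' p a
    exact hi' (range_inclusion_index hPG ▸ hz ▸ orderOf_dvd_of_pow_eq_one (hZ z))
  obtain ⟨R, hR⟩ := H4.IsSylowIn.exists_isSylowIn p P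
  have hR' : H4.IsSylowIn p R ⊤ := ⟨le_top, hR.isPGroup, fun a => by
    rw [← Subgroup.relIndex_mul_relIndex _ _ _ hR.le le_top, Subgroup.relIndex_top_right,
      ← X.index_of_cor cP] at a
    exact (hp.out.dvd_mul.mp a).elim hR.not_dvd hi'⟩
  haveI := X.normal_Z
  have nZ : Nrm ⊤ Z := fun g _ z hz => ‹Z.Normal›.conj_mem z hz g
  have hZR : Z ≤ Subgroup.centralizer (R : Set Q) := X.cen.trans (Subgroup.center_le_centralizer _)
  have hP : Z ⊔ R = P := le_antisymm (sup_le (X.Z_le_of_cor cP) hR.le) fun x hx => by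
    obtain ⟨k, hk, -, s, hs, rfl⟩ := hR.exists_mul_eq_of_forall_coprime (K := Z) (fun y hy hc =>
      (nZ.mono le_top).mem_of_coprime hy (Nat.coprime_of_dvd fun r hr a b => by
        rw [← X.relIndex_of_cor cZ cP, Subgroup.relIndex_subgroupOf hPG] at b
        exact hp.out.coprime_iff_not_dvd.mp hc.symm (hd r hr b ▸ a))) hx
    exact Subgroup.mul_mem_sup hk hs
  have hU : U = ⊤ ⊓ Subgroup.normalizer (R : Set Q) := by
    rw [← sup_eq_right.mpr (le_inf le_top (hZR.trans (H4.centralizer_le_normalizer' R))),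
      ← normalizer_sup_eq hR' le_top nZ, hP, top_inf_eq, ← X.eq_iff_of_cor cU (X.normalizer_of_cor cP),
      ← Subgroup.subgroupOf_normalizer_eq hPG, hY, ← normalizer_sup_eq hS (h.trans h') hL,
      Subgroup.inf_subgroupOf_left]
  have nK := (X.normal_iff_of_cor cK).mp hM.normal_subgroupOf
  have key := cnt_glauberman hR' (K := K) (fun a => by
      rw [← H4.card_mul_relIndex (X.Z_le_of_cor cK), ← X.relIndex_of_cor cZ cK,
        Subgroup.relIndex_subgroupOf hMG] at a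
      exact (hp.out.dvd_mul.mp a).elim hZ' ho) hU
    ((X.eq_iff_of_cor (X.sup_of_cor cK cU) cT).mp (by
      rw [← Subgroup.subgroupOf_sup hMG h', e, Subgroup.subgroupOf_self])) nZ
    (fun g _ z hz => nK.conj_mem z hz g) (X.Z_le_of_cor cK) hZR (irr_linFun lam)
    (sInv_of_centralizer (X.cen.trans (Subgroup.center_le_centralizer _)) _) le_top
    (X.Z_le_of_cor cU)
  have deg : ∀ {H U : Type _} [Group H] [Group U] {ι : H →* G} {κ : U →* Q} (ψ : H → ℂ) (β : U → ℂ),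
      IsIrrCharacter H ψ → IsIrrCharacter U β → ctR π q θ' ι κ ψ β →
      (Gd p False ψ ↔ Gd p False β) := fun ψ β a b r => by
    have := X.degree r
    rw [char_one_eq (irr_char b), char_one_eq (irr_char hν), ← Nat.cast_mul] at this
    have h3 := charDegree_eq this
    simp only [Gd, false_imp_iff, and_true]
    rw [h3, hp.out.dvd_mul, or_iff_left h0]
  refine (X.card_eq (ι := MonoidHom.id G) (κ := (⊤ : Subgroup Q).subtype)
    ⟨fun _ _ a => a, Subgroup.subtype_injective _, by ext; simp⟩ (fun _ => rfl)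
    (z := Subgroup.inclusion le_top) (fun _ => rfl) _ _ deg).trans (key.trans
    (X.card_eq (ι := Subgroup.inclusion h') (κ := U.subtype) ⟨Subgroup.inclusion_injective _,
      Subgroup.subtype_injective _, by rwa [Subgroup.inclusion_range, Subgroup.range_subtype]⟩
      (k := Subgroup.inclusion h) (fun _ => rfl) (z := Subgroup.inclusion (X.Z_le_of_cor cU))
      (fun _ => rfl) _ _ deg).symm)

/-- The relative McKay equality for `p`-solvable groups. -/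
theorem cnt_mckay {S L H G : Subgroup Γ} (h : L ≤ H) (h' : H ≤ G) {ν : L → ℂ}
    (hG : IsPSolvable p G) (hS : H4.IsSylowIn p S G)
    (hN : G ⊓ Subgroup.normalizer (S : Set Γ) ≤ H) (hL : Nrm G L) (hν : IsIrrCharacter L ν)
    (hi : SInv S L ν) : cnt p False (h.trans h') ν = cnt p False h ν :=
  cnt_eq_of_final False.elim (fun h h' ν a b c d e f g i j k _ =>
    cnt_mckay_final h h' ν a b c d e f g i j k) _ h h' ν rfl hG hS hN hL hν hi False.elim

omit hp in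
/-- The equality for real characters of odd degree. -/
theorem cnt_real {S L H G : Subgroup Γ} (h : L ≤ H) (h' : H ≤ G) {ν : L → ℂ}
    (hG : IsPSolvable 2 G) (hS : H4.IsSylowIn 2 S G)
    (hN : G ⊓ Subgroup.normalizer (S : Set Γ) ≤ H) (hL : Nrm G L) (hν : IsIrrCharacter L ν)
    (hi : SInv S L ν) (hr : ∀ g, (ν g).im = 0) : cnt 2 True (h.trans h') ν = cnt 2 True h ν :=
  cnt_eq_of_final (fun _ => rfl) (fun h h' ν _ b c d e f _ i j k l =>
    cnt_real_final h h' ν b c d e f i j k (l trivial)) _ h h' ν rfl hG hS hN hL hν hi fun _ => hr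

omit hp in
theorem cnt_top (r : Prop) {L : Subgroup Γ} (ν : L → ℂ) : cnt p r (le_top : L ≤ ⊤) ν =
    Nat.card {χ : IrrCharacter Γ // Gd p r (χ : Γ → ℂ) ∧ ip (fun l : L => (χ : Γ → ℂ) l) ν ≠ 0} := by
  refine card_eq_of_rel (fun ψ χ => ψ.1.1 = fun x : (⊤ : Subgroup Γ) => χ.1.1 x) ?_ ?_ ?_ ?_
  · rintro ⟨ψ, h1, h2⟩
    let j : Γ →* (⊤ : Subgroup Γ) := (MonoidHom.id Γ).codRestrict ⊤ fun _ => trivial
    exact ⟨⟨⟨fun x => ψ.1 (j x), irr_comp_surjective j (fun x => ⟨x, rfl⟩) ψ.2⟩,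
      ⟨(deg_comp j ψ.1).symm ▸ h1.1, fun a g => h1.2 a _⟩, h2⟩, rfl⟩
  · rintro ⟨χ, h1, h2⟩
    exact ⟨⟨⟨fun x => χ.1 x, irr_comp_surjective (⊤ : Subgroup Γ).subtype
      (fun x => ⟨⟨x, trivial⟩, rfl⟩) χ.2⟩, ⟨h1.1, fun a g => h1.2 a _⟩, h2⟩, rfl⟩
  · rintro ψ χ χ' e e'
    exact Subtype.ext (Subtype.ext (funext fun x => congrFun (e.symm.trans e') ⟨x, trivial⟩))
  · rintro ψ ψ' χ e e'
    exact Subtype.ext (Subtype.ext (e.trans e'.symm))

end Ambient

end Cfsg.Agent.H7
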