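import Cfsg.Agent.H7.M6
import Cfsg.Agent.H7.McKay2
import Cfsg.Agent.H4.Small
import Cfsg.Agent.H4.PComp

/-! Characters of degree divisible by `p` and the Sylow `p`-subgroups. -/

namespace Cfsg.Agent.H7

open Subgroup
open scoped ComplexConjugate commutatorElement

variable {G : Type*} [Group G] [Finite G] {p : ℕ} [hp : Fact p.Prime]

theorem m9_exists_constituent {φ : G → ℂ} (hφ : IsCharacter G φ) (h : ¬ p ∣ charDegree φ) :
    ∃ ψ, IsIrrCharacter G ψ ∧ ip φ ψ ≠ 0 ∧ ¬ p ∣ charDegree ψ := by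
  classical
  by_contra hc
  push Not at hc
  choose! m hm using fun ψ (hψ : IsIrrCharacter G ψ) => ip_char_nat hφ (irr_char hψ)
  have : charDegree φ = ∑ ψ ∈ irrSet G, m ψ * charDegree ψ := by
    apply Nat.cast_injective (R := ℂ)
    rw [← char_one_eq hφ]
    conv_lhs => rw [cf_expand (char_cf hφ)]
    rw [Finset.sum_apply, Nat.cast_sum]
    refine Finset.sum_congr rfl fun ψ hψ => ?_
    rw [Pi.smul_apply, smul_eq_mul, hm ψ (mem_irrSet.1 hψ), m4_deg (mem_irrSet.1 hψ), Nat.cast_mul]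
  refine h (this ▸ Finset.dvd_sum fun ψ hψ => ?_)
  by_cases h0 : ip φ ψ = 0
  · rw [hm ψ (mem_irrSet.1 hψ), Nat.cast_eq_zero] at h0
    simp [h0]
  · exact (hc ψ (mem_irrSet.1 hψ) h0).mul_left _

theorem m9_one_of_not_dvd (hG : IsPGroup p G) {χ : G → ℂ} (hχ : IsIrrCharacter G χ)
    (h : ¬ p ∣ charDegree χ) : χ 1 = 1 := by
  by_contra h1
  exact h (m4_dvd_deg hG hχ h1)

theorem m9_comm (hG : IsPSolvable p G)
    (h : ∀ χ : G → ℂ, IsIrrCharacter G χ → ¬ p ∣ charDegree χ) {R : Subgroup G}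
    (hR : IsPGroup p R) {a b : G} (ha : a ∈ R) (hb : b ∈ R) : a * b = b * a := by
  obtain ⟨P, hP⟩ := hR.exists_le_sylow
  haveI := sylow_normal_of_not_dvd _ rfl hG h P
  have hf := isNE_subtype (P : Subgroup G)
  have := (H6.comm_iff_forall_degree_one (G := (P : Subgroup G))).2 (fun θ hθ => by
    obtain ⟨χ, hχ, h1⟩ := exists_irr_over hf.inj hθ
    exact m9_one_of_not_dvd P.isPGroup' hθ fun h2 => h χ hχ (h2.trans ((Dvd.intro_left _ rfl).trans
      (hf.degree_dvd_of_under hχ hθ h1 (m4_deg hχ) (m4_deg hθ))))) ⟨a, hP ha⟩ ⟨b, hP hb⟩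
  exact congrArg Subtype.val this

theorem m9_comm_le (hG : IsPSolvable p G) {N : Subgroup G} [hN : N.Normal] (hNp : IsPGroup p N)
    (hab : ∀ a b : N, a * b = b * a) (h0 : N ≠ ⊥)
    (h : ∀ χ : G → ℂ, IsIrrCharacter G χ → p ∣ charDegree χ → N ≤ H6.charKer χ) {R : Subgroup G}
    (hR : IsPGroup p R) {a b : G} (ha : a ∈ R) (hb : b ∈ R) : ⁅a, b⁆ ∈ N := by
  have hf := isNE_subtype N
  obtain ⟨χ₀, hχ₀, h1⟩ := H6.exists_irr_not_le_charKer h0
  obtain ⟨θ, hθ, h2⟩ := exists_irr_under N.subtype hχ₀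
  have hθ1 := irr_one_eq_one_of_comm hab hθ
  have h3 : ∀ χ, IsIrrCharacter G χ → ip (fun n => χ (N.subtype n)) θ ≠ 0 →
      ¬ p ∣ charDegree χ := by
    intro χ hχ a1 a2
    have a3 : (fun n => χ (N.subtype n)) = χ 1 • (1 : N → ℂ) := funext fun n => by
      simpa using H6.apply_eq_of_mem_charKer (h χ hχ a2 n.2)
    rw [a3, ip_smul_left] at a1
    rw [← irr_eq_of_ip_ne_zero irr_one hθ (right_ne_zero_of_mul a1)] at h2
    exact h1 fun n hn => (H6.mem_charKer_iff_irr hχ₀).2 (hf.apply_eq_one_of_ip_one hχ₀ h2 ⟨n, hn⟩)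
  let T := hf.inertia θ
  let k := N.subtype.codRestrict T (hf.apply_mem_inertia (irr_cf hθ))
  have hk : IsNE k := isNE_codRestrict hf T _
  have h4 : ∀ ψ, IsIrrCharacter T ψ → ip (fun n => ψ (k n)) θ ≠ 0 →
      ¬ p ∣ T.index * charDegree ψ := by
    intro ψ hψ a1
    have b1 := hf.corr_irr T.subtype_injective (fun _ => rfl) hθ (range_subtype T).ge hψ a1
    have b2 := hf.corr_ip T.subtype_injective (fun _ => rfl) hθ (range_subtype T).ge hψ a1
    have := h3 _ b1 (b2 ▸ a1)
    rwa [deg_ind T.subtype_injective (irr_char hψ), range_subtype] at this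
  obtain ⟨ψ, hψ, h5⟩ := exists_irr_over hk.inj hθ
  have hinv := hf.inv_inertia (irr_cf hθ)
  obtain ⟨ξ, hξ, h6⟩ := hk.exists_ext_of_local' hθ hinv (d := 1) (by simpa using hθ1) (by
    intro q hq _ a1
    obtain ⟨n, hn⟩ := IsPGroup.iff_card.1 hNp
    rw [mul_one] at a1
    obtain rfl : q = p := (Nat.prime_dvd_prime_iff_eq hq hp.out).1
      (hq.dvd_of_dvd_pow (hn ▸ a1.trans (detOrder_dvd_card θ)))
    obtain ⟨P⟩ : Nonempty (Sylow q T) := inferInstance
    haveI := hk.normal
    have a2 : k.range ≤ P := (hNp.of_surjective k.rangeRestrict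
      k.rangeRestrict_surjective).le_sylow_of_normal P
    obtain ⟨η, hη, a3, a4⟩ := m9_exists_constituent (p := q)
      (char_comp (P : Subgroup T).subtype (irr_char hψ))
      (by rw [deg_comp]; exact fun h => h4 ψ hψ h5 (h.mul_left _))
    refine ⟨P, fun n => a2 ⟨n, rfl⟩, η, P.not_dvd_index, irr_char hη, ?_⟩
    let j := k.codRestrict (P : Subgroup T) fun n => a2 ⟨n, rfl⟩
    have a5 : IsIrrCharacter N fun n => η (j n) := irr_of_char_one (char_comp j (irr_char hη))
      (by rw [map_one]; exact m9_one_of_not_dvd P.isPGroup' hη a4)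
    have a6 := ip_comp_comp_ne_zero _ j (irr_char hψ) hη (irr_char a5) a3
      (by rw [ip_irr_self a5]; exact one_ne_zero)
    have a7 : (fun n => ψ ((P : Subgroup T).subtype (j n))) = _ := hk.clifford_inv hψ hθ hinv h5
    rw [a7, ip_smul_left] at a6
    exact congrFun (irr_eq_of_ip_ne_zero hθ a5 (right_ne_zero_of_mul a6)).symm)
  haveI := hk.normal
  have h7 : IsIrrCharacter N fun n => ξ (k n) := by rw [funext h6]; exact hθ
  have h8 : ∀ β, IsIrrCharacter (T ⧸ k.range) β → ¬ p ∣ charDegree β := by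
    intro β hβ a1
    have a2 := gallagher_irr (QuotientGroup.mk'_surjective k.range) (QuotientGroup.ker_mk' _)
      (irr_char hξ) h7 hβ
    refine h4 _ a2 ?_ (Dvd.dvd.mul_left ?_ _)
    · rw [gallagher_res (QuotientGroup.ker_mk' _), funext h6, ip_smul_left, ip_irr_self hθ, mul_one]
      exact m4_one_ne hβ
    · rw [deg_mul (char_comp _ (irr_char hβ)) (irr_char hξ), deg_comp]
      exact a1.mul_right _
  obtain ⟨g, hg⟩ := exists_conj_le_of_not_dvd_index hp.out hR (H := T)
    fun h => h4 ψ hψ h5 (h.mul_right _)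
  let φ : R →* T ⧸ k.range := (QuotientGroup.mk' _).comp
    ((((MulAut.conj g⁻¹).toMonoidHom).comp R.subtype).codRestrict T fun r => by
      simpa using hg r r.2)
  have h9 := m9_comm (H1.isPSolvable_quotient hp.out (H1.isPSolvable_subgroup hp.out hG T) _) h8
    (hR.of_surjective φ.rangeRestrict φ.rangeRestrict_surjective) ⟨⟨a, ha⟩, rfl⟩ ⟨⟨b, hb⟩, rfl⟩
  rw [← commutatorElement_eq_one_iff_mul_comm, ← map_commutatorElement] at h9
  obtain ⟨n, hn⟩ := (QuotientGroup.eq_one_iff _).1 h9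
  have e : (n : G) = g⁻¹ * ⁅a, b⁆ * g⁻¹⁻¹ := congrArg Subtype.val hn
  have := hN.conj_mem _ n.2 g
  rw [e] at this
  simpa [mul_assoc] using this

omit hp in
theorem m9_card_eq (N : Subgroup G) [N.Normal] :
    Nat.card {χ : IrrCharacter (G ⧸ N) // p ∣ charDegree χ.1} =
      {χ : IrrCharacter G | p ∣ charDegree χ.1 ∧ N ≤ H6.charKer χ.1}.ncard := by
  refine Nat.card_congr (Equiv.ofBijective (fun χ => ⟨⟨_, H6.isIrr_inflate N χ.1.2⟩,
    χ.2, H6.le_charKer_inflate N _⟩) ⟨fun a b h => ?_, ?_⟩)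
  · refine Subtype.ext (Subtype.ext (funext fun q => ?_))
    obtain ⟨g, rfl⟩ := QuotientGroup.mk_surjective q
    exact congrFun (congrArg (fun t => t.1.1) h) g
  · rintro ⟨⟨χ, hχ⟩, h1, h2⟩
    obtain ⟨ψ, hψ, rfl⟩ := H6.exists_irr_quotient N hχ h2
    exact ⟨⟨⟨ψ, hψ⟩, h1⟩, rfl⟩

universe u in
theorem s4768 (n : ℕ) : ∀ {G : Type u} [Group G] [Finite G], Nat.card G = n → IsPSolvable p G →
    ∀ P : Sylow p G, derivedSeries (P : Subgroup G)
      (Nat.card {χ : IrrCharacter G // p ∣ charDegree χ.1} + 1) = ⊥ := by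
  induction n using Nat.strong_induction_on with
  | _ n ih =>
  intro G _ _ hn hs P
  haveI := finite_irr G
  rcases subsingleton_or_nontrivial G with hG | hG
  · exact Subsingleton.elim _ _
  have key : ∀ (N : Subgroup G) [N.Normal], N ≠ ⊥ → derivedSeries (P : Subgroup G)
      ({χ : IrrCharacter G | p ∣ charDegree χ.1 ∧ N ≤ H6.charKer χ.1}.ncard + 1) ≤
        N.subgroupOf P := by
    intro N _ h0
    have h1 := ih _ (hn ▸ H2.card_quotient_lt_of_ne_bot h0) rfl
      (H1.isPSolvable_quotient hp.out hs N) (P.mapSurjective (QuotientGroup.mk'_surjective N))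
    rw [m9_card_eq] at h1
    have h2 := (map_derivedSeries_le_derivedSeries
      ((QuotientGroup.mk' N).subgroupMap P) _).trans h1.le
    intro x hx
    have := mem_bot.1 (h2 (mem_map_of_mem _ hx))
    exact (QuotientGroup.eq_one_iff (x : G)).1 (congrArg Subtype.val this)
  have hle : ∀ N : Subgroup G, {χ : IrrCharacter G | p ∣ charDegree χ.1 ∧ N ≤ H6.charKer χ.1} ⊆
      {χ : IrrCharacter G | p ∣ charDegree χ.1} := fun N χ h => h.1
  change derivedSeries _ ({χ : IrrCharacter G | p ∣ charDegree χ.1}.ncard + 1) = ⊥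
  obtain ⟨M, hM, h0, hc⟩ := ((H1.isPSolvable_iff hp.out).mp hs).exists_normal (H1.piSep_dvd _)
  rcases hc with hc | hc
  swap
  · rw [H1.isPiNum_compl_singleton_iff hp.out] at hc
    rw [eq_bot_iff]
    refine (derivedSeries_antitone _ (Nat.succ_le_succ (Set.ncard_le_ncard (hle M)))).trans
      ((key M h0).trans ?_)
    rw [le_bot_iff, subgroupOf_eq_bot, disjoint_iff, inf_comm]
    exact inf_eq_bot_of_coprime (H2.card_coprime_of_isPGroup_of_coprime P.isPGroup' hc)
  replace hc := H1.isPGroup_iff_isPiNum.mpr hc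
  let N := (center M).map M.subtype
  haveI : N.Normal := ConjAct.normal_of_characteristic_of_normal
  have hN0 : N ≠ ⊥ := by
    rw [Ne, map_eq_bot_iff_of_injective _ M.subtype_injective]
    haveI := (nontrivial_iff_ne_bot M).2 h0
    exact (nontrivial_iff_ne_bot _).1 hc.center_nontrivial
  have hab : ∀ a ∈ N, ∀ b ∈ N, a * b = b * a := by
    rintro _ ⟨a, ha, rfl⟩ _ ⟨b, -, rfl⟩
    exact congrArg Subtype.val (mem_center_iff.1 ha b).symm
  have step : ∀ k, derivedSeries (P : Subgroup G) k ≤ N.subgroupOf P →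
      derivedSeries (P : Subgroup G) (k + 1) = ⊥ := by
    intro k hk
    rw [derivedSeries_succ, eq_bot_iff, commutator_le]
    intro a ha b hb
    rw [mem_bot, commutatorElement_eq_one_iff_mul_comm]
    exact Subtype.ext (hab _ (hk ha) _ (hk hb))
  by_cases h : ∀ χ : G → ℂ, IsIrrCharacter G χ → p ∣ charDegree χ → N ≤ H6.charKer χ
  · rcases Set.eq_empty_or_nonempty {χ : IrrCharacter G | p ∣ charDegree χ.1} with h1 | h1
    · rw [h1, Set.ncard_empty, derivedSeries_succ, eq_bot_iff, commutator_le]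
      intro a _ b _
      rw [mem_bot, commutatorElement_eq_one_iff_mul_comm]
      exact Subtype.ext (m9_comm hs (fun χ hχ h2 => (Set.eq_empty_iff_forall_notMem.1 h1) ⟨χ, hχ⟩ h2)
        P.isPGroup' a.2 b.2)
    · rw [eq_bot_iff, ← step 1 (by
        rw [derivedSeries_one, _root_.commutator_def, commutator_le]
        intro a _ b _
        exact m9_comm_le hs (hc.to_le (map_subtype_le _))
          (fun a b => Subtype.ext (hab _ a.2 _ b.2)) hN0 h P.isPGroup' a.2 b.2)]
      exact derivedSeries_antitone _ (Nat.succ_le_succ ((Set.ncard_pos).2 h1))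
  · push Not at h
    obtain ⟨χ, h1, h2, h3⟩ := h
    rw [eq_bot_iff, ← step _ (key N hN0)]
    exact derivedSeries_antitone _ (Nat.succ_le_succ (Set.ncard_lt_ncard
      ⟨hle N, fun h => h3 (@h ⟨χ, h1⟩ h2).2⟩))

theorem m9_mckay (hG : IsPSolvable p G) (P : Sylow p G) :
    Nat.card {χ : IrrCharacter G // ¬ p ∣ charDegree χ.1} =
      Nat.card {χ : IrrCharacter (normalizer ((P : Subgroup G) : Set G)) //
        ¬ p ∣ charDegree χ.1} := by
  have hb : ∀ {H : Type _} [Group H] [Finite H] (f : (⊥ : Subgroup G) →* H) {χ : H → ℂ},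
      IsIrrCharacter H χ → ip (fun n => χ (f n)) 1 ≠ 0 := by
    intro H _ _ f χ hχ
    rw [ip_one_of_vanish fun g hg => absurd (Subsingleton.elim _ _) hg, map_one]
    exact mul_ne_zero (inv_ne_zero (card_ne_zero' _)) (m4_one_ne hχ)
  have h1 := cnt_mckay bot_le le_top (H1.isPSolvable_subgroup hp.out hG ⊤)
    (H4.IsSylowIn.sylow_top P) inf_le_right (fun g _ x hx => normal_bot.conj_mem x hx g) irr_one
    fun _ _ _ _ _ => rfl
  rw [cnt_top] at h1
  replace h1 := (Nat.card_congr (Equiv.subtypeEquivRight fun χ => (and_iff_left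
    (hb (⊥ : Subgroup G).subtype χ.2)).symm)).trans (h1.trans (Nat.card_congr
      (Equiv.subtypeEquivRight fun χ => and_iff_left (hb _ χ.2))))
  simpa only [Gd, false_imp_iff, and_true] using h1

theorem m9_classes (P : Sylow p G) (h : normalizer ((P : Subgroup G) : Set G) ≤
    centralizer ((P : Subgroup G) : Set G)) :
    Nat.card {C : ConjClasses G // ¬ p ∣ Nat.card C.carrier} =
      Nat.card (ConjClasses (normalizer ((P : Subgroup G) : Set G))) := by
  have h1 : ∀ g : G, Nat.card (ConjClasses.mk g).carrier = (centralizer {g}).index :=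
    H4.ncard_carrier_mk
  symm
  refine Nat.card_congr (Equiv.ofBijective (fun C => ⟨C.map (Subgroup.subtype _), ?_⟩) ⟨?_, ?_⟩)
  · obtain ⟨x, rfl⟩ := ConjClasses.mk_surjective C
    change ¬ p ∣ Nat.card (ConjClasses.mk x.1).carrier
    rw [h1]
    refine fun h2 => P.not_dvd_index (h2.trans (index_dvd_of_le fun y hy => ?_))
    rw [mem_centralizer_singleton_iff]
    exact h x.2 y hy
  · intro C D e
    obtain ⟨x, rfl⟩ := ConjClasses.mk_surjective C
    obtain ⟨y, rfl⟩ := ConjClasses.mk_surjective D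
    have e' : IsConj x.1 y.1 := ConjClasses.mk_eq_mk_iff_isConj.1 (congrArg Subtype.val e)
    obtain ⟨g, hg⟩ := isConj_iff.1 e'
    obtain ⟨n, hn, e2⟩ := P.conj_eq_normalizer_conj_of_mem_centralizer x g⁻¹ (h x.2)
      (by rw [inv_inv, hg]; exact h y.2)
    rw [inv_inv, hg] at e2
    exact ConjClasses.mk_eq_mk_iff_isConj.2 (isConj_iff.2 ⟨⟨n, hn⟩⁻¹, Subtype.ext (by
      simpa using e2.symm)⟩)
  · rintro ⟨C, hC⟩
    obtain ⟨x, rfl⟩ := ConjClasses.mk_surjective C
    rw [h1] at hC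
    obtain ⟨g, hg⟩ := exists_conj_le_of_not_dvd_index hp.out P.isPGroup' hC
    refine ⟨ConjClasses.mk ⟨g * x * g⁻¹, centralizer_le_normalizer _ fun y hy => ?_⟩,
      Subtype.ext (ConjClasses.mk_eq_mk_iff_isConj.2 (isConj_iff.2 ⟨g, rfl⟩).symm)⟩
    have := mem_centralizer_singleton_iff.1 (hg y hy)
    calc y * (g * x * g⁻¹) = g * (g⁻¹ * y * g * x) * g⁻¹ := by group
      _ = g * x * g⁻¹ * y := by rw [this]; group

theorem s4763 (hnil : ¬ Group.IsNilpotent G) (N : Subgroup G) [hN : N.Normal]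
    (hc : (Nat.card N).Coprime p) (hidx : ∃ k : ℕ, N.index = p ^ k)
    (hone : Nat.card {χ : IrrCharacter G // p ∣ charDegree χ.1} = 1) :
    Nat.card {C : ConjClasses G // p ∣ Nat.card C.carrier} = 1 := by
  classical
  have hQ : IsPGroup p (G ⧸ N) := IsPGroup.iff_card.2 hidx
  obtain ⟨P⟩ : Nonempty (Sylow p G) := inferInstance
  have hu : ∀ χ ψ, IsIrrCharacter G χ → IsIrrCharacter G ψ → p ∣ charDegree χ →
      p ∣ charDegree ψ → χ = ψ := fun χ ψ a b c d => congrArg (fun t => t.1.1)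
    ((Nat.card_eq_one_iff_unique.1 hone).1.elim ⟨⟨χ, a⟩, c⟩ ⟨⟨ψ, b⟩, d⟩)
  have hf := isNE_subtype N
  have hcop := H2.card_coprime_of_isPGroup_of_coprime P.isPGroup' hc
  have hab : commutator G ≤ N := by
    by_contra hab
    obtain ⟨χ, h1, h2, h3⟩ := m4_exists_nonlin N hab
    obtain ⟨β, hβ, rfl⟩ := H6.exists_irr_quotient N h1 h3
    have h4 : p ∣ charDegree β := m4_dvd_deg hQ hβ h2
    have h5 : ∀ ψ, IsIrrCharacter G ψ → p ∣ charDegree ψ → ∀ θ, IsIrrCharacter N θ →
        ip (fun n => ψ (N.subtype n)) θ ≠ 0 → θ = 1 := by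
      intro ψ a1 a2 θ a3 a4
      rw [hu ψ _ a1 h1 a2 h4] at a4
      have : (fun n => β (N.subtype n : G)) = β 1 • (1 : N → ℂ) := funext fun n => by
        simp [(QuotientGroup.eq_one_iff (n : G)).2 n.2]
      rw [this, ip_smul_left] at a4
      exact (irr_eq_of_ip_ne_zero irr_one a3 (right_ne_zero_of_mul a4)).symm
    refine hnil (IsPGroup.isNilpotent (p := p) ?_)
    suffices N = ⊥ by
      obtain ⟨k, hk⟩ := hidx
      rw [this, index_bot] at hk
      exact IsPGroup.of_card hk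
    rw [eq_bot_iff]
    intro n hn
    have : ∀ θ, IsIrrCharacter N θ → θ = 1 := by
      intro θ hθ
      by_cases hi : hf.Inv θ
      · obtain ⟨ξ, a1, a2, -⟩ := hf.exists_ext_of_hall (by
          obtain ⟨k, hk⟩ := hidx
          rw [range_subtype, hk]
          exact hc.symm.pow_left k) hθ hi (m4_deg hθ) (irr_degree_dvd_card hθ)
        have a3 : IsIrrCharacter N fun n => ξ (N.subtype n) := by rw [funext a2]; exact hθ
        have hker : (QuotientGroup.mk' N).ker = N.subtype.range := by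
          rw [QuotientGroup.ker_mk', range_subtype]
        refine h5 _ (gallagher_irr (QuotientGroup.mk'_surjective N) hker (irr_char a1) a3 hβ) ?_ θ
          hθ ?_
        · rw [deg_mul (char_comp _ (irr_char hβ)) (irr_char a1), deg_comp]
          exact h4.mul_right _
        · rw [gallagher_res hker, funext a2, ip_smul_left, ip_irr_self hθ, mul_one]
          exact m4_one_ne hβ
      · obtain ⟨ψ, a1, a2⟩ := exists_irr_over hf.inj hθ
        refine h5 ψ a1 (Dvd.dvd.trans ?_ ((Dvd.intro _ rfl).trans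
          (hf.degree_dvd_of_under a1 hθ a2 (m4_deg a1) (m4_deg hθ)))) θ hθ a2
        obtain ⟨k, hk⟩ := hidx
        have a3 : (hf.inertia θ).index ∣ p ^ k := by
          rw [← hk]
          exact index_dvd_of_le ((range_subtype N).ge.trans (hf.range_le_inertia (irr_cf hθ)))
        obtain ⟨j, -, hj⟩ := (Nat.dvd_prime_pow hp.out).1 a3
        rw [hj]
        refine dvd_pow_self p ?_
        rintro rfl
        exact hi (hf.inv_iff_inertia.2 (index_eq_one.1 hj))
    by_contra h0
    obtain ⟨θ, a1, a2⟩ := H6.exists_irr_not_mem_charKer (G := N) (g := ⟨n, hn⟩)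
      (fun h => h0 (congrArg Subtype.val h))
    exact a2 (by rw [this θ a1]; exact fun _ => rfl)
  have hNC : normalizer ((P : Subgroup G) : Set G) ≤ centralizer ((P : Subgroup G) : Set G) := by
    intro n hn x hx
    have h1 : ⁅x, n⁆ ∈ (P : Subgroup G) ⊓ N := mem_inf.2 ⟨by
      rw [commutatorElement_def, mul_assoc, mul_assoc, ← mul_assoc n]
      exact mul_mem hx ((mem_normalizer_iff.1 hn _).1 (inv_mem hx)), hab (m4_comm_mem x n)⟩
    rwa [inf_eq_bot_of_coprime hcop, mem_bot, commutatorElement_eq_one_iff_mul_comm] at h1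
  have h1 := m9_mckay (H4.isPSolvable_of_hasNPC (H4.hasNPC_iff_exists_normal.2 ⟨N, hN, hc, hQ⟩)) P
  have h2 := m9_classes P hNC
  rw [← H6.card_irr_eq_card_conjClasses] at h2
  rw [Nat.card_congr (Equiv.subtypeUnivEquiv (α := IrrCharacter (normalizer _)) fun χ h => by
    refine P.not_dvd_index (((h.trans (H6.degree_dvd_index_charCenter χ.2 (m4_deg χ.2))).trans
      (index_dvd_of_le (le_trans ?_ (H6.center_le_charCenter χ.2)))).trans
      (relIndex_dvd_index_of_le (le_normalizer (H := (P : Subgroup G)))))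
    intro x hx
    exact mem_center_iff.2 fun y => Subtype.ext (hNC y.2 x hx).symm), ← h2] at h1
  haveI := finite_irr G
  have h3 := H6.card_irr_eq_card_conjClasses G
  rw [← Nat.card_congr (Equiv.sumCompl fun χ : IrrCharacter G => p ∣ charDegree χ.1),
    ← Nat.card_congr (Equiv.sumCompl fun C : ConjClasses G => p ∣ Nat.card C.carrier),
    Nat.card_sum, Nat.card_sum] at h3
  omega

end Cfsg.Agent.H7
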