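import Mathlib
import Cfsg.Prelude.Def_Characters
import Cfsg.Agent.H7.McKay
import Cfsg.Agent.H5.HH
import Cfsg.Agent.H8.PExt
import Cfsg.Agent.H9.Fong
import Cfsg.Agent.S4435
import Cfsg.Agent.S4436

/-!
Blocks of `p`-solvable groups: Fong's reductions, heights, Harada's conjecture.
-/

namespace Cfsg.Agent.H7

open Cfsg
open scoped ComplexConjugate commutatorElement

universe u

section Harada
variable {G : Type*} [Group G] [Finite G] {p : ℕ}

/-- `Θ` is a sum of terms `χ(1) χ`. -/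
def Har (Θ : G → ℂ) : Prop :=
  IsClassFunction G Θ ∧ ∀ χ, IsIrrCharacter G χ → ip Θ χ = χ 1 ∨ ip Θ χ = 0

theorem Har.ip_self {Θ : G → ℂ} (h : Har Θ) : ip Θ Θ = Θ 1 := by
  rw [ip_expand h.1]
  conv_rhs => rw [cf_expand h.1]
  rw [Finset.sum_apply]
  refine Finset.sum_congr rfl fun χ hχ => ?_
  have hχ := mem_irrSet.mp hχ
  obtain ⟨n, hn⟩ := char_one_nat (irr_char hχ)
  rw [← ip_conj_symm Θ χ, Pi.smul_apply, smul_eq_mul]
  rcases h.2 χ hχ with e | e <;> simp [e, hn]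

theorem Har.ind {X : Type*} [Group X] [Finite X] {π : G →* X} (hπ : Function.Surjective π)
    {Θ : G → ℂ} (h : Har Θ) : Har (ind π Θ) := by
  refine ⟨ind_cf _ _, fun β hβ => ?_⟩
  rw [ip_ind_left _ _ (irr_cf hβ)]
  simpa using h.2 _ (irr_comp_surjective π hπ hβ)

variable [hp : Fact p.Prime]

theorem avg_of_reg (Q : Subgroup G) [Q.Normal] [Fintype Q] (hQ : IsPGroup p Q) {t : G}
    (ht : ¬ p ∣ orderOf t) {F : G → ℂ} (hF : IsClassFunction G F)
    (h0 : ∀ x, p ∣ orderOf x → F x = 0) :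
    (Nat.card Q : ℂ)⁻¹ * ∑ u : Q, F (u * t) =
      (Nat.card ((Subgroup.centralizer {t}).subgroupOf Q) : ℂ)⁻¹ * F t := by
  classical
  set C := (Subgroup.centralizer {t}).subgroupOf Q
  haveI := Fintype.ofFinite C
  obtain ⟨k, hk⟩ := IsPGroup.iff_card.mp hQ
  have h : CycSet Q.subtype C.subtype t :=
    ⟨isNE_subtype Q, C.subtype_injective,
      hk ▸ Nat.Coprime.pow_left _ ((Nat.Prime.coprime_iff_not_dvd hp.out).mpr ht), fun g => by
      simp [C, Subgroup.mem_subgroupOf, Subgroup.mem_centralizer_iff, Commute, SemiconjBy,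
        eq_comm]⟩
  have := h.avg F fun g x => hF _ _
  simp only [Subgroup.coe_subtype] at this
  rw [this, Finset.sum_eq_single 1 _ (by simp)]
  · simp
  · intro c _ hc
    refine h0 _ ?_
    by_contra hn
    have h1 := H8.pPart_mul (H8.pElt_of_mem hQ c.1.2) ht (h.commute c)
    rw [H8.pPart_eq_one_iff.mpr hn] at h1
    exact hc (Subtype.ext (Subtype.ext h1.symm))

open ComplexOrder in
theorem Har.mem_centralizer {Θ : G → ℂ} (h : Har Θ) (h0 : ∀ x, p ∣ orderOf x → Θ x = 0)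
    (Q : Subgroup G) [Q.Normal] (hQ : IsPGroup p Q) {t : G} (ht : Θ t ≠ 0) :
    t ∈ Subgroup.centralizer (Q : Set G) := by
  classical
  haveI := Fintype.ofFinite Q
  haveI := Fintype.ofFinite (G ⧸ Q)
  have hπ := QuotientGroup.mk'_surjective Q
  have hk : (QuotientGroup.mk' Q).ker = Q.subtype.range := by simp
  set π := QuotientGroup.mk' Q
  have hc : IsClassFunction G (Θ * star Θ) := cf_mul h.1 (cf_star h.1)
  have hQ0 := card_ne_zero' Q
  set D : G ⧸ Q → ℂ := (Nat.card Q : ℂ) • (H7.ind π Θ * star (H7.ind π Θ)) - H7.ind π (Θ * star Θ)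
  have hD : ∀ t, ¬ p ∣ orderOf t → D (π t) =
      (((Nat.card Q - Nat.card ((Subgroup.centralizer {t}).subgroupOf Q) : ℕ) : ℝ) *
        (‖Θ t‖ / Nat.card ((Subgroup.centralizer {t}).subgroupOf Q)) ^ 2 : ℝ) := fun t ht => by
    have e1 := avg_of_reg Q hQ ht h.1 h0
    have e2 := avg_of_reg Q hQ ht hc fun x hx => by simp [h0 x hx]
    have := card_ne_zero' ((Subgroup.centralizer {t}).subgroupOf Q)
    simp only [D, Pi.sub_apply, Pi.smul_apply, Pi.mul_apply, Pi.star_apply,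
      ind_quot_apply Q.subtype_injective hπ hk h.1, ind_quot_apply Q.subtype_injective hπ hk hc,
      Subgroup.coe_subtype] at e2 ⊢
    rw [e1, e2, Nat.cast_sub (Subgroup.card_le_card_group _)]
    simp only [star_mul', RCLike.star_def, map_inv₀, map_natCast, smul_eq_mul]
    push_cast
    rw [div_pow, ← Complex.mul_conj']
    field_simp
  have hD0 : ∀ x, 0 ≤ D x := fun x => by
    by_cases hx : ∃ t, ¬ p ∣ orderOf t ∧ π t = x
    · obtain ⟨t, ht, rfl⟩ := hx
      rw [hD t ht]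
      exact Complex.zero_le_real.mpr (by positivity)
    · obtain ⟨g, rfl⟩ := hπ x
      have : ∀ u : Q, Θ (u * g) = 0 := fun u => h0 _ (by
        by_contra hn
        exact hx ⟨_, hn, by simp [π, (QuotientGroup.eq_one_iff _).mpr u.2]⟩)
      simp [D, ind_quot_apply Q.subtype_injective hπ hk h.1,
        ind_quot_apply Q.subtype_injective hπ hk hc, this]
  have h1 : ¬ p ∣ orderOf (1 : G) := by simpa using hp.out.ne_one
  have hs : ip D 1 = 0 := by
    simp only [D]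
    rw [ip_sub_left, ip_smul_left, ip_one_right_eq, ip_ind_left _ _ cf_one, (h.ind hπ).ip_self]
    change _ - ip _ 1 = 0
    rw [ip_one_right_eq, h.ip_self, ← map_one π, ind_quot_apply Q.subtype_injective hπ hk h.1]
    simp only [Subgroup.coe_subtype]
    rw [avg_of_reg Q hQ h1 h.1 h0]
    have : (Subgroup.centralizer {(1 : G)}).subgroupOf Q = ⊤ := by
      ext; simp [Subgroup.mem_subgroupOf, Subgroup.mem_centralizer_iff]
    rw [this, Subgroup.card_top]
    field_simp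
    ring
  rw [ip_def, mul_eq_zero] at hs
  have hs := hs.resolve_left (inv_ne_zero (card_ne_zero' _))
  simp only [Pi.one_apply, map_one, mul_one] at hs
  have htr : ¬ p ∣ orderOf t := fun hn => ht (h0 t hn)
  have := (Finset.sum_eq_zero_iff_of_nonneg fun x _ => hD0 x).mp hs (π t) (Finset.mem_univ _)
  rw [hD t htr, Complex.ofReal_eq_zero, mul_eq_zero] at this
  rcases this with e | e
  · have e : (Subgroup.centralizer {t}).subgroupOf Q = ⊤ :=
      Subgroup.eq_top_of_card_eq _ (le_antisymm (Subgroup.card_le_card_group _)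
        (Nat.sub_eq_zero_iff_le.mp (by exact_mod_cast e)))
    intro u hu
    have : (⟨u, hu⟩ : Q) ∈ (Subgroup.centralizer {t}).subgroupOf Q := e ▸ Subgroup.mem_top _
    exact (this t rfl).symm
  · simp [ht, Nat.card_pos.ne'] at e

omit hp in
/-- A sum of terms `χ(1) χ` over `θ` supported on `N` involves all characters over `θ`. -/
theorem Har.over_of_supp {N : Type*} [Group N] [Finite N] {f : N →* G} (hf : IsNE f) {θ : N → ℂ}
    (hθ : IsIrrCharacter N θ) (hinv : hf.Inv θ) {Θ : G → ℂ} (h : IsClassFunction G Θ)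
    (h1 : ∀ χ, IsIrrCharacter G χ → ip Θ χ ≠ 0 → ip (fun n => χ (f n)) θ ≠ 0)
    (h2 : ∀ g, Θ g ≠ 0 → g ∈ f.range) (h3 : Θ ≠ 0) {ψ : G → ℂ} (hψ : IsIrrCharacter G ψ)
    (h4 : ip (fun n => ψ (f n)) θ ≠ 0) : ip Θ ψ ≠ 0 := by
  obtain ⟨c, hc⟩ : ∃ c : ℂ, (fun n => Θ (f n)) = c • θ := by
    refine ⟨∑ χ ∈ irrSet G, ip Θ χ * ip (fun n => χ (f n)) θ, ?_⟩
    rw [Finset.sum_smul]
    funext n
    conv_lhs => rw [cf_expand h]
    simp only [Finset.sum_apply, Pi.smul_apply, smul_eq_mul]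
    refine Finset.sum_congr rfl fun χ hχ => ?_
    by_cases e : ip Θ χ = 0
    · simp [e]
    · have := congrFun (hf.clifford_inv (mem_irrSet.mp hχ) hθ hinv (h1 χ (mem_irrSet.mp hχ) e)) n
      simp only [Pi.smul_apply, smul_eq_mul] at this
      rw [this, mul_assoc]
  have hi : (f.range.index : ℂ) ≠ 0 := Nat.cast_ne_zero.mpr Subgroup.index_ne_zero_of_finite
  have e : (f.range.index : ℂ) • Θ = c • H7.ind f θ := by
    rw [← ind_smul, ← hc, ind_res f h]
    funext g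
    by_cases hg : g ∈ f.range
    · simp [hf.ind_one_apply, hg]
    · simp [hf.ind_one_apply, hg, not_not.mp (mt (h2 g) hg)]
  have hc0 : c ≠ 0 := by
    rintro rfl
    simp [hi, h3] at e
  intro h5
  have := congrArg (ip · ψ) e
  simp only [ip_smul_left, h5, ip_ind_left _ _ (irr_cf hψ), mul_zero] at this
  exact mul_ne_zero hc0 (ip_ne_zero_comm.mp h4) this.symm

omit hp in
theorem CT.exists_right_cf {N E Q : Type*} [Group N] [Group E] [Group Q] [Finite N] [Finite E]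
    [Finite Q] {f : N →* G} {θ : N → ℂ} {π : E →* G} {q : E →* Q} {θ' : E → ℂ} {Z : Subgroup Q}
    {lam : Z →* ℂˣ} (h : CT f θ π q θ' Z lam) {Θ : G → ℂ} (hΘ : IsClassFunction G Θ)
    (h1 : ∀ χ, IsIrrCharacter G χ → ip Θ χ ≠ 0 → ip (fun n => χ (f n)) θ ≠ 0) :
    ∃ Φ, IsClassFunction Q Φ ∧ ctR π q θ' (MonoidHom.id G) (MonoidHom.id Q) Θ Φ ∧
      ∀ β, IsIrrCharacter Q β → ip Φ β ≠ 0 → ip (fun z : Z => β z) (linFun lam) ≠ 0 := by
  classical
  have : ∀ χ : G → ℂ, ∃ β, IsIrrCharacter G χ → ip Θ χ ≠ 0 → IsIrrCharacter Q β ∧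
      ctR π q θ' (MonoidHom.id G) (MonoidHom.id Q) χ β := fun χ => by
    by_cases e : IsIrrCharacter G χ ∧ ip Θ χ ≠ 0
    · obtain ⟨β, hβ⟩ := h.exists_right ctCor_id (k := f) (fun _ => rfl) e.1 (h1 χ e.1 e.2)
      exact ⟨β, fun _ _ => hβ⟩
    · exact ⟨0, fun a b => (e ⟨a, b⟩).elim⟩
  choose b hb using this
  refine ⟨∑ χ ∈ irrSet G with ip Θ χ ≠ 0, ip Θ χ • b χ, cf_sum _ fun χ hχ => ?_,
    fun x g u e1 e2 => ?_, fun β hβ h2 => ?_⟩
  · rw [Finset.mem_filter, mem_irrSet] at hχ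
    exact cf_smul _ (irr_cf (hb χ hχ.1 hχ.2).1)
  · conv_lhs => rw [cf_expand hΘ]
    simp only [Finset.sum_apply, Pi.smul_apply, smul_eq_mul, Finset.sum_mul, Finset.sum_filter]
    refine Finset.sum_congr rfl fun χ hχ => ?_
    by_cases e : ip Θ χ = 0
    · simp [e]
    · simp [e, (hb χ (mem_irrSet.mp hχ) e).2 x g u e1 e2, mul_assoc]
  · rw [ip_sum_left] at h2
    obtain ⟨χ, hχ, h3⟩ := Finset.exists_ne_zero_of_sum_ne_zero h2
    rw [Finset.mem_filter, mem_irrSet] at hχ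
    rw [ip_smul_left] at h3
    obtain ⟨h4, h5⟩ := hb χ hχ.1 hχ.2
    rw [← irr_eq_of_ip_ne_zero h4 hβ (right_ne_zero_of_mul h3)]
    exact fun e => h1 χ hχ.1 hχ.2
      ((h.ip_base ctCor_id (k := f) (z := Z.subtype) (fun _ => rfl) (fun _ => rfl) h5).trans e)

/-- In a central extension by a `p'`-group, an element centralizing `O_p` centralizes the normal
`p`-subgroups of the quotient. -/
theorem map_mem_centralizer_of_central {X : Type*} [Group X] {ρ : G →* X}
    (hρ : Function.Surjective ρ) (hc : ρ.ker ≤ Subgroup.center G) (R : Subgroup X) [R.Normal]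
    (hR : IsPGroup p R) {y : G} (hy : y ∈ Subgroup.centralizer (pCore p G : Set G)) :
    ρ y ∈ Subgroup.centralizer (R : Set X) := by
  set K := R.comap ρ
  haveI : Finite X := Finite.of_surjective ρ hρ
  haveI := hR.isNilpotent
  haveI : Group.IsNilpotent K := isNilpotent_of_ker_le_center (ρ.subgroupComap R) fun x hx => by
    rw [Subgroup.mem_center_iff]
    intro g
    exact Subtype.ext (Subgroup.mem_center_iff.mp (hc (congrArg Subtype.val hx)) g)
  have h1 := H2.pCore_sup_pPrimeCore_of_isNilpotent (G := K) p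
  have h2 : K ≤ Subgroup.centralizer {y} := by
    rw [← K.range_subtype, MonoidHom.range_eq_map, ← h1, Subgroup.map_sup, sup_le_iff]
    constructor
    · intro x hx
      rintro _ rfl
      exact (hy x (H2.pCore_map_subtype_le_of_normal K hx)).symm
    · rintro _ ⟨x, hx, rfl⟩ _ rfl
      refine Subgroup.mem_center_iff.mp (hc ?_) _
      obtain ⟨k, hk⟩ := hR ⟨ρ x, x.2⟩
      have a1 : orderOf (ρ x) ∣ p ^ k := orderOf_dvd_of_pow_eq_one (congrArg Subtype.val hk)
      have a2 : orderOf (ρ x) ∣ Nat.card (pPrimeCore p K) :=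
        (orderOf_map_dvd (ρ.comp K.subtype) x).trans (Subgroup.orderOf_dvd_natCard _ hx)
      exact orderOf_eq_one_iff.mp (Nat.eq_one_of_dvd_coprimes
        (H2.pPrimeCore_coprime.pow_right k) a2 a1)
  intro r hr
  obtain ⟨x, rfl⟩ := hρ r
  rw [← map_mul, ← map_mul, h2 hr y rfl]

theorem IsNE.exists_ext_comap {N X : Type*} [Group N] [Finite N] [Group X] {f : N →* G}
    (hf : IsNE f) (hN : ¬ p ∣ Nat.card N) {θ : N → ℂ} (hθ : IsIrrCharacter N θ) (hinv : hf.Inv θ)
    {σ : G →* X} (hσ : Function.Surjective σ) (hk : σ.ker = f.range) {V : Subgroup X}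
    (hV : IsPGroup p V) : ∃ (h : ∀ n, f n ∈ V.comap σ) (η : V.comap σ → ℂ),
      IsIrrCharacter _ η ∧ ∀ n, η ⟨f n, h n⟩ = θ n := by
  have h : ∀ n, f n ∈ V.comap σ := fun n => by
    rw [Subgroup.mem_comap, apply_eq_one_of_ker_eq hk]; exact one_mem _
  haveI : Finite X := Finite.of_surjective σ hσ
  obtain ⟨k, e⟩ := IsPGroup.iff_card.mp hV
  obtain ⟨η, h1, h2, -⟩ := (isNE_codRestrict hf _ h).exists_ext_of_hall (by
      rw [index_range_eq_card (σ.subgroupComap_surjective_of_surjective V hσ)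
        (H8.ker_subgroupComap hk V h), e]
      exact (hp.out.coprime_iff_not_dvd.mpr hN).pow_left _) hθ
    (hinv.of_comp _ (ι := (V.comap σ).subtype) fun _ => rfl) (char_one_eq (irr_char hθ))
    (irr_degree_dvd_card hθ)
  exact ⟨h, η, h1, h2⟩

theorem IsNE.exists_ct_coprime {G : Type u} [Group G] [Finite G] {N : Type*} [Group N] [Finite N]
    {f : N →* G} (hf : IsNE f) (hN : ¬ p ∣ Nat.card N) {θ : N → ℂ} (hθ : IsIrrCharacter N θ)
    (hinv : hf.Inv θ) :
    ∃ (E Q : Type u) (_ : Group E) (_ : Finite E) (_ : Group Q) (_ : Finite Q) (π : E →* G)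
      (q : E →* Q) (θ' : E → ℂ) (Z : Subgroup Q) (lam : Z →* ℂˣ), CT f θ π q θ' Z lam ∧
        ¬ p ∣ Nat.card Z := by
  haveI := hf.normal
  obtain ⟨P⟩ : Nonempty (Sylow p (G ⧸ f.range)) := inferInstance
  obtain ⟨h, η, h1, h2⟩ := hf.exists_ext_comap hN hθ hinv (QuotientGroup.mk'_surjective _)
    (QuotientGroup.ker_mk' _) P.isPGroup'
  obtain ⟨E, Q, _, _, _, _, π, q, θ', Z, lam, X, hZ⟩ := hf.exists_ct' hθ hinv
    (k := f.codRestrict _ h) (Subgroup.subtype_injective _) (fun _ => rfl) (irr_char h1) h2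
  refine ⟨E, Q, _, ‹_›, _, ‹_›, π, q, θ', Z, lam, X, fun hd => ?_⟩
  obtain ⟨z, hz⟩ := exists_prime_orderOf_dvd_card' p hd
  have := orderOf_dvd_of_pow_eq_one (hZ z)
  rw [hz, Subgroup.range_subtype,
    Subgroup.index_comap_of_surjective _ (QuotientGroup.mk'_surjective _)] at this
  exact P.not_dvd_index this

/-- Harada's conjecture over an invariant character of a normal `p'`-subgroup with a quotient of
characteristic `p`. -/
theorem Har.over_of_inv {G : Type u} [Group G] [Finite G] {N X : Type*} [Group N] [Finite N]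
    [Group X] {f : N →* G} (hf : IsNE f) (hN : ¬ p ∣ Nat.card N) {θ : N → ℂ}
    (hθ : IsIrrCharacter N θ) (hinv : hf.Inv θ) {σ : G →* X} (hσ : Function.Surjective σ)
    (hk : σ.ker = f.range) (R : Subgroup X) [R.Normal] (hR : IsPGroup p R)
    (hC : Subgroup.centralizer (R : Set X) ≤ R) {Θ : G → ℂ} (h : Har Θ)
    (h0 : ∀ x, p ∣ orderOf x → Θ x = 0)
    (h1 : ∀ χ, IsIrrCharacter G χ → ip Θ χ ≠ 0 → ip (fun n => χ (f n)) θ ≠ 0) (h3 : Θ ≠ 0)
    {ψ : G → ℂ} (hψ : IsIrrCharacter G ψ) (h4 : ip (fun n => ψ (f n)) θ ≠ 0) : ip Θ ψ ≠ 0 := by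
  refine Har.over_of_supp hf hθ hinv h.1 h1 (fun g hg => ?_) h3 hψ h4
  obtain ⟨E, Q, _, _, _, _, π, q, θ', Z, lam, c, hZ⟩ := hf.exists_ct_coprime hN hθ hinv
  obtain ⟨Φ, a1, a2, a3⟩ := c.exists_right_cf h.1 h1
  obtain ⟨ρ, b1, b2, b3⟩ := c.exists_quot hσ hk
  have h5 := irr_one_ne_zero hθ
  have hH : Har ((θ 1)⁻¹ • Φ) := by
    refine ⟨cf_smul _ a1, fun β hβ => ?_⟩
    rw [ip_smul_left]
    by_cases e : ip Φ β = 0
    · simp [e]
    obtain ⟨χ, d1, d2⟩ := c.exists_left ctCor_id (z := Z.subtype) (fun _ => rfl) hβ (a3 β hβ e)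
    rw [← c.ip_eq ctCor_id a2 d2]
    refine (h.2 χ d1).imp (fun e => ?_) fun e => by simp [e]
    rw [e, c.degree d2]
    field_simp
  have hreg : ∀ x, p ∣ orderOf (q x) ↔ p ∣ orderOf (π x) := fun x => by
    rw [← not_iff_not, ← H8.not_dvd_orderOf_map_iff ρ (b2 ▸ (H8.not_dvd_iff_coprime _).mp hZ),
      ← H8.not_dvd_orderOf_map_iff σ (by
        rw [hk, card_range_of_injective hf.inj]; exact (H8.not_dvd_iff_coprime _).mp hN), b3]
  obtain ⟨j, j1, j2, j3⟩ := c.exj
  have hj : IsNE j := ⟨fun a b e => hf.inj (by rw [← j1, ← j1, e]), j2 ▸ inferInstance⟩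
  have h6 : ∀ y, p ∣ orderOf y → ((θ 1)⁻¹ • Φ) y = 0 := fun y hy => by
    obtain ⟨x, rfl⟩ := c.q_surj y
    haveI := Fintype.ofFinite N
    have e := hj.sum_coset_mul_conj_self c.char (by simpa only [j3] using hθ) x
    obtain ⟨n, -, hn⟩ := Finset.exists_ne_zero_of_sum_ne_zero
      (right_ne_zero_of_mul (e.trans_ne one_ne_zero))
    have e1 : q (j n * x) = q x := by rw [map_mul, apply_eq_one_of_ker_eq j2, one_mul]
    have e2 := a2 (j n * x) (π (j n * x)) (q x) rfl e1.symm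
    rw [h0 _ ((hreg _).mp (e1 ▸ hy))] at e2
    simp [(mul_eq_zero.mp e2.symm).resolve_right (left_ne_zero_of_mul hn)]
  obtain ⟨x, rfl⟩ := c.π_surj g
  have h7 : ((θ 1)⁻¹ • Φ) (q x) ≠ 0 :=
    mul_ne_zero (inv_ne_zero h5) (left_ne_zero_of_mul (a2 x _ _ rfl rfl ▸ hg))
  have h8 := hC (map_mem_centralizer_of_central b1 (b2 ▸ c.cen) R hR
    (hH.mem_centralizer h6 _ H2.pCore_isPGroup h7))
  rw [← hk, MonoidHom.mem_ker, ← b3]
  haveI : Finite X := Finite.of_surjective σ hσ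
  obtain ⟨k, e⟩ := H8.pElt_of_mem hR h8
  have h9 : ¬ p ∣ orderOf (ρ (q x)) := fun e => h7 (h6 _ (e.trans (orderOf_map_dvd _ _)))
  rcases k with _ | k
  · simpa using e
  · exact (h9 (e ▸ dvd_pow_self p k.succ_ne_zero)).elim

end Harada

section Fong
variable {M : Ideal AlgInt} {p : ℕ} [hp : Fact p.Prime] {G : Type u} [Group G] [Finite G]
  {B : Set (IrrCharacter G)}

theorem over_of_mem (hM : IsPModular p M) {N : Subgroup G} [N.Normal] (h : ¬ p ∣ Nat.card N)
    (hB : IsPBlock M B) {χ ψ : IrrCharacter G} (hχ : χ ∈ B) (hψ : ψ ∈ B) {θ : N → ℂ}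
    (hθ : IsIrrCharacter N θ) (h1 : ip (fun n : N => χ.1 n) θ ≠ 0) :
    ip (fun n : N => ψ.1 n) θ ≠ 0 := by
  haveI := hM.2.1; haveI : H9.PMod M p := ⟨hM⟩
  exact (H9.covers_singleton_iff h hB hψ ⟨θ, hθ⟩).mp
    ((H9.covers_singleton_iff h hB hχ ⟨θ, hθ⟩).mpr h1)

/-- The Fong-Reynolds correspondence over a character of a normal `p'`-subgroup. -/
theorem fong_step (hM : IsPModular p M) {N : Subgroup G} [N.Normal] (h : ¬ p ∣ Nat.card N)
    (hB : IsPBlock M B) {χ : IrrCharacter G} (hχ : χ ∈ B) {θ : N → ℂ} (hθ : IsIrrCharacter N θ)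
    (h1 : ip (fun n : N => χ.1 n) θ ≠ 0) {T : Subgroup G} (hT : T = (isNE_subtype N).inertia θ)
    (hNT : N ≤ T) : ∃ B' : Set (IrrCharacter T), IsPBlock M B' ∧
      (∀ ψ ∈ B', ip (fun n : N => ψ.1 (Subgroup.inclusion hNT n)) θ ≠ 0) ∧
      (∀ χ : IrrCharacter G, χ ∈ B ↔ ∃ ψ ∈ B', χ.1 = ind T.subtype ψ.1) ∧
      (∀ D, IsDefectGroup p M B' D → IsDefectGroup p M B (D.map T.subtype)) ∧
      ∀ ψ ∈ B', IsIrrCharacter G (ind T.subtype ψ.1) ∧
        blockHeight p B (ind T.subtype ψ.1) = blockHeight p B' ψ.1 := by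
  haveI := hM.2.1; haveI : H9.PMod M p := ⟨hM⟩
  haveI := Fintype.ofFinite G; haveI := Fintype.ofFinite N; haveI := Fintype.ofFinite T
  have hb := H9.isPBlock_singleton (M := M) h ⟨θ, hθ⟩
  have hT' : ∀ g : G, g ∈ T ↔ ∀ θ₁ ∈ ({⟨θ, hθ⟩} : Set (IrrCharacter N)), ∀ θ' : IrrCharacter N,
      (∀ n : N, (θ' : N → ℂ) n = (θ₁ : N → ℂ) ⟨g * n * g⁻¹, ‹N.Normal›.conj_mem n n.2 g⟩) →
        θ' ∈ ({⟨θ, hθ⟩} : Set (IrrCharacter N)) := fun g => by
    rw [hT, IsNE.mem_inertia, cjf_subtype]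
    refine ⟨fun e _ e1 θ' e2 => Subtype.ext (funext fun n => ?_), fun e => ?_⟩
    · rw [e2, e1]; exact congrFun e n
    · exact congrArg Subtype.val (e _ rfl
        ⟨_, cjf_subtype N _ g θ ▸ (isNE_subtype N).irr_cjf g hθ⟩ fun _ => rfl)
  obtain ⟨a1, -, a3⟩ := S4435.result p M hM N _ hb T hT' hNT
  obtain ⟨B', b1, b2, b3⟩ := a3 B hB ⟨χ, hχ, _, rfl, by rwa [← ip_eq_classInner]⟩
  obtain ⟨B₂, c1, -, c2, c3⟩ := a1 B' b1 b2
  obtain rfl := H8.IsInducedBlock.unique b3 c1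
  obtain ⟨d1, d2⟩ := S4436.result p M hM N _ hb T hT' hNT B' b1 b2 B b3
  refine ⟨B', b1, fun ψ hψ => ?_, by simpa only [ind_subtype] using c3, d1, fun ψ hψ => ?_⟩
  · obtain ⟨ψ₀, e1, _, rfl, e2⟩ := b2
    rw [← ip_eq_classInner] at e2
    let e := (Subgroup.subgroupOfEquivOfLe hNT).symm
    have := over_of_mem hM (N := N.subgroupOf T) (by rwa [← Nat.card_congr e.toEquiv]) b1 e1 hψ
      (irr_comp_surjective e.symm.toMonoidHom e.symm.surjective hθ)
      (by rw [← ip_comp_equiv e.toEquiv]; exact e2)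
    rw [← ip_comp_equiv e.toEquiv] at this
    exact this
  · obtain ⟨χ', -, e1, e2⟩ := d2 ψ hψ
    rw [ind_subtype, ← e1]
    exact ⟨χ'.2, e2⟩

/-- Fong's theorem on blocks over an invariant character of the `p'`-core. -/
theorem fong_inv (hM : IsPModular p M) (hG : IsPSolvable p G) (hB : IsPBlock M B)
    {χ : IrrCharacter G} (hχ : χ ∈ B) [(pPrimeCore p G).Normal] {θ : pPrimeCore p G → ℂ}
    (hθ : IsIrrCharacter _ θ) (h1 : ip (fun n : pPrimeCore p G => χ.1 n) θ ≠ 0)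
    (hinv : (isNE_subtype _).Inv θ) :
    (∀ ψ : IrrCharacter G, ψ ∈ B ↔ ip (fun n : pPrimeCore p G => ψ.1 n) θ ≠ 0) ∧
      ∀ D, IsDefectGroup p M B D ↔ ∃ P : Sylow p G, (P : Subgroup G) = D := by
  haveI := hM.2.1; haveI : H9.PMod M p := ⟨hM⟩
  obtain ⟨B', a1, a2, a3, -⟩ := H9.fong_block (M := M) (θ := ⟨θ, hθ⟩)
    (H5b.isPConstrained_of_pSolvable hG) fun g k k' h => by
      exact (congrArg θ (Subtype.ext h)).trans ((inv_subtype_iff _ _ _).mp hinv g k)
  obtain rfl := H8.block_eq_of_mem hB a1 hχ ((a2 χ).mpr h1)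
  exact ⟨a2, fun D => (a3 D).trans ⟨fun h => h.exists_sylow_top, by
    rintro ⟨P, rfl⟩; exact H18.sylIn_top P⟩⟩

theorem mem_principal_iff_of_psolv (hM : IsPModular p M) (hG : IsPSolvable p G)
    (χ : IrrCharacter G) : χ ∈ principalBlock M G ↔ pPrimeCore p G ≤ H6.charKer χ.1 := by
  haveI := hM.2.1
  haveI := H2.pPrimeCore_characteristic (p := p) (G := G)
  refine ⟨fun h => H8.le_charKer_of_principal hM h _ H2.pPrimeCore_coprime, fun h => ?_⟩
  refine ((fong_inv hM hG H8.isPBlock_principalBlock H8.irrOne_mem_principalBlock irr_one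
    (ip_one_one.trans_ne one_ne_zero) fun _ => rfl).1 χ).mpr ?_
  exact (H9.ip_res_one_ne_zero_iff χ).mpr fun n hn => H6.apply_eq_of_mem_charKer (h hn)

/-- Induction along Fong's reductions. -/
theorem fong_induction (hM : IsPModular p M)
    (P : ∀ (G : Type u) [Group G] [Finite G], Set (IrrCharacter G) → Prop)
    (h1 : ∀ (G : Type u) [Group G] [Finite G] (B : Set (IrrCharacter G))
      [(pPrimeCore p G).Normal] (θ : pPrimeCore p G → ℂ), IsPSolvable p G → IsPBlock M B →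
      IsIrrCharacter _ θ → (isNE_subtype _).Inv θ →
      (∀ ψ : IrrCharacter G, ψ ∈ B ↔ ip (fun n : pPrimeCore p G => ψ.1 n) θ ≠ 0) →
      (∀ D, IsDefectGroup p M B D ↔ ∃ P : Sylow p G, (P : Subgroup G) = D) → P G B)
    (h2 : ∀ (G : Type u) [Group G] [Finite G] (B : Set (IrrCharacter G)) (T : Subgroup G)
      (B' : Set (IrrCharacter T)), IsPSolvable p G → IsPBlock M B → IsPBlock M B' →
      (∀ χ : IrrCharacter G, χ ∈ B ↔ ∃ ψ ∈ B', χ.1 = ind T.subtype ψ.1) →
      (∀ D, IsDefectGroup p M B' D → IsDefectGroup p M B (D.map T.subtype)) →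
      (∀ ψ ∈ B', IsIrrCharacter G (ind T.subtype ψ.1) ∧
        blockHeight p B (ind T.subtype ψ.1) = blockHeight p B' ψ.1) →
      (∀ ψ ∈ B', ∀ ψ' ∈ B', ind T.subtype ψ.1 = ind T.subtype ψ'.1 → ψ = ψ') → P T B' → P G B) :
    ∀ (n : ℕ) (G : Type u) [Group G] [Finite G] (B : Set (IrrCharacter G)), Nat.card G = n →
      IsPSolvable p G → IsPBlock M B → P G B := by
  intro n
  induction n using Nat.strong_induction_on with
  | _ n ih =>
  intro G _ _ B hn hG hB
  haveI := hM.2.1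
  haveI := H2.pPrimeCore_characteristic (p := p) (G := G)
  obtain ⟨χ, hχ⟩ := H8.block_nonempty hB
  obtain ⟨θ, hθ, a1⟩ := exists_irr_under (pPrimeCore p G).subtype χ.2
  have hf := isNE_subtype (pPrimeCore p G)
  by_cases hi : hf.Inv θ
  · obtain ⟨a2, a3⟩ := fong_inv hM hG hB hχ hθ a1 hi
    exact h1 G B θ hG hB hθ hi a2 a3
  have hNT : pPrimeCore p G ≤ hf.inertia θ := by
    simpa using hf.range_le_inertia (irr_cf hθ)
  obtain ⟨B', b1, b2, b3, b4, b5⟩ := fong_step hM (H2.not_dvd_card_pPrimeCore p) hB hχ hθ a1 rfl hNT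
  refine h2 G B _ B' hG hB b1 b3 b4 b5 (fun ψ hψ ψ' hψ' e => Subtype.ext ?_)
    (ih _ (hn ▸ card_lt_of_ne_top (mt hf.inv_iff_inertia.mpr hi)) _ B' rfl
      (H1.isPSolvable_subgroup hp.out hG _) b1)
  exact hf.corr_inj (k := Subgroup.inclusion hNT) (Subgroup.subtype_injective _) (fun _ => rfl) hθ
    (by simp) ψ.2 (b2 ψ hψ) ψ'.2 (b2 ψ' hψ') e

theorem ip_blockPart (B : Set (IrrCharacter G)) (Θ : G → ℂ) (χ : IrrCharacter G)
    [Decidable (χ ∈ B)] : ip (blockPart B Θ) χ = if χ ∈ B then ip Θ χ else 0 := by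
  haveI := Fintype.ofFinite G
  simp only [ip_eq_classInner, H8.classInner_blockPart]

/-- Harada's conjecture for `p`-solvable groups. -/
theorem harada (hM : IsPModular p M) (hG : IsPSolvable p G) (hB : IsPBlock M B) :
    ∀ Θ : G → ℂ, Har Θ → (∀ x, p ∣ orderOf x → Θ x = 0) → ∀ χ ∈ B, ∀ ψ ∈ B,
      ip Θ χ ≠ 0 → ip Θ ψ ≠ 0 := by
  classical
  haveI := hM.2.1
  refine fong_induction hM (fun G _ _ B => ∀ Θ : G → ℂ, Har Θ → (∀ x, p ∣ orderOf x → Θ x = 0) →
    ∀ χ ∈ B, ∀ ψ ∈ B, ip Θ χ ≠ 0 → ip Θ ψ ≠ 0) ?_ ?_ _ G B rfl hG hB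
  · intro G _ _ B _ θ hG hB hθ hi a1 _ Θ h h0 χ hχ ψ hψ h1
    haveI := H2.pCore_characteristic (p := p) (G := G ⧸ pPrimeCore p G)
    have e : ∀ χ (hχ : IsIrrCharacter G χ), ip (blockPart B Θ) χ =
      if (⟨χ, hχ⟩ : IrrCharacter G) ∈ B then ip Θ χ else 0 := fun χ hχ => ip_blockPart B Θ ⟨χ, hχ⟩
    have := Har.over_of_inv (isNE_subtype _) (H2.not_dvd_card_pPrimeCore p) hθ hi
      (QuotientGroup.mk'_surjective _) (by simp) (pCore p _) H2.pCore_isPGroup
      (H5b.centralizer_pCore_le (H1.isPSolvable_quotient hp.out hG _) H2.pPrimeCore_quotient_self)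
      (Θ := blockPart B Θ) ⟨H8.isClassFunction_blockPart _ _, fun χ hχ => by
        rw [e χ hχ]; split_ifs; exacts [h.2 χ hχ, Or.inr rfl]⟩
      (fun x hx => H8.blockPart_eq_zero_of_sing hM (H8.isBlockUnion_of_block hB) h0 hx)
      (fun χ hχ h => (a1 ⟨χ, hχ⟩).mp (by by_contra hn; simp [e χ hχ, hn] at h))
      (fun h => h1 (by simpa [h, ip_zero_left, hχ] using (ip_blockPart B Θ χ).symm)) ψ.2
      ((a1 ψ).mp hψ)
    rwa [ip_blockPart, if_pos hψ] at this
  · intro G _ _ B T B' _ hB hB' a1 _ a2 _ ih Θ h h0 χ hχ ψ hψ h1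
    obtain ⟨χ', b1, b2⟩ := (a1 χ).mp hχ
    obtain ⟨ψ', b3, b4⟩ := (a1 ψ).mp hψ
    have hi : (T.index : ℂ) ≠ 0 := Nat.cast_ne_zero.mpr Subgroup.index_ne_zero_of_finite
    have e : ∀ η : IrrCharacter T, η ∈ B' → ip ((T.index : ℂ)⁻¹ • blockPart B' fun t : T => Θ t) η =
        (T.index : ℂ)⁻¹ * ip Θ (ind T.subtype η) := fun η hη => by
      rw [ip_smul_left, ip_blockPart, if_pos hη, ip_ind_right _ _ h.1]; rfl
    have := ih ((T.index : ℂ)⁻¹ • blockPart B' fun t : T => Θ t)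
      ⟨cf_smul _ (H8.isClassFunction_blockPart _ _), fun η hη => by
        by_cases hm : (⟨η, hη⟩ : IrrCharacter T) ∈ B'
        · rw [e _ hm]
          refine (h.2 _ (a2 _ hm).1).imp (fun e => ?_) fun e => by simp [e]
          rw [e, ind_apply_one T.subtype_injective, Subgroup.range_subtype]
          field_simp
        · rw [ip_smul_left, ip_blockPart B' _ ⟨η, hη⟩, if_neg hm, mul_zero]; exact Or.inr rfl⟩
      (fun x hx => by
        simp [H8.blockPart_eq_zero_of_sing hM (H8.isBlockUnion_of_block hB')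
          (θ := fun t : T => Θ t) (fun y hy => h0 _ (by simpa using hy)) hx])
      χ' b1 ψ' b3 (by rw [e _ b1, ← b2]; exact mul_ne_zero (inv_ne_zero hi) h1)
    rw [e _ b3, ← b4] at this
    exact right_ne_zero_of_mul this

/-- Characters over an invariant character of a normal `p'`-subgroup: the `p`-part of the degree
divides the index of an abelian normal `p`-subgroup of the quotient. -/
theorem IsNE.factorization_le {N X : Type*} [Group N] [Finite N] [Group X] {f : N →* G}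
    (hf : IsNE f) (hN : ¬ p ∣ Nat.card N) {θ : N → ℂ} (hθ : IsIrrCharacter N θ) (hinv : hf.Inv θ)
    {σ : G →* X} (hσ : Function.Surjective σ) (hk : σ.ker = f.range) (A : Subgroup X) [A.Normal]
    (hA : IsPGroup p A) (hc : ∀ a ∈ A, ∀ b ∈ A, a * b = b * a) {χ : G → ℂ}
    (hχ : IsIrrCharacter G χ) (h : ip (fun n => χ (f n)) θ ≠ 0) :
    (charDegree χ).factorization p ≤ A.index.factorization p := by
  haveI : Finite X := Finite.of_surjective σ hσ
  obtain ⟨h1, η, h2, h3⟩ := hf.exists_ext_comap hN hθ hinv hσ hk hA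
  obtain ⟨ψ, a1, a2, a3⟩ := exists_irr_between (A.comap σ).subtype (f.codRestrict _ h1)
    (irr_char hχ) h
  have h4 : (fun n => η (f.codRestrict _ h1 n)) = θ := funext h3
  obtain ⟨β, b1, rfl⟩ := (isNE_codRestrict hf _ h1).gallagher_surj
    (σ.subgroupComap_surjective_of_surjective A hσ) (H8.ker_subgroupComap hk A h1) (irr_char h2)
    (h4 ▸ hθ) a1 (h4 ▸ a3)
  obtain ⟨e, c1, c2⟩ := (isNE_subtype _).deg_ratio a1 hχ a2
  rw [Subgroup.range_subtype, Subgroup.index_comap_of_surjective _ hσ] at c2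
  have h5 : charDegree ((fun x => β (σ.subgroupComap A x)) * η) = charDegree θ := by
    rw [← h4]
    simp only [charDegree, Pi.mul_apply, map_one, one_mul,
      irr_one_eq_one_of_comm (comm_mem_iff.mpr hc) b1]
  have h6 : ¬ p ∣ charDegree θ := fun e => hN (e.trans (irr_degree_dvd_card hθ))
  have h7 : e ≠ 0 := ne_zero_of_dvd_ne_zero Subgroup.index_ne_zero_of_finite c2
  rw [c1, h5, Nat.factorization_mul h7 (irr_degree_pos hθ).ne', Finsupp.add_apply,
    Nat.factorization_eq_zero_of_not_dvd h6, add_zero]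
  exact (Nat.factorization_le_iff_dvd h7 Subgroup.index_ne_zero_of_finite).mpr c2 p

theorem index_center_congr {A B : Type*} [Group A] [Group B] (e : A ≃* B) :
    (Subgroup.center A).index = (Subgroup.center B).index := by
  rw [← Subgroup.index_comap_of_surjective _ (f := e.toMonoidHom) e.surjective]
  congr 1
  ext x
  simp only [Subgroup.mem_comap, Subgroup.mem_center_iff, e.surjective.forall,
    MulEquiv.coe_toMonoidHom, ← map_mul, e.apply_eq_iff_eq]

/-- Fong's bound for heights. -/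
theorem height_le (hM : IsPModular p M) (hG : IsPSolvable p G) (hB : IsPBlock M B) :
    ∀ D, IsDefectGroup p M B D → ∀ χ ∈ B,
      blockHeight p B χ.1 ≤ (Subgroup.center D).index.factorization p := by
  haveI := hM.2.1
  refine fong_induction hM (fun G _ _ B => ∀ D, IsDefectGroup p M B D → ∀ χ ∈ B,
    blockHeight p B χ.1 ≤ (Subgroup.center D).index.factorization p) ?_ ?_ _ G B rfl hG hB
  · intro G _ _ B _ θ hG hB hθ hi a1 a2 D hD χ hχ
    obtain ⟨P, rfl⟩ := (a2 D).mp hD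
    set σ := QuotientGroup.mk' (pPrimeCore p G)
    have hσ := QuotientGroup.mk'_surjective (pPrimeCore p G)
    set R := pCore p (G ⧸ pPrimeCore p G)
    haveI : R.Characteristic := H2.pCore_characteristic
    have hC : Subgroup.centralizer (R : Set _) ≤ R :=
      H5b.centralizer_pCore_le (H1.isPSolvable_quotient hp.out hG _) H2.pPrimeCore_quotient_self
    have h1 := (isNE_subtype _).factorization_le (H2.not_dvd_card_pPrimeCore p) hθ hi hσ (by simp)
      (Subgroup.centralizer (SetLike.coe R)) (H2.pCore_isPGroup.to_le hC)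
      (fun a ha b hb => hb a (hC ha)) χ.2 ((a1 χ).mp hχ)
    refine (Nat.sub_le _ _).trans (h1.trans ?_)
    have hR : R ≤ (P : Subgroup G).map σ := H2.pCore_le_sylow (P.mapSurjective hσ)
    have h2 : Nat.card (Subgroup.center P) ∣ Nat.card (Subgroup.centralizer (SetLike.coe R)) := by
      refine Subgroup.card_dvd_of_injective (((σ.comp (P : Subgroup G).subtype).comp
        (Subgroup.center P).subtype).codRestrict _ fun z r hr => ?_) ?_
      · obtain ⟨x, hx, rfl⟩ := hR hr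
        exact ((map_mul σ _ _).symm.trans (congrArg (fun y : P => σ y)
          (Subgroup.mem_center_iff.mp z.2 ⟨x, hx⟩))).trans (map_mul σ _ _)
      · rw [injective_iff_map_eq_one]
        intro z hz
        have : (z : G) ∈ (P : Subgroup G) ⊓ pPrimeCore p G :=
          ⟨z.1.2, (QuotientGroup.eq_one_iff _).mp (congrArg Subtype.val hz)⟩
        obtain ⟨k, e⟩ := IsPGroup.iff_card.mp P.isPGroup'
        rw [Subgroup.inf_eq_bot_of_coprime (e ▸ H2.pPrimeCore_coprime.symm.pow_left _)] at this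
        exact Subtype.ext (Subtype.ext this)
    have h3 := (Nat.factorization_le_iff_dvd Nat.card_pos.ne' Nat.card_pos.ne').mpr h2 p
    have h4 := H8.factorization_card_eq (p := p) (Subgroup.center P)
    have h5 := H8.factorization_card_eq (p := p) (Subgroup.centralizer (SetLike.coe R))
    have h6 := H8.factorization_card_eq (p := p) (P : Subgroup G)
    have h7 := (Nat.factorization_le_iff_dvd Nat.card_pos.ne' Nat.card_pos.ne').mpr
      (Subgroup.card_quotient_dvd_card (pPrimeCore p G)) p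
    rw [Nat.factorization_eq_zero_of_not_dvd P.not_dvd_index] at h6
    omega
  · intro G _ _ B T B' _ hB hB' a1 a2 a3 _ ih D hD χ hχ
    obtain ⟨ψ, b1, b2⟩ := (a1 χ).mp hχ
    obtain ⟨D', hD'⟩ := H8.exists_isDefectGroup (p := p) hB'
    obtain ⟨x, rfl⟩ := H8.isDefectGroup_exists_cg_eq hM hB (a2 D' hD') hD
    rw [b2, (a3 ψ b1).2]
    exact (ih D' hD' ψ b1).trans (le_of_eq (by rw [index_center_congr
      ((D'.equivMapOfInjective _ T.subtype_injective).trans (H9.cgEquiv rfl))]))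

end Fong

end Cfsg.Agent.H7
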