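import Mathlib

/-! A small calculus of finite presentations with a bounded number of relations. -/

set_option autoImplicit false

namespace Cfsg.Agent.H7.Pr
open Subgroup Polynomial
open FreeGroup (lift of lift_apply_of)

universe u v
variable {G : Type u} [Group G] {ι κ : Type}

/-- `P` follows from at most `r` relations that hold for `s`. -/
def Rl (s : ι → G) (r : ℕ) (P : ∀ (H : Type) [Group H], (ι → H) → Prop) : Prop :=
  ∃ R : Finset (FreeGroup ι), R.card ≤ r ∧ (∀ ρ ∈ R, lift s ρ = 1) ∧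
    ∀ (H : Type) [Group H] (x : ι → H), (∀ ρ ∈ R, lift x ρ = 1) → P H x

/-- `G` has a presentation on `s` with at most `r` relations. -/
def Pres (s : ι → G) (r : ℕ) : Prop :=
  closure (Set.range s) = ⊤ ∧ Rl s r fun H _ x => ∃ φ : G →* H, ∀ i, φ (s i) = x i

variable {s : ι → G} {r r' : ℕ} {P Q : ∀ (H : Type) [Group H], (ι → H) → Prop}

theorem Rl.and (h : Rl s r P) (h' : Rl s r' Q) : Rl s (r + r') fun H _ x => P H x ∧ Q H x := by
  classical
  obtain ⟨R, a, b, c⟩ := h
  obtain ⟨R', a', b', c'⟩ := h'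
  refine ⟨R ∪ R', (Finset.card_union_le _ _).trans (add_le_add a a'), fun ρ hρ => ?_,
    fun H _ x hx => ⟨c H x fun ρ hρ => hx ρ (Finset.mem_union_left _ hρ),
      c' H x fun ρ hρ => hx ρ (Finset.mem_union_right _ hρ)⟩⟩
  rcases Finset.mem_union.1 hρ with h | h
  exacts [b ρ h, b' ρ h]

theorem Rl.mono (h : Rl s r P) (hr : r ≤ r') (hp : ∀ (H : Type) [Group H] (x : ι → H), P H x → Q H x) :
    Rl s r' Q := by
  obtain ⟨R, a, b, c⟩ := h
  exact ⟨R, a.trans hr, b, fun H _ x hx => hp H x (c H x hx)⟩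

theorem Rl.eq (a b : FreeGroup ι) (h : lift s a = lift s b) :
    Rl s 1 fun _ _ x => lift x a = lift x b := by
  refine ⟨{a * b⁻¹}, by simp, by simp [h], fun H _ x hx => ?_⟩
  have := hx _ (Finset.mem_singleton_self _)
  rwa [map_mul, map_inv, mul_inv_eq_one] at this

theorem Rl.triv : Rl s 0 fun _ _ _ => True := ⟨∅, by simp, by simp, fun _ _ _ _ => trivial⟩

theorem Rl.all {α : Type*} (S : Finset α) (a b : α → FreeGroup ι)
    (h : ∀ i ∈ S, lift s (a i) = lift s (b i)) :
    Rl s S.card fun _ _ x => ∀ i ∈ S, lift x (a i) = lift x (b i) := by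
  classical
  induction S using Finset.induction_on with
  | empty => exact Rl.triv.mono le_rfl (by simp)
  | insert i S hi ih =>
    refine ((Rl.eq (a i) (b i) (h i (by simp))).and (ih fun j hj => h j (by simp [hj]))).mono
      (by rw [Finset.card_insert_of_notMem hi]; omega) fun H _ x hx j hj => ?_
    rcases Finset.mem_insert.1 hj with rfl | hj
    exacts [hx.1, hx.2 j hj]

theorem lift_lift {H : Type v} [Group H] {K : Type*} [Group K] {k : κ → K} {W : κ → FreeGroup ι}
    {x : ι → H} {φ : K →* H} (h : ∀ c, φ (k c) = lift x (W c)) (w : FreeGroup κ) :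
    lift x (lift W w) = φ (lift k w) := by
  have : (lift x).comp (lift W) = φ.comp (lift k) := FreeGroup.ext_hom _ _ fun c => by simp [h]
  exact DFunLike.congr_fun this w

theorem exists_word {K : Type*} [Group K] {k : κ → K} (hk : closure (Set.range k) = ⊤) (g : K) :
    ∃ w : FreeGroup κ, lift k w = g := by
  have : g ∈ (lift k).range := by rw [FreeGroup.range_lift_eq_closure, hk]; trivial
  exact this

theorem Rl.sub {K : Type*} [Group K] {k : κ → K} (hk : Pres k r) (W : κ → FreeGroup ι)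
    (j : K →* G) (hj : ∀ c, j (k c) = lift s (W c)) :
    Rl s r fun H _ x => ∃ φ : K →* H, ∀ c, φ (k c) = lift x (W c) := by
  classical
  obtain ⟨-, R, a, b, c⟩ := hk
  refine ⟨R.image (lift W), Finset.card_image_le.trans a, fun ρ hρ => ?_, fun H _ x hx => ?_⟩
  · obtain ⟨w, hw, rfl⟩ := Finset.mem_image.1 hρ
    rw [lift_lift hj, b w hw, map_one]
  · refine c H (fun i => lift x (W i)) fun w hw => ?_
    have := hx _ (Finset.mem_image_of_mem _ hw)
    rwa [lift_lift (k := fun i => lift x (W i)) (φ := MonoidHom.id H) (fun _ => rfl)] at this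

theorem Pres.mono (h : Pres s r) (hr : r ≤ r') : Pres s r' := ⟨h.1, h.2.mono hr fun _ _ _ h => h⟩

theorem Pres.out (h : Pres s r) : ∃ rels : Finset (FreeGroup ι), rels.card ≤ r ∧
    ∃ e : PresentedGroup (↑rels : Set (FreeGroup ι)) ≃* G, ∀ i, e (PresentedGroup.of i) = s i := by
  obtain ⟨hs, R, a, b, c⟩ := h
  obtain ⟨φ, hφ⟩ := c (PresentedGroup (↑R : Set (FreeGroup ι))) PresentedGroup.of fun ρ hρ => by
    have : lift (PresentedGroup.of : ι → PresentedGroup (↑R : Set (FreeGroup ι))) =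
        PresentedGroup.mk _ := FreeGroup.ext_hom _ _ fun c => by simp; rfl
    rw [this]; exact PresentedGroup.one_of_mem hρ
  let ψ := PresentedGroup.toGroup (f := s) (rels := (↑R : Set (FreeGroup ι))) b
  have p : ∀ i, ψ (PresentedGroup.of i) = s i := fun i => PresentedGroup.toGroup.of b
  refine ⟨R, a, MonoidHom.toMulEquiv ψ φ (PresentedGroup.ext fun i => by simp [p, hφ])
    (MonoidHom.eq_of_eqOn_dense hs ?_), p⟩
  rintro _ ⟨i, rfl⟩
  simp [p, hφ]

theorem Pres.out' (h : Pres s r) : ∃ rels : Finset (FreeGroup ι), rels.card ≤ r ∧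
    Nonempty (PresentedGroup (↑rels : Set (FreeGroup ι)) ≃* G) := by
  obtain ⟨R, a, e, -⟩ := h.out
  exact ⟨R, a, ⟨e⟩⟩

theorem Pres.change' (h : Pres s r) {t : κ → G} (ht : closure (Set.range t) = ⊤) (K : Finset κ)
    (v : ι → FreeGroup κ) (hv : ∀ i, lift t (v i) = s i) (hK : ∀ k ∉ K, ∃ i, v i = of k) :
    Pres t (r + K.card) := by
  choose w hw using exists_word h.1
  have hv' : ∀ i, (MonoidHom.id G) (s i) = lift t (v i) := fun i => (hv i).symm
  refine ⟨ht, ((Rl.sub h v (MonoidHom.id G) hv').and (Rl.all K of (fun k => lift v (w (t k)))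
    fun k _ => by rw [lift_lift hv', hw]; simp)).mono le_rfl ?_⟩
  rintro H _ x ⟨⟨φ, hφ⟩, h2⟩
  refine ⟨φ, fun k => ?_⟩
  by_cases hk : k ∈ K
  · have := h2 k hk
    rw [lift_lift hφ, hw] at this
    simpa using this.symm
  · obtain ⟨i, hi⟩ := hK k hk
    have := hv i
    rw [hi, lift_apply_of] at this
    rw [this, hφ, hi, lift_apply_of]

theorem Pres.change [Fintype κ] (h : Pres s r) {t : κ → G} (ht : closure (Set.range t) = ⊤) :
    Pres t (r + Fintype.card κ) := by
  choose v hv using exists_word ht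
  exact h.change' ht Finset.univ (fun i => v (s i)) (fun i => hv _) (by simp)

/-- add `k` dummy generators -/
theorem Pres.pad {g : ℕ} {s : Fin g → G} (h : Pres s r) (k : ℕ) :
    ∃ t : Fin (g + k) → G, Pres t (r + k) := by
  classical
  refine ⟨Fin.append s fun _ => 1, (h.change' (t := Fin.append s fun _ : Fin k => 1) ?_
    (Finset.univ.image (Fin.natAdd g)) (fun i => of (Fin.castAdd k i)) (by simp) ?_).mono ?_⟩
  · rw [eq_top_iff, ← h.1]
    refine closure_mono ?_
    rintro _ ⟨i, rfl⟩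
    exact ⟨Fin.castAdd k i, by simp⟩
  · intro j hj
    induction j using Fin.addCases with
    | left i => exact ⟨i, rfl⟩
    | right i => simp at hj
  · exact add_le_add le_rfl (Finset.card_image_le.trans (by simp))

theorem Pres.quot {G' : Type v} [Group G'] (h : Pres s r) (f : G →* G') (hf : Function.Surjective f)
    (z : G) (hz : f z = 1) (hk : ∀ N : Subgroup G, N.Normal → z ∈ N → f.ker ≤ N) :
    Pres (fun i => f (s i)) (r + 1) := by
  obtain ⟨w, hw⟩ := exists_word h.1 z
  have hj : ∀ c, f (s c) = lift (fun i => f (s i)) (of c) := by simp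
  have hl : ∀ w : FreeGroup ι, lift (of : ι → FreeGroup ι) w = w := fun w => FreeGroup.lift_of_apply w
  refine ⟨?_, ((Rl.sub h of f hj).and (Rl.eq w 1 ?_)).mono le_rfl ?_⟩
  · have : Set.range (fun i => f (s i)) = f '' Set.range s := by ext; simp
    rw [this, ← MonoidHom.map_closure, h.1, Subgroup.map_top_of_surjective _ hf]
  · rw [← hl w, lift_lift hj, hw, hz, map_one]
  · rintro H _ x ⟨⟨φ, hφ⟩, h2⟩
    rw [← hl w, lift_lift hφ, hw, map_one] at h2
    have hle : f.ker ≤ φ.ker := hk _ inferInstance h2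
    refine ⟨f.liftOfSurjective hf ⟨φ, hle⟩, fun i => ?_⟩
    rw [MonoidHom.liftOfSurjective, MonoidHom.liftOfRightInverse_comp_apply]
    simpa using hφ i

theorem Pres.equiv {G' : Type v} [Group G'] (h : Pres s r) (e : G ≃* G') :
    Pres (fun i => e (s i)) r := by
  have hj : ∀ c, e.toMonoidHom (s c) = lift (fun i => e (s i)) (of c) := by simp
  refine ⟨?_, (Rl.sub h of e.toMonoidHom hj).mono le_rfl ?_⟩
  · have : Set.range (fun i => e (s i)) = e.toMonoidHom '' Set.range s := by ext; simp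
    rw [this, ← MonoidHom.map_closure, h.1, Subgroup.map_top_of_surjective _ e.surjective]
  · rintro H _ x ⟨φ, hφ⟩
    exact ⟨φ.comp e.symm.toMonoidHom, fun i => by simpa using hφ i⟩

/-- quotient by a cyclic centre -/
theorem Pres.modCenter (h : Pres s r) [IsCyclic (center G)] :
    Pres (fun i => (QuotientGroup.mk' (center G)) (s i)) (r + 1) := by
  obtain ⟨z, hz⟩ := IsCyclic.exists_generator (α := center G)
  refine h.quot _ (QuotientGroup.mk'_surjective _) z ((QuotientGroup.eq_one_iff _).2 z.2)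
    fun N _ hN g hg => ?_
  rw [QuotientGroup.ker_mk'] at hg
  obtain ⟨n, hn⟩ := hz ⟨g, hg⟩
  have : g = (z : G) ^ n := by simpa using congrArg Subtype.val hn.symm
  rw [this]; exact N.zpow_mem hN n

/-! ### Additive groups of finite fields -/

section Add
variable {H : Type v} [Group H]

/-- the word `∏ (t^i u t^-i)^(P_i)` -/
def pw (u t : H) (P : ℤ[X]) : H :=
  ((List.range (P.natDegree + 1)).map fun i => (t ^ i * u * (t ^ i)⁻¹) ^ P.coeff i).prod

theorem map_pw {H' : Type*} [Group H'] (f : H →* H') (u t : H) (P : ℤ[X]) :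
    f (pw u t P) = pw (f u) (f t) P := by
  simp [pw, map_list_prod, Function.comp_def]

/-- additive maps into a group -/
def IsAdd {M : Type*} [AddGroup M] (x : M → H) : Prop := ∀ a b, x (a + b) = x a * x b

theorem IsAdd.zero {M : Type*} [AddGroup M] {x : M → H} (h : IsAdd x) : x 0 = 1 := by
  have := h 0 0
  rwa [add_zero, left_eq_mul] at this

theorem IsAdd.neg {M : Type*} [AddGroup M] {x : M → H} (h : IsAdd x) (a : M) : x (-a) = (x a)⁻¹ := by
  rw [eq_inv_iff_mul_eq_one, ← h, neg_add_cancel, h.zero]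

theorem IsAdd.zsmul {M : Type*} [AddGroup M] {x : M → H} (h : IsAdd x) (a : M) (n : ℤ) :
    x (n • a) = x a ^ n := by
  induction n using Int.induction_on with
  | zero => simp [h.zero]
  | succ n ih => rw [add_zsmul, one_zsmul, h, ih, zpow_add_one]
  | pred n ih => rw [sub_zsmul, one_zsmul, h, ih, h.neg, zpow_sub_one]

theorem IsAdd.comm {M : Type*} [AddCommGroup M] {x : M → H} (h : IsAdd x) (a b : M) :
    Commute (x a) (x b) := by
  rw [Commute, SemiconjBy, ← h, ← h, add_comm]

theorem pw_eq {M : Type*} [AddCommGroup M] {x : M → H} (h : IsAdd x) {t : H} (τ : M → M)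
    (hτ : ∀ m, x (τ m) = t * x m * t⁻¹) (m : M) (P : ℤ[X]) :
    pw (x m) t P = x (∑ i ∈ Finset.range (P.natDegree + 1), P.coeff i • τ^[i] m) := by
  have a : ∀ i, x (τ^[i] m) = t ^ i * x m * (t ^ i)⁻¹ := fun i => by
    induction i with
    | zero => simp
    | succ i ih => rw [Function.iterate_succ_apply', hτ, ih, pow_succ']; group
  unfold pw
  induction P.natDegree + 1 with
  | zero => simp [h.zero]
  | succ n ih =>
    rw [List.range_succ, List.map_append, List.prod_append, ih, Finset.sum_range_succ, h, h.zsmul, a]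
    simp

variable {F : Type*} [Field F]

theorem pw_field {x : F → H} (h : IsAdd x) {t : H} {ζ : F} (hτ : ∀ c, x (ζ * c) = t * x c * t⁻¹)
    (P : ℤ[X]) : pw (x 1) t P = x (aeval ζ P) := by
  rw [pw_eq h (fun c => ζ * c) hτ, aeval_eq_sum_range]
  congr 1
  refine Finset.sum_congr rfl fun i _ => ?_
  congr 1
  induction i with
  | zero => simp
  | succ i ih => rw [Function.iterate_succ_apply', ih (by simp_all; omega), pow_succ']

theorem exists_min (p : ℕ) [Fact p.Prime] [CharP F p] [Finite F] (ζ : F) :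
    ∃ m : ℤ[X], aeval ζ m = 0 ∧ ∀ P : ℤ[X], aeval ζ P = 0 → ∃ A B : ℤ[X], P = A * m + B * C (p : ℤ) := by
  letI := ZMod.algebra F p
  have hs : Function.Surjective (Int.castRingHom (ZMod p)) := ZMod.intCast_surjective
  have ev : ∀ P : ℤ[X], aeval ζ (P.map (Int.castRingHom (ZMod p))) = aeval ζ P := fun P => by
    have := aeval_map_algebraMap (ZMod p) ζ P
    rwa [algebraMap_int_eq] at this
  obtain ⟨m, hm⟩ := Polynomial.map_surjective _ hs (minpoly (ZMod p) ζ)
  refine ⟨m, by rw [← ev, hm, minpoly.aeval], fun P hP => ?_⟩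
  obtain ⟨A', hA⟩ := minpoly.dvd (ZMod p) ζ ((ev P).trans hP)
  obtain ⟨A, rfl⟩ := Polynomial.map_surjective _ hs A'
  have : C (p : ℤ) ∣ P - A * m := by
    rw [C_dvd_iff_dvd_coeff]
    intro i
    rw [← ZMod.intCast_zmod_eq_zero_iff_dvd]
    have : (P - A * m).map (Int.castRingHom (ZMod p)) = 0 := by
      rw [Polynomial.map_sub, Polynomial.map_mul, hA, hm]; ring
    have := congrArg (fun Q => Q.coeff i) this
    rwa [coeff_map, coeff_zero] at this
  obtain ⟨B, hB⟩ := this
  exact ⟨A, B, by linear_combination hB⟩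

theorem exists_add {u t : H} {ζ : F} {p : ℕ} {m : ℤ[X]} (hζ : ∀ c : F, ∃ P : ℤ[X], aeval ζ P = c)
    (hm : ∀ P : ℤ[X], aeval ζ P = 0 → ∃ A B : ℤ[X], P = A * m + B * C (p : ℤ))
    (hc : ∀ i : ℕ, Commute u (t ^ i * u * (t ^ i)⁻¹)) (h1 : u ^ p = 1) (h2 : pw u t m = 1) :
    ∃ x : F → H, IsAdd x ∧ x 1 = u ∧ ∀ c, x (ζ * c) = t * x c * t⁻¹ := by
  let S : Set H := Set.range fun i : ℕ => t ^ i * u * (t ^ i)⁻¹
  have key : ∀ i k : ℕ, Commute (t ^ i * u * (t ^ i)⁻¹) (t ^ (i + k) * u * (t ^ (i + k))⁻¹) :=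
    fun i k => by
      have := (hc k).map (MulAut.conj (t ^ i))
      simp only [MulAut.conj_apply] at this
      convert this using 1
      rw [pow_add]; group
  have hS : ∀ a ∈ S, ∀ b ∈ S, a * b = b * a := by
    rintro _ ⟨i, rfl⟩ _ ⟨j, rfl⟩
    rcases le_total i j with h | h <;> obtain ⟨k, rfl⟩ := Nat.exists_eq_add_of_le h
    exacts [(key i k).eq, (key j k).eq.symm]
  letI : CommGroup (closure S) := closureCommGroupOfComm hS
  have hτ : ∀ a ∈ closure S, MulAut.conj t a ∈ closure S := fun a ha => by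
    have : (closure S).map (MulAut.conj t).toMonoidHom ≤ closure S := by
      rw [MonoidHom.map_closure]
      refine closure_mono ?_
      rintro _ ⟨_, ⟨i, rfl⟩, rfl⟩
      exact ⟨i + 1, by simp [pow_succ', mul_assoc]⟩
    exact this ⟨a, ha, rfl⟩
  let τ₀ : closure S →* closure S :=
    ((MulAut.conj t).toMonoidHom.comp (closure S).subtype).codRestrict _ fun a => hτ a a.2
  let τ : Module.End ℤ (Additive (closure S)) := (MonoidHom.toAdditive τ₀).toIntLinearMap
  let e : Additive (closure S) → H := fun a => (a.toMul : H)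
  have he : IsAdd e := fun a b => rfl
  have heτ : ∀ a, e (τ a) = t * e a * t⁻¹ := fun a => rfl
  let u₀ : Additive (closure S) := Additive.ofMul ⟨u, subset_closure ⟨0, by simp⟩⟩
  have hinj : ∀ a, e a = 1 → a = 0 := fun a ha => Additive.toMul.injective (Subtype.ext ha)
  have z1 : aeval τ m u₀ = 0 := hinj _ <| by
    rw [← h2, show u = e u₀ from rfl, pw_eq he τ heτ, aeval_eq_sum_range]
    simp [Module.End.pow_apply]
  have z2 : aeval τ (C (p : ℤ)) u₀ = 0 := hinj _ <| by
    rw [aeval_C, Module.algebraMap_end_apply, he.zsmul, zpow_natCast]; exact h1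
  have wd : ∀ P Q : ℤ[X], aeval ζ P = aeval ζ Q → aeval τ P u₀ = aeval τ Q u₀ := fun P Q h => by
    obtain ⟨A, B, hAB⟩ := hm (P - Q) (by rw [map_sub, h, sub_self])
    rw [← sub_eq_zero, ← LinearMap.sub_apply, ← map_sub, hAB, map_add, map_mul, map_mul]
    simp only [LinearMap.add_apply, Module.End.mul_apply, z1, z2, map_zero, add_zero]
  choose f hf using hζ
  refine ⟨fun c => e (aeval τ (f c) u₀), fun a b => ?_, ?_, fun c => ?_⟩
  · simp only
    rw [wd _ (f a + f b) (by simp [hf]), map_add, LinearMap.add_apply, he]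
  · simp only
    rw [wd _ 1 (by simp [hf]), map_one]; rfl
  · simp only
    rw [wd _ (X * f c) (by simp [hf]), map_mul, aeval_X, Module.End.mul_apply, heτ]

/-- Baumslag's commutation trick -/
theorem baumslag {u t s : H} (hst : Commute s t) (h1 : Commute u (t * u * t⁻¹))
    (h2 : s * u * s⁻¹ = u * (t * u * t⁻¹)) (i : ℕ) : Commute u (t ^ i * u * (t ^ i)⁻¹) := by
  induction i using Nat.strong_induction_on with
  | _ i ih =>
  match i with
  | 0 => simp
  | 1 => simpa using h1
  | i + 2 =>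
    have cj : ∀ k : ℕ, s * (t ^ k * u * (t ^ k)⁻¹) * s⁻¹ =
        (t ^ k * u * (t ^ k)⁻¹) * (t ^ (k + 1) * u * (t ^ (k + 1))⁻¹) := fun k => by
      have c := (hst.pow_right k).eq
      calc _ = (s * t ^ k) * u * (s * t ^ k)⁻¹ := by group
        _ = t ^ k * (s * u * s⁻¹) * (t ^ k)⁻¹ := by rw [c]; group
        _ = _ := by rw [h2, pow_succ]; group
    have sh : ∀ k : ℕ, k < i + 2 → Commute (t * u * t⁻¹) (t ^ (k + 1) * u * (t ^ (k + 1))⁻¹) :=
      fun k hk => by
        have := (ih k hk).map (MulAut.conj t)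
        simp only [MulAut.conj_apply] at this
        convert this using 1
        rw [pow_succ']; group
    have a := (ih (i + 1) (by omega)).map (MulAut.conj s)
    simp only [MulAut.conj_apply] at a
    rw [h2, cj] at a
    have b : Commute u (t ^ (i + 1) * u * (t ^ (i + 1))⁻¹ * (t ^ (i + 2) * u * (t ^ (i + 2))⁻¹)) := by
      have := a.mul_left ((sh i (by omega)).mul_right (sh (i + 1) (by omega))).inv_left
      rwa [mul_inv_cancel_right] at this
    have := (ih (i + 1) (by omega)).inv_right.mul_right b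
    rwa [inv_mul_cancel_left] at this

theorem comm_of_pow {u t : H} {n : ℤ} (h : t * u * t⁻¹ = u ^ n) (i : ℕ) :
    Commute u (t ^ i * u * (t ^ i)⁻¹) := by
  have : ∃ k : ℤ, t ^ i * u * (t ^ i)⁻¹ = u ^ k := by
    induction i with
    | zero => exact ⟨1, by simp⟩
    | succ i ih =>
      obtain ⟨k, hk⟩ := ih
      refine ⟨n * k, ?_⟩
      rw [zpow_mul, ← h, conj_zpow, ← hk, pow_succ']; group
  obtain ⟨k, hk⟩ := this
  rw [hk]; exact (Commute.refl u).zpow_right k

/-- an element commuting with `t` acts by a scalar once it does so on `x 1` -/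
theorem conj_of_one {x : F → H} (h : IsAdd x) {t g : H} {ζ η : F}
    (hζ : ∀ c : F, ∃ P : ℤ[X], aeval ζ P = c) (hτ : ∀ c, x (ζ * c) = t * x c * t⁻¹)
    (hg : Commute g t) (h1 : g * x 1 * g⁻¹ = x η) (c : F) : x (η * c) = g * x c * g⁻¹ := by
  obtain ⟨P, rfl⟩ := hζ c
  have ha : IsAdd fun c => x (η * c) := fun a b => by simp only [mul_add]; exact h _ _
  have a := pw_field ha (t := t) (ζ := ζ) (fun c => by rw [mul_left_comm, hτ]) P
  have b := map_pw (MulAut.conj g).toMonoidHom (x 1) t P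
  simp only [MulEquiv.toMonoidHom_eq_coe, MonoidHom.coe_coe, MulAut.conj_apply] at b
  rw [← a, ← pw_field h hτ, b, h1, mul_one, hg.eq, mul_inv_cancel_right]

/-- the two relations making `x` out of commuting conjugates -/
theorem Rl.add [Finite F] (U T : FreeGroup ι) {y : F → G} (hy : IsAdd y) (hU : y 1 = lift s U) {ζ : F}
    (hζ : ∀ c : F, ∃ P : ℤ[X], aeval ζ P = c) (hT : ∀ c, y (ζ * c) = lift s T * y c * (lift s T)⁻¹) :
    Rl s 2 fun H _ x => lift x U ^ ringChar F = 1 ∧
      ((∀ i : ℕ, Commute (lift x U) (lift x T ^ i * lift x U * (lift x T ^ i)⁻¹)) →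
      ∃ z : F → H, IsAdd z ∧ z 1 = lift x U ∧ ∀ c, z (ζ * c) = lift x T * z c * (lift x T)⁻¹) := by
  haveI : Fact (ringChar F).Prime := ⟨CharP.char_is_prime F _⟩
  obtain ⟨m, hm, hm'⟩ := exists_min (ringChar F) ζ
  refine ((Rl.eq (U ^ ringChar F) 1 ?_).and (Rl.eq (pw U T m) 1 ?_)).mono le_rfl ?_
  · rw [map_pow, ← hU, ← zpow_natCast, ← hy.zsmul]; simp [hy.zero]
  · rw [map_pw, ← hU, pw_field hy hT, hm, hy.zero, map_one]
  · rintro H _ x ⟨a, b⟩
    rw [map_pow, map_one] at a
    rw [map_pw, map_one] at b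
    exact ⟨a, fun hc => exists_add hζ hm' hc a b⟩

theorem gen_of_generator {ω : Fˣ} (hω : ∀ u : Fˣ, u ∈ zpowers ω) [Finite F] (c : F) :
    ∃ P : ℤ[X], aeval (ω : F) P = c := by
  by_cases h : c = 0
  · exact ⟨0, by simp [h]⟩
  obtain ⟨n, hn⟩ := (mem_powers_iff_mem_zpowers.2 (hω (Units.mk0 c h)))
  exact ⟨X ^ n, by simpa using congrArg Units.val hn⟩

end Add

end Cfsg.Agent.H7.Pr
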