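import Mathlib
import Cfsg.Agent.H7.Pr1
import Cfsg.Agent.H19.CoxA

/-! Carmichael's presentation of the alternating groups. -/

set_option autoImplicit false

namespace Cfsg.Agent.H7.Pr
open Subgroup Equiv Equiv.Perm

universe v
variable {H : Type v} [Group H]

theorem braid_aux {a b c f g : H} (hf : f = a * b * a) (hg : g = b * c * b) (h1 : f * f = 1)
    (h2 : f * b * f = a) (h3 : f * c = c * f) (h4 : g * b * g = c) (h5 : g * a = a * g) :
    f * g * f = g * f * g := by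
  calc _ = f * b * 1 * c * 1 * b * f := by rw [hg]; group
    _ = (f * b * f) * (f * c) * f * (f * b * f) := by rw [← h1]; group
    _ = a * c * (f * f) * a := by rw [h2, h3]; group
    _ = a * (g * b * g) * a := by rw [h1, h4, mul_one]
    _ = (a * g) * b * (g * a) := by group
    _ = (g * a) * b * (a * g) := by rw [h5]
    _ = _ := by rw [hf]; group

theorem star_nat {m : ℕ} (t : ℕ → H) (h1 : ∀ i < m, t i * t i = 1)
    (h2 : ∀ i < m, ∀ j < m, i ≠ j → t i * t j * t i = t j * t i * t j)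
    (h3 : ∀ i < m, ∀ j < m, ∀ k < m, i ≠ j → i ≠ k → j ≠ k → Commute (t i * t j * t i) (t k)) :
    ∃ φ : Perm (Fin (m + 1)) →* H, ∀ i : Fin m, φ (swap 0 i.succ) = t i := by
  let s : ℕ → H := fun i => match i with
    | 0 => t 0
    | k + 1 => t k * t (k + 1) * t k
  have inv : ∀ i < m, (t i)⁻¹ = t i := fun i hi => inv_eq_of_mul_eq_one_left (h1 i hi)
  have c1 : ∀ k, k + 1 < m → s (k + 1) * t k * s (k + 1) = t (k + 1) := fun k hk => by
    have a := h1 k (by omega)
    have b := h1 (k + 1) hk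
    have c := h2 k (by omega) (k + 1) hk (by omega)
    calc _ = t k * t (k + 1) * (t k * t k) * (t k * t (k + 1) * t k) := by simp only [s]; group
      _ = (t k * t (k + 1) * t k) * t (k + 1) * t k := by rw [a]; group
      _ = t (k + 1) * t k * (t (k + 1) * t (k + 1)) * t k := by rw [c]; group
      _ = t (k + 1) * (t k * t k) := by rw [b]; group
      _ = _ := by rw [a, mul_one]
  have sq : ∀ i < m, s i * s i = 1 := fun i hi => by
    match i with
    | 0 => exact h1 0 hi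
    | k + 1 =>
      calc _ = t k * t (k + 1) * (t k * t k) * t (k + 1) * t k := by simp only [s]; group
        _ = t k * (t (k + 1) * t (k + 1)) * t k := by rw [h1 k (by omega)]; group
        _ = 1 := by rw [h1 _ hi, mul_one, h1 k (by omega)]
  have c2 : ∀ k, k + 1 < m → s (k + 1) * t (k + 1) * s (k + 1) = t k := fun k hk => by
    rw [← c1 k hk]
    calc _ = (s (k + 1) * s (k + 1)) * t k * (s (k + 1) * s (k + 1)) := by group
      _ = _ := by rw [sq _ hk]; simp
  have cm : ∀ k j, k + 1 < m → j < m → j ≠ k → j ≠ k + 1 → Commute (s (k + 1)) (t j) :=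
    fun k j hk hj a b => h3 k (by omega) (k + 1) hk j hj (by omega) a.symm b.symm
  obtain ⟨φ, hφ, -⟩ := H19.CoxA.exists_hom (s := s) (n := m) ⟨sq, fun i hi => by
    match i with
    | 0 =>
      rw [show s 0 = t 0 from rfl, c1 0 hi]
      calc _ = (t 0 * t 0) * t 1 * (t 0 * t 0) := by simp only [s]; group
        _ = _ := by rw [h1 0 (by omega)]; simp
    | k + 1 =>
      exact braid_aux rfl rfl (sq (k + 1) (by omega)) (c2 k (by omega))
        (cm k (k + 2) (by omega) hi (by omega) (by omega)).eq (c1 (k + 1) hi)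
        (cm (k + 1) k hi (by omega) (by omega) (by omega)).eq, fun i j hij hj => by
    obtain ⟨j, rfl⟩ : ∃ k, j = k + 1 := ⟨j - 1, by omega⟩
    match i with
    | 0 => exact (cm j 0 hj (by omega) (by omega) (by omega)).symm
    | k + 1 =>
      have a := cm j k hj (by omega) (by omega) (by omega)
      exact ((a.mul_right (cm j (k + 1) hj (by omega) (by omega) (by omega))).mul_right a).symm⟩
  refine ⟨φ, fun ⟨i, hi⟩ => ?_⟩
  induction i with
  | zero => rw [← show s 0 = t 0 from rfl, ← hφ 0 hi, H19.adjSwap, dif_pos hi]; rfl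
  | succ k ih =>
    rw [← c1 k hi, ← ih (by omega), ← hφ _ hi, ← map_mul, ← map_mul, H19.adjSwap, dif_pos hi]
    congr 1
    rw [swap_comm 0]
    exact (swap_mul_swap_mul_swap (x := 0) (y := Fin.castSucc ⟨k + 1, hi⟩) (z := Fin.succ ⟨k + 1, hi⟩)
      (by simp [Fin.ext_iff]) (by simp [Fin.ext_iff])).symm

variable {Ω : Type} [Fintype Ω] [DecidableEq Ω]

theorem star_hom (β : Ω) (t : Ω → H) (h1 : ∀ i, i ≠ β → t i * t i = 1)
    (h2 : ∀ i j, i ≠ β → j ≠ β → i ≠ j → t i * t j * t i = t j * t i * t j)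
    (h3 : ∀ i j k, i ≠ β → j ≠ β → k ≠ β → i ≠ j → i ≠ k → j ≠ k → Commute (t i * t j * t i) (t k)) :
    ∃ φ : Perm Ω →* H, ∀ i, i ≠ β → φ (swap β i) = t i := by
  obtain ⟨m, hm⟩ : ∃ m, Fintype.card Ω = m + 1 :=
    ⟨Fintype.card Ω - 1, by have : 0 < Fintype.card Ω := Fintype.card_pos_iff.2 ⟨β⟩; omega⟩
  let e₀ := Fintype.equivFinOfCardEq hm
  let e := e₀.trans (swap (e₀ β) 0)
  have he : e β = 0 := by simp [e]
  let g : ℕ → Ω := fun k => if h : k < m then e.symm (Fin.succ ⟨k, h⟩) else β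
  have g1 : ∀ k < m, g k ≠ β := fun k hk h => by
    simp only [g, dif_pos hk, Equiv.symm_apply_eq, he] at h; exact Fin.succ_ne_zero _ h
  have g2 : ∀ k < m, ∀ l < m, k ≠ l → g k ≠ g l := fun k hk l hl h => by
    simpa [g, dif_pos hk, dif_pos hl] using h
  obtain ⟨φ, hφ⟩ := star_nat (m := m) (fun k => t (g k)) (fun i hi => h1 _ (g1 i hi))
    (fun i hi j hj a => h2 _ _ (g1 i hi) (g1 j hj) (g2 i hi j hj a))
    fun i hi j hj k hk a b c => h3 _ _ _ (g1 i hi) (g1 j hj) (g1 k hk) (g2 i hi j hj a)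
      (g2 i hi k hk b) (g2 j hj k hk c)
  refine ⟨φ.comp e.permCongrHom.toMonoidHom, fun i hi => ?_⟩
  obtain ⟨k, hk⟩ := Fin.exists_succ_eq.2 (show e i ≠ 0 from fun h => hi (e.injective (h.trans he.symm)))
  have : e.permCongrHom (swap β i) = swap 0 k.succ := by
    rw [hk, ← he]; exact (e.permCongr_def _).trans (by
      ext x; simp [swap_apply_def, Equiv.symm_apply_eq])
  simp only [MonoidHom.comp_apply, MulEquiv.toMonoidHom_eq_coe, MonoidHom.coe_coe, this, hφ]
  simp only [g, dif_pos k.2, Fin.eta, hk, Equiv.symm_apply_apply]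

/-- the 3-cycles of Carmichael's presentation -/
def c3 (α β i : Ω) : alternatingGroup Ω :=
  if h : α ≠ β ∧ i ≠ β then ⟨swap β i * swap β α, by
    simp [mem_alternatingGroup, sign_swap h.1.symm, sign_swap h.2.symm]⟩ else 1

variable {α β : Ω}

theorem c3_val (h : α ≠ β) {i : Ω} (hi : i ≠ β) : (c3 α β i : Perm Ω) = swap β i * swap β α := by
  simp [c3, h, hi]

theorem c3_beta : c3 α β β = 1 := by simp [c3]

theorem c3_alpha : c3 α β α = 1 := by
  by_cases h : α ≠ β <;> simp [c3, h]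

theorem c3_conj (h : α ≠ β) {σ : Perm Ω} (h1 : σ α = α) (h2 : σ β = β) (i : Ω) :
    σ * c3 α β i * σ⁻¹ = c3 α β (σ i) := by
  by_cases hi : i = β
  · simp [hi, h2, c3_beta]
  have : σ i ≠ β := fun e => hi (σ.injective (e.trans h2.symm))
  rw [c3_val h hi, c3_val h this]
  calc _ = (σ * swap β i * σ⁻¹) * (σ * swap β α * σ⁻¹) := by group
    _ = _ := by rw [← swap_apply_apply, ← swap_apply_apply, h1, h2]

theorem c3_swap (h : α ≠ β) (i : Ω) : swap β α * c3 α β i * (swap β α)⁻¹ = (c3 α β i : Perm Ω)⁻¹ := by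
  by_cases hi : i = β
  · simp [hi, c3_beta]
  rw [c3_val h hi]; simp [mul_assoc]

theorem c3_gen (h : α ≠ β) : closure (Set.range (c3 α β)) = ⊤ := by
  let K := (closure (Set.range (c3 α β))).map (alternatingGroup Ω).subtype
  have m : ∀ i, (c3 α β i : Perm Ω) ∈ K := fun i => ⟨_, subset_closure ⟨i, rfl⟩, rfl⟩
  have nK : ∀ g ∈ K, swap β α * g * (swap β α)⁻¹ ∈ K := by
    rintro _ ⟨g, hg, rfl⟩
    induction hg using closure_induction with
    | mem x hx => obtain ⟨i, rfl⟩ := hx; exact (c3_swap h i).symm ▸ inv_mem (m i)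
    | one => simp
    | mul x y _ _ a b => convert mul_mem a b using 1; simp only [map_mul]; group
    | inv x _ a => convert inv_mem a using 1; simp only [map_inv]; group
  let P : Perm Ω → Prop := fun σ => σ ∈ K ∨ σ * swap β α ∈ K
  have pm : ∀ a b, P a → P b → P (a * b) := by
    rintro a b (ha | ha) (hb | hb)
    · exact Or.inl (mul_mem ha hb)
    · exact Or.inr (by rw [mul_assoc]; exact mul_mem ha hb)
    · exact Or.inr (by convert mul_mem ha (nK _ hb) using 1; simp [mul_assoc])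
    · exact Or.inl (by convert mul_mem ha (nK _ hb) using 1; simp [mul_assoc])
  have ps : ∀ i, P (swap β i) := fun i => by
    by_cases hi : i = β
    · exact Or.inl (by rw [hi, swap_self]; exact one_mem K)
    · exact Or.inr (c3_val h hi ▸ m i)
  have all : ∀ σ, P σ := fun σ => by
    induction σ using swap_induction_on with
    | one => exact Or.inl (one_mem K)
    | swap_mul f x y hxy ih =>
      refine pm _ _ ?_ ih
      by_cases hx : x = β
      · exact hx ▸ ps y
      by_cases hy : y = β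
      · rw [hy, swap_comm]; exact ps x
      rw [← swap_mul_swap_mul_swap (x := y) (y := β) (z := x) hy hxy.symm, swap_comm y β]
      exact pm _ _ (pm _ _ (ps x) (ps y)) (ps x)
  rw [eq_top_iff]
  rintro g -
  rcases all g with ⟨k, hk, e⟩ | ⟨k, hk, e⟩
  · exact (Subtype.ext e : k = g) ▸ hk
  · have := congrArg sign e
    simp [mem_alternatingGroup.1 g.2, mem_alternatingGroup.1 k.2, sign_swap h.symm] at this

theorem alt_ext {M : Type*} [Monoid M] (h : α ≠ β) {f g : alternatingGroup Ω →* M}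
    (e : ∀ i, i ≠ α → i ≠ β → f (c3 α β i) = g (c3 α β i)) : f = g := by
  refine MonoidHom.eq_of_eqOn_dense (c3_gen h) ?_
  rintro _ ⟨i, rfl⟩
  by_cases h1 : i = α
  · simp [h1, c3_alpha]
  by_cases h2 : i = β
  · simp [h2, c3_beta]
  exact e i h1 h2

theorem carm (h : α ≠ β) (x : Ω → H) (h3 : ∀ i, i ≠ α → i ≠ β → x i ^ 3 = 1)
    (h2 : ∀ i j, i ≠ α → i ≠ β → j ≠ α → j ≠ β → i ≠ j → (x i * x j) ^ 2 = 1) :
    ∃ Φ : alternatingGroup Ω →* H, ∀ i, i ≠ α → i ≠ β → Φ (c3 α β i) = x i := by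
  let y : Ω → H := fun i => if i = α then 1 else x i
  let t : Ω → H ≀ᵣ ℤˣ := fun i => ⟨fun e => y i ^ (e : ℤ), -1⟩
  have ex : ∀ a b : H ≀ᵣ ℤˣ, a.right = b.right → a.left 1 = b.left 1 → a.left (-1) = b.left (-1) →
      a = b := fun a b r l l' => RegularWreathProduct.ext
        (funext fun e => by rcases Int.units_eq_one_or e with rfl | rfl; exacts [l, l']) r
  have y3 : ∀ i, i ≠ β → y i * y i = (y i)⁻¹ := fun i hi => by
    by_cases ha : i = α
    · simp [y, ha]
    · simp only [y, if_neg ha]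
      rw [eq_inv_iff_mul_eq_one, ← h3 i ha hi]; simp [pow_succ]
  have y2 : ∀ i j, i ≠ α → i ≠ β → j ≠ α → j ≠ β → i ≠ j → y i * y j * y i = (y j)⁻¹ :=
    fun i j a b c d e => by
      simp only [y, if_neg a, if_neg c]
      rw [eq_inv_iff_mul_eq_one, ← h2 i j a b c d e]; simp [pow_succ, mul_assoc]
  have ya : y α = 1 := by simp [y]
  have br : ∀ a b : H, a * a = a⁻¹ → b * b = b⁻¹ → a * b * a = b⁻¹ → b * a * b = a⁻¹ →
      a * b⁻¹ * a = b * a⁻¹ * b := fun a b h1 h2 h3 h4 => by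
    calc _ = a * (a * b * a) * a := by rw [h3]
      _ = (a * a) * b * (a * a) := by group
      _ = (b * a * b) * b * (b * a * b) := by rw [h1, h4]
      _ = b * a * (b * b) * b * a * b := by group
      _ = b * (a * a) * b := by rw [h2]; group
      _ = _ := by rw [h1]
  have k1 : ∀ i j, i ≠ β → j ≠ β → i ≠ j → y i * (y j)⁻¹ * y i = y j * (y i)⁻¹ * y j :=
    fun i j a b c => by
      by_cases hi : i = α
      · rw [hi, ya]; simp [y3 j b]
      by_cases hj : j = α
      · rw [hj, ya]; simp [y3 i a]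
      exact br _ _ (y3 i a) (y3 j b) (y2 i j hi a hj b c) (y2 j i hj b hi a c.symm)
  have k2 : ∀ i j k, i ≠ β → j ≠ β → k ≠ β → i ≠ j → i ≠ k → j ≠ k →
      y i * (y j)⁻¹ * y i * (y k)⁻¹ = y k * ((y i)⁻¹ * y j * (y i)⁻¹) := fun i j k a b c d e f => by
    by_cases hi : i = α
    · rw [hi, ya]
      have := y2 j k (hi ▸ d.symm) b (hi ▸ e.symm) c f
      simp only [one_mul, mul_one, inv_one]
      rw [← this]; group
    by_cases hj : j = α
    · rw [hj, ya]
      have := y2 k i (hj ▸ f.symm) c hi a e.symm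
      simp only [mul_one, inv_one]
      rw [y3 i a, ← mul_inv_rev (y i) (y i), y3 i a, inv_inv, ← this]; group
    have e1 : y i * (y j)⁻¹ * y i = (y i)⁻¹ * y j * (y i)⁻¹ := by
      rw [← y2 i j hi a hj b d, ← y3 i a]; group
    by_cases hk : k = α
    · rw [hk, ya, e1]; simp
    have e2 := y2 i k hi a hk c e
    have e3 := y2 j k hj b hk c f
    rw [e1]
    calc _ = (y i)⁻¹ * y j * (y i)⁻¹ * (y i * y k * y i) := by rw [e2]
      _ = (y i)⁻¹ * (y j * y k * y j) * (y j)⁻¹ * y i := by group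
      _ = (y i * y k * y i)⁻¹ * (y i * (y j)⁻¹ * y i) := by rw [e3]; group
      _ = _ := by rw [e2, e1, inv_inv]
  obtain ⟨φ, hφ⟩ := star_hom β t (fun i _ => ex _ _ (by simp [t]) (by simp [t]) (by simp [t]))
    (fun i j a b c => ex _ _ (by simp [t]) (by simpa [t] using k1 i j a b c) (by
      have := congrArg (·⁻¹) (k1 i j a b c)
      simpa [t, mul_assoc] using this))
    fun i j k a b c d e f => ex _ _ (by simp [t]) (by simpa [t] using k2 i j k a b c d e f) (by
      have := k2 i j k a b c d e f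
      rw [mul_inv_eq_iff_eq_mul, mul_assoc (y k), ← inv_mul_eq_iff_eq_mul] at this
      simpa [t, mul_assoc] using this.symm)
  have v : ∀ i, i ≠ β → φ (c3 α β i) = t i * t α := fun i hi => by
    rw [c3_val h hi, map_mul, hφ i hi, hφ α h]
  have r : (RegularWreathProduct.rightHom.comp φ).comp (alternatingGroup Ω).subtype = 1 :=
    alt_ext h fun i _ hi => by simp [v i hi, t]
  have r' : ∀ g : alternatingGroup Ω, (φ g).right = 1 := fun g => DFunLike.congr_fun r g
  refine ⟨MonoidHom.mk' (fun g => (φ g).left 1) fun a b => by simp [r'], fun i hi hi' => ?_⟩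
  simp [v i hi', t, ya, y, hi]

theorem ext_two {G : Type*} [Group G] {N : Subgroup G} [N.Normal] {g : G} (hg : g ∉ N)
    (h2 : ∀ a, a ∈ N ∨ a * g⁻¹ ∈ N) (Φ : N →* H) {y : H}
    (hy : ∀ n n' : N, (n' : G) = g * n * g⁻¹ → Φ n' = y * Φ n * y⁻¹)
    (hq : ∀ n : N, (n : G) = g * g → Φ n = y * y) :
    ∃ Ψ : G →* H, (∀ n : N, Ψ n = Φ n) ∧ Ψ g = y := by
  let R : G → H → Prop := fun a b => ∃ n : N, (a = n ∧ b = Φ n) ∨ (a = n * g ∧ b = Φ n * y)
  have ex : ∀ a, ∃ b, R a b := fun a => by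
    rcases h2 a with h | h
    · exact ⟨_, ⟨a, h⟩, Or.inl ⟨rfl, rfl⟩⟩
    · exact ⟨_, ⟨_, h⟩, Or.inr ⟨by simp, rfl⟩⟩
  have ne : ∀ n m : N, (n : G) ≠ m * g := fun n m e => hg (by
    rw [← inv_mul_eq_iff_eq_mul.2 e]; exact mul_mem (inv_mem m.2) n.2)
  have un : ∀ a b c, R a b → R a c → b = c := by
    rintro a b c ⟨n, ⟨rfl, rfl⟩ | ⟨rfl, rfl⟩⟩ ⟨m, ⟨e, rfl⟩ | ⟨e, rfl⟩⟩
    · rw [Subtype.ext e]
    · exact absurd e (ne _ _)
    · exact absurd e.symm (ne _ _)
    · rw [Subtype.ext (mul_right_cancel e)]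
  have gg : g * g ∈ N := by
    rcases h2 (g * g) with h | h
    · exact h
    · simp [hg] at h
  have cj : ∀ m : N, g * m * g⁻¹ ∈ N := fun m => Normal.conj_mem inferInstance _ m.2 g
  have ml : ∀ a b c d, R a b → R c d → R (a * c) (b * d) := by
    rintro a b c d ⟨n, ⟨rfl, rfl⟩ | ⟨rfl, rfl⟩⟩ ⟨m, ⟨rfl, rfl⟩ | ⟨rfl, rfl⟩⟩
    · exact ⟨n * m, Or.inl ⟨rfl, by simp⟩⟩
    · exact ⟨n * m, Or.inr ⟨by simp [mul_assoc], by simp [mul_assoc]⟩⟩
    · exact ⟨n * ⟨_, cj m⟩, Or.inr ⟨by simp [mul_assoc], by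
        rw [map_mul, hy m ⟨_, cj m⟩ rfl]; group⟩⟩
    · exact ⟨n * ⟨_, cj m⟩ * ⟨_, gg⟩, Or.inl ⟨by simp [mul_assoc], by
        rw [map_mul, map_mul, hy m ⟨_, cj m⟩ rfl, hq ⟨_, gg⟩ rfl]; group⟩⟩
  choose f hf using ex
  exact ⟨MonoidHom.mk' f fun a b => un _ _ _ (hf _) (ml _ _ _ _ (hf a) (hf b)),
    fun n => un _ _ _ (hf _) ⟨n, Or.inl ⟨rfl, rfl⟩⟩, un _ _ _ (hf _) ⟨1, Or.inr ⟨by simp, by simp⟩⟩⟩

theorem alt_or {g : Perm Ω} (hg : g ∉ alternatingGroup Ω) (a : Perm Ω) :
    a ∈ alternatingGroup Ω ∨ a * g⁻¹ ∈ alternatingGroup Ω := by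
  rw [mem_alternatingGroup] at hg
  have := (Int.units_eq_one_or _).resolve_left hg
  rcases Int.units_eq_one_or (sign a) with h | h <;> simp [mem_alternatingGroup, h, this]

/-- the embedding of alternating groups along an embedding of the points -/
noncomputable def jA {Ω' : Type} [Fintype Ω'] [DecidableEq Ω'] (ι : Ω' ↪ Ω) :
    alternatingGroup Ω' →* alternatingGroup Ω :=
  ((viaEmbeddingHom ι).comp (alternatingGroup Ω').subtype).codRestrict _ fun g => by
    have := mem_alternatingGroup.1 g.2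
    simpa [mem_alternatingGroup, viaEmbeddingHom_apply, viaEmbedding] using this

theorem jA_val {Ω' : Type} [Fintype Ω'] [DecidableEq Ω'] (ι : Ω' ↪ Ω) (g : alternatingGroup Ω') :
    (jA ι g : Perm Ω) = viaEmbeddingHom ι g := rfl

theorem via_swap {Ω' : Type} [DecidableEq Ω'] (ι : Ω' ↪ Ω) (a b : Ω') :
    viaEmbeddingHom ι (swap a b) = swap (ι a) (ι b) := by
  ext x
  rw [viaEmbeddingHom_apply]
  by_cases h : x ∈ Set.range ι
  · obtain ⟨y, rfl⟩ := h
    rw [viaEmbedding_apply, ι.injective.swap_apply]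
  · rw [viaEmbedding_apply_of_notMem _ _ _ h, swap_apply_of_ne_of_ne] <;>
      rintro rfl <;> exact h ⟨_, rfl⟩

theorem jA_c3 {Ω' : Type} [Fintype Ω'] [DecidableEq Ω'] (ι : Ω' ↪ Ω) {α β : Ω'} (h : α ≠ β) (i : Ω') :
    jA ι (c3 α β i) = c3 (ι α) (ι β) (ι i) := by
  by_cases hi : i = β
  · simp [hi, c3_beta]
  apply Subtype.ext
  rw [jA_val, c3_val h hi, c3_val (ι.injective.ne h) (ι.injective.ne hi), map_mul, via_swap, via_swap]

theorem c3_cube (h : α ≠ β) {i : Ω} (h1 : i ≠ α) (h2 : i ≠ β) : c3 α β i ^ 3 = 1 := by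
  apply Subtype.ext
  have := (isThreeCycle_swap_mul_swap_same h2.symm h.symm h1).orderOf
  rw [Subgroup.coe_pow, c3_val h h2, ← this, pow_orderOf_eq_one]; rfl

theorem c3_pair (h : α ≠ β) {i j : Ω} (h1 : i ≠ α) (h2 : i ≠ β) (h3 : j ≠ α) (h4 : j ≠ β)
    (h5 : i ≠ j) : (c3 α β i * c3 α β j) ^ 2 = 1 := by
  apply Subtype.ext
  rw [Subgroup.coe_pow, Subgroup.coe_mul, c3_val h h2, c3_val h h4]
  have a : swap β α * (swap β j * swap β α) = swap α j := by
    rw [← mul_assoc, swap_comm β j]; exact swap_mul_swap_mul_swap h4 h3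
  have b : Commute (swap β i) (swap α j) := (disjoint_swap_swap (by
    simp [h.symm, h1, h2.symm, h3.symm, h4.symm, h5])).commute
  rw [mul_assoc, a, b.mul_pow, sq, sq, swap_mul_self, swap_mul_self, one_mul]; rfl

end Cfsg.Agent.H7.Pr
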