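import Mathlib
import Cfsg.Agent.H7.Pr3

/-! A presentation of `A_{p+2}` with two generators and four relations. -/

set_option autoImplicit false

namespace Cfsg.Agent.H7.Pr
open Subgroup Equiv Equiv.Perm
open FreeGroup (lift of lift_apply_of)

universe v
variable {H : Type v} [Group H]

theorem pow_wd {N : ℕ} {a : H} (h : a ^ N = 1) {i j : ℕ} (e : (i : ZMod N) = j) : a ^ i = a ^ j := by
  rw [pow_eq_pow_mod i h, pow_eq_pow_mod j h, (ZMod.natCast_eq_natCast_iff' i j N).1 e]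

theorem sq_conj {u v : H} (g : H) (h : (u * v) ^ 2 = 1) : (g * u * g⁻¹ * (g * v * g⁻¹)) ^ 2 = 1 := by
  rw [show g * u * g⁻¹ * (g * v * g⁻¹) = g * (u * v) * g⁻¹ by group, conj_pow, h]; simp

theorem sq_swap {u v : H} (h : (u * v) ^ 2 = 1) : (v * u) ^ 2 = 1 := by
  rw [show v * u = v * (u * v) * v⁻¹ by group, conj_pow, h]; simp

theorem sq_inv {u v : H} (h : (u⁻¹ * v⁻¹) ^ 2 = 1) : (u * v) ^ 2 = 1 := by
  rw [← mul_inv_rev, inv_pow, inv_eq_one] at h; exact sq_swap h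

theorem ap_core {p r : ℕ} [Fact p.Prime] (hg : ∀ d : ZMod p, d ≠ 0 → ∃ j : ℕ, (r : ZMod p) ^ j = d)
    (hr : Even r) {a z b : H} (hb : Commute (a ^ p) b) (h1 : a ^ p = z ^ 3) (h2 : b * a * b⁻¹ = a ^ r)
    (h3 : b * z * b⁻¹ = z⁻¹) (h4 : (z * (a * z * a⁻¹)) ^ 2 = 1) :
    a ^ p = 1 ∧ z ^ 3 = 1 ∧ ∀ k l : ZMod p, k ≠ l →
      (a ^ k.val * z * (a ^ k.val)⁻¹ * (a ^ l.val * z * (a ^ l.val)⁻¹)) ^ 2 = 1 := by
  have c1 : b * a ^ p * b⁻¹ = a ^ p := by rw [← hb.eq]; simp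
  have c : a ^ p = 1 := by
    have e1 : a ^ p = (a ^ p) ^ r := by rw [← pow_mul, mul_comm, pow_mul, ← h2, conj_pow, c1]
    have e2 : a ^ p = (a ^ p)⁻¹ := by
      nth_rewrite 1 [← c1]; rw [h1, ← conj_pow, h3, inv_pow]
    obtain ⟨k, rfl⟩ := hr
    rw [e1, ← two_mul, pow_mul, sq]
    nth_rewrite 1 [e2]; simp
  refine ⟨c, h1 ▸ c, ?_⟩
  let X : ZMod p → H := fun k => a ^ k.val * z * (a ^ k.val)⁻¹
  have X1 : ∀ k m : ZMod p, X (m + k) = a ^ m.val * X k * (a ^ m.val)⁻¹ := fun k m => by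
    simp only [X]
    rw [pow_wd c (i := (m + k).val) (j := m.val + k.val) (by simp), pow_add]; group
  have X2 : ∀ k : ZMod p, b * X k * b⁻¹ = (X (r * k))⁻¹ := fun k => by
    simp only [X]
    rw [pow_wd c (i := ((r : ZMod p) * k).val) (j := r * k.val) (by simp), pow_mul, ← h2, conj_pow]
    calc _ = b * a ^ k.val * b⁻¹ * (b * z * b⁻¹) * (b * a ^ k.val * b⁻¹)⁻¹ := by group
      _ = _ := by rw [h3]; group
  have R : ∀ j : ℕ, (X 0 * X ((r : ZMod p) ^ j)) ^ 2 = 1 := fun j => by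
    induction j with
    | zero => simpa [X, ZMod.val_one] using h4
    | succ j ih =>
      have := sq_conj b ih
      rw [X2, X2, mul_zero, ← pow_succ'] at this
      exact sq_inv this
  intro k l hkl
  obtain ⟨j, hj⟩ := hg (l - k) (sub_ne_zero.2 hkl.symm)
  have := sq_conj (a ^ k.val) (R j)
  rwa [← X1, ← X1, hj, add_zero, add_sub_cancel] at this

theorem comm_lift {ι : Type} {x : ι → H} {c : H} (h : ∀ i, Commute c (x i)) (w : FreeGroup ι) :
    Commute c (lift x w) := by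
  have : lift x w ∈ centralizer {c} := by
    have := FreeGroup.range_lift_le (f := x) (s := centralizer {c}) (by
      rintro _ ⟨i, rfl⟩; exact mem_centralizer_singleton_iff.2 (h i).symm.eq)
    exact this ⟨w, rfl⟩
  exact (mem_centralizer_singleton_iff.1 this).symm

theorem sign_cyc {X : Type*} [Fintype X] [DecidableEq X] {f : Perm X} {x : X} (h1 : f x ≠ x)
    (h2 : ∀ y, f y ≠ y → ∃ n : ℕ, (f ^ n) x = y) (h3 : Even f.support.card) : sign f = -1 := by
  have : IsCycle f := ⟨x, h1, fun y hy => by obtain ⟨n, hn⟩ := h2 y hy; exact ⟨n, by simpa using hn⟩⟩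
  rw [this.sign, h3.neg_one_pow]

theorem add_pow' {N : ℕ} (n : ℕ) :
    (Equiv.addRight (1 : ZMod N)) ^ n = Equiv.addRight (n : ZMod N) := by
  induction n with
  | zero => ext; simp
  | succ n ih => rw [pow_succ', ih]; ext; simp [add_assoc]

theorem sign_odd {X : Type*} [Fintype X] [DecidableEq X] {f : Perm X} {n : ℕ} (h : f ^ n = 1)
    (hn : Odd n) : sign f = 1 := by
  have := congrArg sign h
  rcases Int.units_eq_one_or (sign f) with e | e
  · exact e
  · rw [map_pow, e, hn.neg_one_pow] at this; simp at this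

variable {Ω : Type} [Fintype Ω] [DecidableEq Ω]

theorem range2 {G : Type*} (a b : G) : Set.range ![a, b] = {a, b} := by
  ext x; simp [or_comm]

theorem presAp {p : ℕ} (hp : p.Prime) (h3 : 3 ≤ p) (hc : Fintype.card Ω = p + 2) {α β o γ : Ω}
    (h : α ≠ β) (ho : o ≠ α ∧ o ≠ β) (hγ : γ ≠ α ∧ γ ≠ β) (hoγ : o ≠ γ) :
    ∃ a b : alternatingGroup Ω, Pres ![a, c3 α β o] 4 ∧ a * c3 α β o * a⁻¹ = c3 α β γ ∧
      (b : Perm Ω) o = o ∧ ∀ S : Subgroup (alternatingGroup Ω), b ∈ S → c3 α β γ ∈ S →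
        ∀ i, i ≠ o → c3 α β i ∈ S := by
  haveI := Fact.mk hp
  have odd : Odd p := hp.odd_of_ne_two (by omega)
  obtain ⟨e, e0, e1⟩ : ∃ e : ZMod p ≃ {i // i ≠ α ∧ i ≠ β}, (e 0 : Ω) = o ∧ (e 1 : Ω) = γ := by
    have : Fintype.card {i // i ≠ α ∧ i ≠ β} = p := by
      rw [Fintype.card_of_subtype (Finset.univ \ {α, β}) (by simp), Finset.card_univ_diff,
        Finset.card_pair h, hc]; rfl
    let e₀ := Fintype.equivOfCardEq ((ZMod.card p).trans this.symm)
    have : e₀.symm ⟨γ, hγ⟩ - e₀.symm ⟨o, ho⟩ ≠ 0 := by simp [sub_eq_zero, hoγ.symm]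
    exact ⟨((Equiv.mulLeft₀ _ this).trans (Equiv.addLeft (e₀.symm ⟨o, ho⟩))).trans e₀, by simp, by simp⟩
  obtain ⟨ω, hω⟩ := IsCyclic.exists_generator (α := (ZMod p)ˣ)
  obtain ⟨r, hr, hrω⟩ : ∃ r : ℕ, Even r ∧ (r : ZMod p) = ω := by
    rcases Nat.even_or_odd (ω : ZMod p).val with a | a
    · exact ⟨_, a, by simp⟩
    · exact ⟨_, a.add_odd odd, by simp⟩
  have hg : ∀ d : ZMod p, d ≠ 0 → ∃ j : ℕ, (r : ZMod p) ^ j = d := fun d hd => by
    obtain ⟨n, hn⟩ := (mem_powers_iff_mem_zpowers.2 (hω (Units.mk0 d hd)))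
    exact ⟨n, by simpa [hrω] using congrArg Units.val hn⟩
  have r0 : (r : ZMod p) ≠ 0 := hrω ▸ ω.ne_zero
  have r1 : (r : ZMod p) ≠ 1 := fun e => by
    have two : (2 : ZMod p) ≠ 0 := fun e => by
      have := Nat.le_of_dvd two_pos ((ZMod.natCast_eq_zero_iff 2 p).1 (by exact_mod_cast e)); omega
    obtain ⟨j, hj⟩ := hg 2 two
    rw [e, one_pow] at hj
    exact one_ne_zero (α := ZMod p) (by linear_combination -hj)
  let E := extendDomainHom e
  have Ea : ∀ σ, E σ α = α := fun σ => extendDomain_apply_not_subtype _ _ (by simp)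
  have Eb : ∀ σ, E σ β = β := fun σ => extendDomain_apply_not_subtype _ _ (by simp)
  have Ee : ∀ σ k, E σ (e k) = e (σ k) := fun σ k => extendDomain_apply_image _ _ _
  have Es : ∀ σ, Commute (E σ) (swap β α) := fun σ => by
    rw [Commute, SemiconjBy, mul_swap_eq_swap_mul, Ea, Eb]
  have ap : ∀ n : ℕ, (Equiv.addRight (1 : ZMod p)) ^ n = Equiv.addRight (n : ZMod p) := add_pow'
  have ap' : (Equiv.addRight (1 : ZMod p)) ^ p = 1 := by rw [ap]; ext; simp
  let a : alternatingGroup Ω := ⟨E (Equiv.addRight 1), mem_alternatingGroup.2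
    (sign_odd (n := p) (by rw [← map_pow, ap', map_one]) odd)⟩
  have sb : sign (Equiv.mulLeft₀ (r : ZMod p) r0) = -1 := by
    have pw : ∀ n : ℕ, (Equiv.mulLeft₀ (r : ZMod p) r0 ^ n) 1 = (r : ZMod p) ^ n := fun n => by
      induction n with
      | zero => simp
      | succ n ih => rw [pow_succ', Perm.mul_apply, ih, pow_succ']; rfl
    refine sign_cyc (x := 1) (by simpa using r1) (fun y hy => ?_) ?_
    · obtain ⟨n, hn⟩ := hg y (by rintro rfl; simp at hy)
      exact ⟨n, by rw [pw, hn]⟩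
    · have : (Equiv.mulLeft₀ (r : ZMod p) r0).support = Finset.univ.erase 0 := by
        ext y; simp [mul_eq_right₀, r1, mul_left_eq_self₀]
      rw [this, Finset.card_erase_of_mem (by simp), Finset.card_univ, ZMod.card]
      exact Nat.Odd.sub_odd odd odd_one
  let b : alternatingGroup Ω := ⟨E (Equiv.mulLeft₀ (r : ZMod p) r0) * swap β α, by
    simp [mem_alternatingGroup, E, sb, sign_swap h.symm]⟩
  have ca : ∀ (n : ℕ) (k : ZMod p), a ^ n * c3 α β (e k) * (a ^ n)⁻¹ = c3 α β (e (k + n)) := fun n k =>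
    Subtype.ext <| by
      simp only [Subgroup.coe_mul, Subgroup.coe_inv, Subgroup.coe_pow, a, ← map_pow, ap]
      rw [c3_conj h (Ea _) (Eb _), Ee]; rfl
  have cb : ∀ k : ZMod p, b * c3 α β (e k) * b⁻¹ = (c3 α β (e (r * k)))⁻¹ := fun k =>
    Subtype.ext <| by
      have := c3_conj h (Ea (Equiv.mulLeft₀ (r : ZMod p) r0)) (Eb _) (e k)
      rw [Ee] at this
      simp only [Subgroup.coe_mul, Subgroup.coe_inv, b]
      generalize E (Equiv.mulLeft₀ (r : ZMod p) r0) = m at this ⊢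
      calc _ = m * (swap β α * c3 α β (e k) * (swap β α)⁻¹) * m⁻¹ := by group
        _ = (m * c3 α β (e k) * m⁻¹)⁻¹ := by rw [c3_swap h]; group
        _ = _ := by rw [this]; rfl
  have ba : b * a * b⁻¹ = a ^ r := Subtype.ext <| by
    simp only [Subgroup.coe_mul, Subgroup.coe_inv, Subgroup.coe_pow, a, b, ← map_pow, ap]
    rw [mul_assoc (E _), ← (Es _).eq, mul_inv_rev, swap_inv, mul_assoc, mul_assoc, ← mul_assoc (swap β α),
      swap_mul_self, one_mul, ← map_inv, ← map_mul, ← map_mul]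
    congr 1
    ext x; simp [mul_add, r0]
  have aP : a ^ p = 1 := Subtype.ext <| by
    simp only [Subgroup.coe_pow, a, ← map_pow, ap', map_one]; rfl
  let kk : Ω → ℕ := fun i => if h : i ≠ α ∧ i ≠ β then (e.symm ⟨i, h⟩).val else 0
  have kke : ∀ k, kk (e k) = k.val := fun k => by simp [kk, (e k).2]
  let W : Ω → FreeGroup (Fin 2) := fun i =>
    if i ≠ α ∧ i ≠ β then of 0 ^ kk i * of 1 * (of 0 ^ kk i)⁻¹ else 1
  have cases : ∀ i, i = α ∨ i = β ∨ ∃ k, i = e k := fun i => by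
    by_cases h : i ≠ α ∧ i ≠ β
    · exact Or.inr (Or.inr ⟨e.symm ⟨i, h⟩, by simp⟩)
    · tauto
  have hW : ∀ i, (MonoidHom.id _) (c3 α β i) = lift ![a, c3 α β o] (W i) := fun i => by
    rcases cases i with rfl | rfl | ⟨k, rfl⟩
    · simp [W, c3_alpha]
    · simp [W, c3_beta]
    · simp [W, (e k).2, kke, ← e0, ca]
  obtain ⟨wb, hwb⟩ := exists_word (c3_gen h) b
  have hb : lift ![a, c3 α β o] (lift W wb) = b := by rw [lift_lift hW, hwb]; rfl
  refine ⟨a, b, ⟨?_, ((Rl.eq (of 0 ^ p) (of 1 ^ 3) ?_).and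
    ((Rl.eq (lift W wb * of 0 * (lift W wb)⁻¹) (of 0 ^ r) ?_).and
    ((Rl.eq (lift W wb * of 1 * (lift W wb)⁻¹) (of 1)⁻¹ ?_).and
    (Rl.eq ((of 1 * (of 0 * of 1 * (of 0)⁻¹)) ^ 2) 1 ?_)))).mono le_rfl ?_⟩, ?_, ?_, ?_⟩
  · rw [eq_top_iff, ← c3_gen h, closure_le]
    rintro _ ⟨i, rfl⟩
    rw [← FreeGroup.range_lift_eq_closure]
    exact ⟨W i, (hW i).symm⟩
  · simp [aP, c3_cube h ho.1 ho.2]
  · simp [hb, ba]
  · simpa [hb, e0] using cb 0
  · have := ca 1 0
    simp only [pow_one, Nat.cast_one, zero_add, e0, e1] at this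
    simp [this, c3_pair h ho.1 ho.2 hγ.1 hγ.2 hoγ]
  · rintro H _ x ⟨q1, q2, q3, q4⟩
    simp only [map_mul, map_inv, map_pow, map_one, lift_apply_of] at q1 q2 q3 q4
    obtain ⟨k1, k2, k3⟩ := ap_core hg hr (comm_lift (fun i => by
      fin_cases i
      · exact (Commute.refl _).pow_left p
      · rw [q1]; exact (Commute.refl _).pow_left 3) _) q1 q2 q3 q4
    have xe : ∀ k, lift x (W (e k)) = x 0 ^ k.val * x 1 * (x 0 ^ k.val)⁻¹ := fun k => by
      simp [W, (e k).2, kke]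
    obtain ⟨Φ, hΦ⟩ := carm h (fun i => lift x (W i)) (fun i h1 h2 => by
      rcases cases i with rfl | rfl | ⟨k, rfl⟩
      · exact absurd rfl h1
      · exact absurd rfl h2
      · simp only [xe, conj_pow, k2]; simp) fun i j h1 h2 h3 h4 h5 => by
      rcases cases i with rfl | rfl | ⟨k, rfl⟩
      · exact absurd rfl h1
      · exact absurd rfl h2
      rcases cases j with rfl | rfl | ⟨l, rfl⟩
      · exact absurd rfl h3
      · exact absurd rfl h4
      simp only [xe]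
      exact k3 k l fun e => h5 (e ▸ rfl)
    have hΦ' : ∀ i, Φ (c3 α β i) = lift x (W i) := fun i => by
      rcases cases i with rfl | rfl | ⟨k, rfl⟩
      · simp [W, c3_alpha]
      · simp [W, c3_beta]
      · exact hΦ _ (e k).2.1 (e k).2.2
    have Φb : lift x (lift W wb) = Φ b := by rw [lift_lift hΦ', hwb]
    rw [Φb] at q2
    have cm : (MulAut.conj ((Φ a)⁻¹ * x 0)).toMonoidHom.comp Φ = Φ := alt_ext h fun i h1 h2 => by
      rcases cases i with rfl | rfl | ⟨k, rfl⟩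
      · exact absurd rfl h1
      · exact absurd rfl h2
      have := congrArg Φ (ca 1 k)
      simp only [pow_one, map_mul, map_inv, hΦ', xe, Nat.cast_one] at this
      rw [pow_wd k1 (i := (k + 1).val) (j := 1 + k.val) (by simp [add_comm]), pow_add, pow_one] at this
      simp only [MonoidHom.comp_apply, MulEquiv.toMonoidHom_eq_coe, MonoidHom.coe_coe,
        MulAut.conj_apply, hΦ', xe]
      calc _ = (Φ a)⁻¹ * (x 0 * x 0 ^ k.val * x 1 * (x 0 * x 0 ^ k.val)⁻¹) * Φ a := by group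
        _ = _ := by rw [← this]; group
    have cm' : ∀ g, Commute ((Φ a)⁻¹ * x 0) (Φ g) := fun g => by
      have := DFunLike.congr_fun cm g
      simp only [MonoidHom.comp_apply, MulEquiv.toMonoidHom_eq_coe, MonoidHom.coe_coe,
        MulAut.conj_apply, mul_inv_eq_iff_eq_mul] at this
      exact this
    obtain ⟨t, ht⟩ : ∃ t, t = (Φ a)⁻¹ * x 0 := ⟨_, rfl⟩
    rw [← ht] at cm'
    have x0 : x 0 = Φ a * t := by rw [ht]; group
    have t1 : t ^ p = 1 := by rwa [x0, (cm' a).symm.mul_pow, ← map_pow, aP, map_one, one_mul] at k1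
    have t2 : t ^ r = t ^ 1 := by
      rw [x0, (cm' a).symm.mul_pow, ← map_pow, ← ba, map_mul, map_mul, ← mul_assoc, mul_assoc _ t,
        ← map_inv, (cm' _).eq, ← mul_assoc] at q2
      rw [pow_one]; exact (mul_left_cancel q2).symm
    have t3 : t = 1 := by
      by_contra ne
      rw [pow_eq_pow_iff_modEq, orderOf_eq_prime t1 ne] at t2
      exact r1 (by simpa using (ZMod.natCast_eq_natCast_iff r 1 p).2 t2)
    refine ⟨Φ, fun i => ?_⟩
    fin_cases i
    · simp [x0, t3]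
    · simp [← e0, hΦ', xe]
  · simpa [e0, e1] using ca 1 0
  · simp only [b, Perm.mul_apply, swap_apply_of_ne_of_ne ho.2 ho.1]
    rw [← e0, Ee]; simp
  · intro S hb hγ i hi
    have : ∀ j : ℕ, c3 α β (e ((r : ZMod p) ^ j)) ∈ S := fun j => by
      induction j with
      | zero => rwa [pow_zero, e1]
      | succ j ih => rw [pow_succ', ← inv_mem_iff, ← cb]; exact mul_mem (mul_mem hb ih) (inv_mem hb)
    rcases cases i with rfl | rfl | ⟨k, rfl⟩
    · rw [c3_alpha]; exact one_mem _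
    · rw [c3_beta]; exact one_mem _
    · obtain ⟨j, rfl⟩ := hg k (by rintro rfl; exact hi e0)
      exact this j

end Cfsg.Agent.H7.Pr
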