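import Mathlib
import Cfsg.Agent.H7.Pr4
import Cfsg.Agent.H10.Cox

/-! Presentations of `A_n` and `S_n` with two generators and six relations. -/

set_option autoImplicit false

namespace Cfsg.Agent.H7.Pr
open Subgroup Equiv Equiv.Perm Sum
open FreeGroup (lift of lift_apply_of)

universe u v
variable {H : Type v} [Group H] {N : ℕ} [NeZero N] {F : Type} [Fintype F] [DecidableEq F] {α β : F}

/-- the rotation -/
def sh (N : ℕ) (F : Type) : Perm (ZMod N ⊕ F) := Perm.sumCongr (Equiv.addRight 1) 1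

omit [NeZero N] [Fintype F] [DecidableEq F] in
theorem sh_pow : sh N F ^ N = 1 := by
  have : sh N F = sumCongrHom _ _ (Equiv.addRight 1, 1) := rfl
  rw [this, ← map_pow, Prod.pow_mk, add_pow', one_pow]
  ext x; cases x <;> simp

theorem sh_c3 (h : α ≠ β) (i : ZMod N ⊕ F) :
    (c3 (inr α) (inr β) (sh N F i)).1 = sh N F * (c3 (inr α) (inr β) i).1 * (sh N F)⁻¹ :=
  (c3_conj (by simpa using h) rfl rfl i).symm

theorem cyc (h : α ≠ β) {y x0 : H} {z : F → H} (hy : y ^ N = 1) (h0 : x0 ^ 3 = 1)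
    (hz3 : ∀ γ, γ ≠ α → γ ≠ β → z γ ^ 3 = 1)
    (hz2 : ∀ γ δ, γ ≠ α → γ ≠ β → δ ≠ α → δ ≠ β → γ ≠ δ → (z γ * z δ) ^ 2 = 1)
    (hzy : ∀ γ, γ ≠ α → γ ≠ β → y * z γ * y⁻¹ = z γ)
    (hz0 : ∀ γ, γ ≠ α → γ ≠ β → (z γ * x0) ^ 2 = 1)
    (hp : ∀ i : ℕ, 0 < i → 2 * i ≤ N → (x0 * (y ^ i * x0 * (y ^ i)⁻¹)) ^ 2 = 1) :
    ∃ Φ : alternatingGroup (ZMod N ⊕ F) →* H,
      (∀ k : ZMod N, Φ (c3 (inr α) (inr β) (inl k)) = y ^ k.val * x0 * (y ^ k.val)⁻¹) ∧
      (∀ γ, γ ≠ α → γ ≠ β → Φ (c3 (inr α) (inr β) (inr γ)) = z γ) ∧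
      ∀ n n' : alternatingGroup (ZMod N ⊕ F), n'.1 = sh N F * n.1 * (sh N F)⁻¹ →
        Φ n' = y * Φ n * y⁻¹ := by
  have h' : (inr α : ZMod N ⊕ F) ≠ inr β := by simpa using h
  let X : ZMod N → H := fun k => y ^ k.val * x0 * (y ^ k.val)⁻¹
  have X1 : ∀ k m : ZMod N, X (m + k) = y ^ m.val * X k * (y ^ m.val)⁻¹ := fun k m => by
    simp only [X]
    rw [pow_wd hy (i := (m + k).val) (j := m.val + k.val) (by simp), pow_add]; group
  have X0 : X 0 = x0 := by simp [X]
  have zc : ∀ γ, γ ≠ α → γ ≠ β → ∀ n : ℕ, y ^ n * z γ * (y ^ n)⁻¹ = z γ := fun γ a b n => by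
    have : Commute y (z γ) := mul_inv_eq_iff_eq_mul.1 (hzy γ a b)
    rw [(this.pow_left n).eq]; simp
  have p1 : ∀ k l : ZMod N, k ≠ l → 2 * (l - k).val ≤ N → (X k * X l) ^ 2 = 1 := fun k l a b => by
    have := sq_conj (y ^ k.val) (hp _ (ZMod.val_pos.2 (sub_ne_zero.2 a.symm)) b)
    rwa [← X0, show y ^ (l - k).val * X 0 * (y ^ (l - k).val)⁻¹ = X (l - k) by rw [X0], ← X1, ← X1,
      add_zero, add_sub_cancel] at this
  have p2 : ∀ γ k, γ ≠ α → γ ≠ β → (z γ * X k) ^ 2 = 1 := fun γ k a b => by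
    have := sq_conj (y ^ k.val) (hz0 γ a b)
    rwa [zc γ a b] at this
  obtain ⟨Φ, hΦ⟩ := carm h' (Sum.elim X z) (by
    rintro (k | γ) a b
    · simp [X, h0]
    · exact hz3 γ (by simpa using a) (by simpa using b)) (by
    rintro (k | γ) (l | δ) a b c d e
    · have e : k ≠ l := by simpa using e
      by_cases f : 2 * (l - k).val ≤ N
      · exact p1 k l e f
      · refine sq_swap (p1 l k e.symm ?_)
        rw [← neg_sub, ZMod.neg_val, if_neg (sub_ne_zero.2 e.symm)]; omega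
    · exact sq_swap (p2 δ k (by simpa using c) (by simpa using d))
    · exact p2 γ l (by simpa using a) (by simpa using b)
    · exact hz2 γ δ (by simpa using a) (by simpa using b) (by simpa using c) (by simpa using d)
        (by simpa using e))
  have a1 : ∀ k, Φ (c3 (inr α) (inr β) (inl k)) = X k := fun k => hΦ _ (by simp) (by simp)
  have a2 : ∀ γ, γ ≠ α → γ ≠ β → Φ (c3 (inr α) (inr β) (inr γ)) = z γ := fun γ a b =>
    hΦ _ (by simpa using a) (by simpa using b)
  refine ⟨Φ, a1, a2, fun n n' e => ?_⟩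
  have : Φ.comp (MulAut.conjNormal (sh N F)).toMonoidHom = (MulAut.conj y).toMonoidHom.comp Φ :=
    alt_ext h' fun i a b => by
      have : MulAut.conjNormal (sh N F) (c3 (inr α) (inr β) i) = c3 (inr α) (inr β) (sh N F i) :=
        Subtype.ext (sh_c3 h i).symm
      simp only [MonoidHom.comp_apply, MulEquiv.toMonoidHom_eq_coe, MonoidHom.coe_coe,
        MulAut.conj_apply, this]
      rcases i with k | γ
      · rw [show sh N F (inl k) = inl (1 + k) by simp [sh, add_comm], a1, a1, X1,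
          pow_wd hy (i := (1 : ZMod N).val) (j := 1) (by simp), pow_one]
      · have a : γ ≠ α := by simpa using a
        have b : γ ≠ β := by simpa using b
        rw [show sh N F (inr γ) = inr γ from rfl, a2 γ a b, hzy γ a b]
  have := DFunLike.congr_fun this n
  rwa [show n' = MulAut.conjNormal (sh N F) n from Subtype.ext e]

theorem jj_inl {G : Type u} [Group G] (h : α ≠ β) (jj : alternatingGroup (ZMod N ⊕ F) →* G) {y : G}
    (hy : ∀ n n' : alternatingGroup (ZMod N ⊕ F), n'.1 = sh N F * n.1 * (sh N F)⁻¹ →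
      jj n' = y * jj n * y⁻¹) (n : ℕ) :
    jj (c3 (inr α) (inr β) (inl n)) = y ^ n * jj (c3 (inr α) (inr β) (inl 0)) * (y ^ n)⁻¹ := by
  induction n with
  | zero => simp
  | succ n ih =>
    have := hy _ _ (sh_c3 h (inl n))
    rw [show sh N F (inl (n : ZMod N)) = inl ((n + 1 : ℕ) : ZMod N) by simp [sh]] at this
    rw [this, ih, pow_succ']; group

theorem window {G : Type u} [Group G] {p L : ℕ} (hp : p.Prime) (h3 : 3 ≤ p)
    (hc : L + 1 + Fintype.card F = p + 2) (hL : L < N) (hN : N ≤ 2 * L + 1) (h3N : ¬ 3 ∣ N)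
    (h : α ≠ β) {γ : F} (hγ : γ ≠ α ∧ γ ≠ β) (jj : alternatingGroup (ZMod N ⊕ F) →* G) {y : G}
    (hyN : y ^ N = 1) (hy : ∀ n n' : alternatingGroup (ZMod N ⊕ F),
      n'.1 = sh N F * n.1 * (sh N F)⁻¹ → jj n' = y * jj n * y⁻¹) :
    ∃ (a : alternatingGroup (ZMod N ⊕ F)) (W : ZMod N ⊕ F → FreeGroup (Fin 2)) (Y : FreeGroup (Fin 2)),
      (∀ i, jj (c3 (inr α) (inr β) i) = lift ![jj a, y * jj (c3 (inr α) (inr β) (inr γ))] (W i)) ∧
      lift ![jj a, y * jj (c3 (inr α) (inr β) (inr γ))] Y = y ∧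
      Rl ![jj a, y * jj (c3 (inr α) (inr β) (inr γ))] 5 fun H _ x =>
        ∃ Φ : alternatingGroup (ZMod N ⊕ F) →* H, (∀ i, Φ (c3 (inr α) (inr β) i) = lift x (W i)) ∧
          Φ a = x 0 ∧ lift x Y * Φ (c3 (inr α) (inr β) (inr γ)) = x 1 ∧
          ∀ n n' : alternatingGroup (ZMod N ⊕ F), n'.1 = sh N F * n.1 * (sh N F)⁻¹ →
            Φ n' = lift x Y * Φ n * (lift x Y)⁻¹ := by
  obtain ⟨u, v, huv, hv⟩ : ∃ u v : ℤ, 3 * u + N * v = 1 ∧ v * v = 1 := by
    have : N % 3 = 1 ∨ N % 3 = 2 := by omega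
    rcases this with e | e
    · exact ⟨-(N / 3 : ℕ), 1, by omega, rfl⟩
    · exact ⟨(N / 3 : ℕ) + 1, -1, by omega, rfl⟩
  have h' : (inr α : Fin (L + 1) ⊕ F) ≠ inr β := by simpa using h
  let ι : Fin (L + 1) ⊕ F ↪ ZMod N ⊕ F := Function.Embedding.sumMap
    ⟨fun k => ((k : ℕ) : ZMod N), fun k l e => Fin.ext (by
      have := congrArg ZMod.val e
      rwa [ZMod.val_natCast_of_lt (by omega), ZMod.val_natCast_of_lt (by omega)] at this)⟩
    (Function.Embedding.refl F)
  have jc : ∀ i, jA ι (c3 (inr α) (inr β) i) = c3 (inr α) (inr β) (ι i) := jA_c3 ι h'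
  obtain ⟨a, b, hP, hac, hbo, hS⟩ := presAp (Ω := Fin (L + 1) ⊕ F) hp h3 (by simpa using hc) h'
    (o := inl (Fin.last L)) (γ := inr γ) (by simp) (by simpa using hγ) (by simp)
  let ρ : Perm (Fin (L + 1) ⊕ F) := Perm.sumCongr (finRotate (L + 1)) 1
  have ρk : ∀ (k : ℕ) (hk : k < L), ρ (inl ⟨k, by omega⟩) = inl ⟨k + 1, by omega⟩ := fun k hk => by
    simp only [ρ, Perm.sumCongr_apply, Sum.map_inl, finRotate_of_lt hk]
  have ρc : ∀ i, MulAut.conjNormal ρ (c3 (inr α) (inr β) i) = c3 (inr α) (inr β) (ρ i) := fun i =>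
    Subtype.ext (c3_conj h' rfl rfl i)
  have hz : y * jj (c3 (inr α) (inr β) (inr γ)) * y⁻¹ = jj (c3 (inr α) (inr β) (inr γ)) :=
    (hy _ _ (sh_c3 h (inr γ))).symm
  have z3 : jj (c3 (inr α) (inr β) (inr γ)) ^ 3 = 1 := by
    rw [← map_pow, c3_cube (by simpa using h) (by simpa using hγ.1) (by simpa using hγ.2), map_one]
  have cm : Commute y (jj (c3 (inr α) (inr β) (inr γ))) := mul_inv_eq_iff_eq_mul.1 hz
  set s := ![jj (jA ι a), y * jj (c3 (inr α) (inr β) (inr γ))] with hs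
  let W' : Fin 2 → FreeGroup (Fin 2) := ![of 0, (of 0)⁻¹ * of 1 ^ (N * v) * of 0]
  have hj : ∀ c, (jj.comp (jA ι)) (![a, c3 (inr α) (inr β) (inl (Fin.last L))] c) = lift s (W' c) := by
    intro c
    fin_cases c
    · simp [W', hs]
    · have : c3 (inr α) (inr β) (inl (Fin.last L)) = a⁻¹ * c3 (inr α) (inr β) (inr γ) * a := by
        rw [← hac]; group
      simp only [W', hs, this, map_mul, map_inv, map_zpow, lift_apply_of, MonoidHom.comp_apply, jc,
        Fin.mk_one, Matrix.cons_val]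
      rw [cm.mul_zpow, zpow_mul, zpow_natCast, hyN, one_zpow, one_mul,
        show N * v = 1 + 3 * -u by omega, zpow_add, zpow_mul, zpow_ofNat, zpow_ofNat, z3]
      simp [ι]
  choose wd hwd using exists_word hP.1
  have hY : lift s (of 1 ^ (3 * u)) = y := by
    simp only [hs, map_zpow, lift_apply_of, Matrix.cons_val]
    rw [cm.mul_zpow, zpow_mul (jj _), zpow_ofNat, z3, one_zpow, mul_one,
      show 3 * u = 1 + N * -v by linarith, zpow_add, zpow_mul, zpow_natCast, hyN]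
    simp
  refine ⟨jA ι a, Sum.elim (fun k => (of 1 ^ (3 * u)) ^ k.val *
    lift W' (wd (c3 (inr α) (inr β) (inl 0))) * ((of 1 ^ (3 * u)) ^ k.val)⁻¹)
    fun δ => lift W' (wd (c3 (inr α) (inr β) (inr δ))), of 1 ^ (3 * u), ?_, hY,
    ((Rl.sub hP W' _ hj).and (Rl.eq (lift W' (wd (MulAut.conjNormal ρ b)))
      (of 1 ^ (3 * u) * lift W' (wd b) * (of 1 ^ (3 * u))⁻¹) ?_)).mono le_rfl ?_⟩
  · rw [← hs]
    rintro (k | δ)
    · have := jj_inl h jj hy k.val
      simp only [Sum.elim_inl, map_mul, map_inv, map_pow, hY, lift_lift hj, hwd, MonoidHom.comp_apply, jc]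
      rw [show ι (inl 0) = inl 0 from congrArg inl Nat.cast_zero]
      simpa using this
    · simp only [Sum.elim_inr, lift_lift hj, hwd, MonoidHom.comp_apply, jc]; rfl
  · simp only [map_mul, map_inv, hY, lift_lift hj, hwd, MonoidHom.comp_apply]
    refine hy _ _ ?_
    rw [jA_val, jA_val, MulAut.conjNormal_apply, map_mul, map_mul, map_inv]
    have : Perm.Disjoint ((viaEmbeddingHom ι ρ)⁻¹ * sh N F) (viaEmbeddingHom ι b) := fun x => by
      by_cases hx : x ∈ Set.range ι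
      · obtain ⟨i, rfl⟩ := hx
        by_cases hi : i = inl (Fin.last L)
        · right; rw [hi, viaEmbeddingHom_apply, viaEmbedding_apply, hbo]
        · left
          rw [Perm.mul_apply, Perm.inv_eq_iff_eq, viaEmbeddingHom_apply, viaEmbedding_apply]
          rcases i with ⟨k, hk⟩ | δ
          · rw [ρk k (by simp [Fin.ext_iff] at hi; omega)]
            exact congrArg inl (Nat.cast_succ k).symm
          · rfl
      · right; exact viaEmbedding_apply_of_notMem _ _ _ hx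
    have := this.commute.eq
    calc _ = viaEmbeddingHom ι ρ * (viaEmbeddingHom ι b * ((viaEmbeddingHom ι ρ)⁻¹ * sh N F)) *
        (sh N F)⁻¹ := by group
      _ = _ := by rw [← this]; group
  · rintro H _ x ⟨⟨φ, hφ⟩, q⟩
    simp only [map_mul, map_inv, lift_lift hφ, hwd] at q
    have f0 : φ a = x 0 := by simpa [W'] using hφ 0
    have f1 : φ (c3 (inr α) (inr β) (inr γ)) = x 1 ^ (N * v) := by
      have := hφ 1
      simp only [W', map_mul, map_inv, map_zpow, lift_apply_of, Matrix.cons_val] at this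
      rw [← hac, map_mul, map_mul, map_inv, f0, this]; group
    generalize hw : lift x (of 1 ^ (3 * u) : FreeGroup (Fin 2)) = w at q
    have hw' : w = x 1 ^ (3 * u) := by simp [← hw]
    have wN : w ^ N = 1 := by
      have := congrArg φ (c3_cube h' (i := inr γ) (by simpa using hγ.1) (by simpa using hγ.2))
      rw [map_pow, f1, map_one, ← zpow_natCast, ← zpow_mul] at this
      rw [hw', ← zpow_natCast, ← zpow_mul, show 3 * u * N = N * v * (3 : ℕ) * (v * u) by
        push_cast; linear_combination (-3 * u * N) * hv, zpow_mul, this, one_zpow]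
    have eq : ∀ i, i ≠ inl (Fin.last L) →
        φ (c3 (inr α) (inr β) (ρ i)) = w * φ (c3 (inr α) (inr β) i) * w⁻¹ := fun i hi => by
      have := hS (MonoidHom.eqLocus (φ.comp (MulAut.conjNormal ρ).toMonoidHom)
        ((MulAut.conj w).toMonoidHom.comp φ)) q (by
          show φ (MulAut.conjNormal ρ _) = w * φ _ * w⁻¹
          rw [ρc, show ρ (inr γ) = inr γ from rfl, f1, hw']; group) i hi
      rw [← ρc]; exact this
    have wk : ∀ (k : ℕ) (hk : k < L + 1), φ (c3 (inr α) (inr β) (inl ⟨k, hk⟩)) =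
        w ^ k * φ (c3 (inr α) (inr β) (inl 0)) * (w ^ k)⁻¹ := fun k hk => by
      induction k with
      | zero => simp
      | succ k ih =>
        rw [← ρk k (by omega), eq _ (by simp [Fin.ext_iff]; omega), ih, pow_succ']; group
    obtain ⟨Φ, a1, a2, a3⟩ := cyc h (y := w) (x0 := φ (c3 (inr α) (inr β) (inl 0)))
      (z := fun δ => φ (c3 (inr α) (inr β) (inr δ))) wN
      (by rw [← map_pow, c3_cube h' (by simp) (by simp), map_one])
      (fun δ a b => by rw [← map_pow, c3_cube h' (by simpa using a) (by simpa using b), map_one])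
      (fun δ ε a b c d e => by
        rw [← map_mul, ← map_pow, c3_pair h' (by simpa using a) (by simpa using b)
          (by simpa using c) (by simpa using d) (by simpa using e), map_one])
      (fun δ _ _ => (eq (inr δ) (by simp)).symm)
      (fun δ a b => by
        rw [← map_mul, ← map_pow, c3_pair h' (by simpa using a) (by simpa using b)
          (by simp) (by simp) (by simp), map_one])
      fun i a b => by
        rw [← wk i (by omega), ← map_mul, ← map_pow, c3_pair h' (by simp) (by simp)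
          (by simp) (by simp) (by simp [Fin.ext_iff]; omega), map_one]
    have cp : Φ.comp (jA ι) = φ := alt_ext h' fun i a b => by
      rw [MonoidHom.comp_apply, jc]
      rcases i with ⟨k, hk⟩ | δ
      · rw [wk, show ι (inl ⟨k, hk⟩) = inl (k : ZMod N) from rfl, a1,
          ZMod.val_natCast_of_lt (by omega)]
      · exact a2 δ (by simpa using a) (by simpa using b)
    refine ⟨Φ, ?_, by rw [← f0, ← cp]; rfl, ?_, a3⟩
    · rintro (k | δ)
      · simp only [Sum.elim_inl, map_mul, map_inv, map_pow, hw, lift_lift hφ, hwd, a1]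
      · simp only [Sum.elim_inr, lift_lift hφ, hwd]
        rw [← cp, MonoidHom.comp_apply, jc]; rfl
    · rw [a2 γ hγ.1 hγ.2, f1, hw', ← zpow_add, huv, zpow_one]

theorem top_of_words {G : Type u} [Group G] {ι κ : Type} {s : ι → G} {t : κ → G} {W : κ → FreeGroup ι}
    (h : ∀ i, t i = lift s (W i)) : closure (Set.range t) ≤ closure (Set.range s) := by
  rw [closure_le]
  rintro _ ⟨i, rfl⟩
  rw [← FreeGroup.range_lift_eq_closure]
  exact ⟨W i, (h i).symm⟩

theorem windowA {p L : ℕ} (hp : p.Prime) (h3 : 3 ≤ p)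
    (hc : L + 1 + Fintype.card F = p + 2) (hL : L < N) (hN : N ≤ 2 * L + 1) (h3N : ¬ 3 ∣ N)
    (h : α ≠ β) {γ : F} (hγ : γ ≠ α ∧ γ ≠ β) (ho : Odd N) :
    ∃ s : Fin 2 → alternatingGroup (ZMod N ⊕ F), Pres s 6 := by
  have h' : (inr α : ZMod N ⊕ F) ≠ inr β := by simpa using h
  let y : alternatingGroup (ZMod N ⊕ F) := ⟨sh N F, mem_alternatingGroup.2 (sign_odd sh_pow ho)⟩
  obtain ⟨a, W, Y, h1, h2, h4⟩ := window hp h3 hc hL hN h3N h hγ (MonoidHom.id _) (y := y)
    (Subtype.ext sh_pow) fun n n' e => Subtype.ext e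
  obtain ⟨w, hw⟩ := exists_word (c3_gen h') y
  refine ⟨_, top_unique ((c3_gen h').ge.trans (top_of_words h1)),
    (h4.and (Rl.eq Y (lift W w) (by rw [h2, lift_lift h1, hw]; rfl))).mono le_rfl ?_⟩
  rintro H _ x ⟨⟨Φ, a1, a2, a3, -⟩, q⟩
  rw [lift_lift a1, hw] at q
  refine ⟨Φ, fun i => ?_⟩
  fin_cases i
  · exact a2
  · simpa [q] using a3

theorem sh_odd (he : Even N) : sh N F ∉ alternatingGroup (ZMod N ⊕ F) := by
  have : Nontrivial (ZMod N) := ZMod.nontrivial_iff.2 (by rintro rfl; simp at he)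
  have : sign (Equiv.addRight (1 : ZMod N)) = -1 := by
    refine sign_cyc (x := 0) (by simp) (fun y _ => ⟨y.val, by simp [add_pow']⟩) ?_
    have : (Equiv.addRight (1 : ZMod N)).support = Finset.univ := by ext; simp
    rwa [this, Finset.card_univ, ZMod.card]
  simp [mem_alternatingGroup, sh, this]

theorem finS {ι : Type} {s : ι → Perm (ZMod N ⊕ F)} {r : ℕ} (h : α ≠ β) (he : Even N)
    {W : ZMod N ⊕ F → FreeGroup ι} {Y : FreeGroup ι}
    (h1 : ∀ i, (alternatingGroup _).subtype (c3 (inr α) (inr β) i) = lift s (W i))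
    (h2 : lift s Y = sh N F) {P : ∀ (H : Type) [Group H], (ι → H) → Prop} (h3 : Rl s r P)
    (h4 : ∀ (H : Type) [Group H] (x : ι → H), P H x → ∃ Φ : alternatingGroup (ZMod N ⊕ F) →* H,
      (∀ i, Φ (c3 (inr α) (inr β) i) = lift x (W i)) ∧
      (∀ n n' : alternatingGroup (ZMod N ⊕ F), n'.1 = sh N F * n.1 * (sh N F)⁻¹ →
        Φ n' = lift x Y * Φ n * (lift x Y)⁻¹) ∧ ∀ Ψ : Perm (ZMod N ⊕ F) →* H,
        (∀ n : alternatingGroup _, Ψ n = Φ n) → Ψ (sh N F) = lift x Y → ∀ i, Ψ (s i) = x i) :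
    Pres s (r + 1) := by
  have h' : (inr α : ZMod N ⊕ F) ≠ inr β := by simpa using h
  have o := sh_odd (F := F) he
  have m : sh N F * sh N F ∈ alternatingGroup (ZMod N ⊕ F) := by simp [mem_alternatingGroup]
  obtain ⟨w, hw⟩ := exists_word (c3_gen h') ⟨_, m⟩
  refine ⟨?_, (h3.and (Rl.eq (Y * Y) (lift W w) (by rw [map_mul, h2, lift_lift h1, hw]; rfl))).mono
    le_rfl ?_⟩
  · have a : ∀ g ∈ alternatingGroup (ZMod N ⊕ F), g ∈ closure (Set.range s) := fun g hg => by
      obtain ⟨w, hw⟩ := exists_word (c3_gen h') ⟨g, hg⟩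
      rw [← FreeGroup.range_lift_eq_closure]
      exact ⟨lift W w, by rw [lift_lift h1, hw]; rfl⟩
    have b : sh N F ∈ closure (Set.range s) := by
      rw [← FreeGroup.range_lift_eq_closure]; exact ⟨Y, h2⟩
    rw [eq_top_iff]
    rintro g -
    rcases alt_or o g with e | e
    · exact a g e
    · simpa using mul_mem (a _ e) b
  · rintro H _ x ⟨p, q⟩
    obtain ⟨Φ, a1, a2, a3⟩ := h4 H x p
    rw [map_mul, lift_lift a1, hw] at q
    obtain ⟨Ψ, b1, b2⟩ := ext_two o (alt_or o) Φ a2 fun n e => by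
      rw [q]; congr 1; exact Subtype.ext e
    exact ⟨Ψ, a3 Ψ b1 b2⟩

theorem windowS {p L : ℕ} (hp : p.Prime) (h3 : 3 ≤ p)
    (hc : L + 1 + Fintype.card F = p + 2) (hL : L < N) (hN : N ≤ 2 * L + 1) (h3N : ¬ 3 ∣ N)
    (h : α ≠ β) {γ : F} (hγ : γ ≠ α ∧ γ ≠ β) (he : Even N) :
    ∃ s : Fin 2 → Perm (ZMod N ⊕ F), Pres s 6 := by
  obtain ⟨a, W, Y, h1, h2, h4⟩ := window hp h3 hc hL hN h3N h hγ (alternatingGroup _).subtype
    (y := sh N F) sh_pow fun n n' e => e
  refine ⟨_, finS h he h1 h2 h4 ?_⟩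
  rintro H _ x ⟨Φ, a1, a2, a3, a4⟩
  refine ⟨Φ, a1, a4, fun Ψ b1 b2 i => ?_⟩
  fin_cases i
  · exact (b1 a).trans a2
  · simpa [b1, b2] using a3

theorem cycS (he : Even N) : ∃ s : Fin 2 → Perm (ZMod N ⊕ Fin 2), Pres s (2 + N / 2 + 1) := by
  have h : (0 : Fin 2) ≠ 1 := by decide
  have h' : (inr 0 : ZMod N ⊕ Fin 2) ≠ inr 1 := by simp
  have jj := jj_inl (N := N) h (alternatingGroup _).subtype (y := sh N (Fin 2)) fun n n' e => e
  refine ⟨![(c3 (inr (0 : Fin 2)) (inr 1) (inl (0 : ZMod N))).1, sh N (Fin 2)], finS h he (Y := of 1)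
    (W := Sum.elim (fun k => of 1 ^ k.val * of 0 * (of 1 ^ k.val)⁻¹) fun _ => 1) ?_ (by simp)
    ((((Rl.eq (of 0 ^ 3) 1 ?_).and (Rl.eq (of 1 ^ N) 1 (by simp [sh_pow]))).and
    (Rl.all (Finset.Icc 1 (N / 2)) (fun i => (of 0 * (of 1 ^ i * of 0 * (of 1 ^ i)⁻¹)) ^ 2) (fun _ => 1)
      fun i hi => ?_)).mono (by simp) fun _ _ _ h => h) ?_⟩
  · rintro (k | δ)
    · simpa using jj k.val
    · fin_cases δ <;> simp [c3_alpha, c3_beta]
  · simpa using congrArg Subtype.val (c3_cube h' (i := inl 0) (by simp) (by simp))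
  · have := congrArg (alternatingGroup _).subtype (c3_pair h' (i := inl 0) (j := inl (i : ZMod N))
      (by simp) (by simp) (by simp) (by simp) (by
        rw [Finset.mem_Icc] at hi
        simp only [ne_eq, inl.injEq, eq_comm (a := (0 : ZMod N)), ZMod.natCast_eq_zero_iff]
        exact fun e => by have := Nat.le_of_dvd (by omega) e; omega))
    rw [map_pow, map_mul, jj] at this
    simpa using this
  · rintro H _ x ⟨⟨q1, q2⟩, q3⟩
    simp only [map_mul, map_inv, map_pow, map_one, lift_apply_of] at q1 q2 q3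
    have no : ∀ γ : Fin 2, γ ≠ 0 → γ ≠ 1 → False := by decide
    obtain ⟨Φ, a1, -, a3⟩ := cyc h (z := fun _ => 1) q2 q1 (by simp) (by simp) (by simp)
      (fun γ a b => (no γ a b).elim) fun i a b => q3 i (Finset.mem_Icc.2 ⟨a, by omega⟩)
    refine ⟨Φ, ?_, by simpa using a3, fun Ψ b1 b2 i => ?_⟩
    · rintro (k | δ)
      · simpa using a1 k
      · fin_cases δ <;> simp [c3_alpha, c3_beta]
    · fin_cases i
      · simpa [b1] using a1 0
      · simpa using b2

end Cfsg.Agent.H7.Pr
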