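import Mathlib
import Cfsg.Agent.H7.Pr5

/-! `A_n` and `S_n` have presentations with two generators and six relations. -/

set_option autoImplicit false

namespace Cfsg.Agent.H7.Pr
open Subgroup Equiv Equiv.Perm Sum
open FreeGroup (lift of lift_apply_of)

section Bertrand
open Nat

theorem cb_le (n : ℕ) (hn : 5 < n) (no : ∀ p : ℕ, p.Prime → n < p → 2 * n < p + 5) :
    centralBinom n ≤ (2 * n) ^ (sqrt (2 * n) + 5) * 4 ^ (2 * n / 3) := by
  have n2 : 1 ≤ 2 * n := by omega
  let f x := x ^ n.centralBinom.factorization x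
  have fl : ∀ p, f p ≤ 2 * n := fun p => pow_factorization_choose_le (by omega)
  have f1 : ∀ p, ¬ p.Prime → f p = 1 := fun p h => by
    simp only [f, factorization_eq_zero_of_not_prime _ h, _root_.pow_zero]
  let A := Finset.Icc 1 (sqrt (2 * n)) ∪ Finset.Icc (2 * n - 4) (2 * n)
  let S := {p ∈ Finset.range (2 * n / 3 + 1) | Nat.Prime p}
  have e : centralBinom n = ∏ p ∈ Finset.range (2 * n + 1), f p :=
    n.prod_pow_factorization_centralBinom.symm
  rw [e, ← Finset.prod_filter_mul_prod_filter_not _ (· ∈ A)]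
  apply mul_le_mul'
  · refine (Finset.prod_le_prod' fun p _ => fl p).trans ?_
    rw [Finset.prod_const]
    refine pow_right_mono₀ n2 ((Finset.card_le_card (t := A) fun x hx => (Finset.mem_filter.1 hx).2).trans
      ((Finset.card_union_le _ _).trans ?_))
    simp only [card_Icc]; omega
  · refine le_trans ?_ (primorial_le_four_pow (2 * n / 3))
    rw [← Finset.prod_filter_of_ne (p := (· ∈ S))]
    · refine (Finset.prod_le_prod' (g := fun p => p) fun p hp => ?_).trans
        (Finset.prod_le_prod_of_subset_of_one_le' (fun p hp => (Finset.mem_filter.1 hp).2)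
          fun p hp _ => (Finset.mem_filter.1 hp).2.one_lt.le)
      simp only [Finset.mem_filter, A, S, Finset.mem_union, Finset.mem_Icc, not_or] at hp
      have := hp.2.2.one_lt
      refine (pow_right_mono₀ this.le ?_).trans (pow_one p).le
      exact Nat.factorization_choose_le_one (sqrt_lt'.mp (by omega))
    · intro p hp h
      simp only [Finset.mem_filter, A, S, Finset.mem_union, Finset.mem_Icc, not_or,
        Finset.mem_range] at hp ⊢
      have pp : p.Prime := by_contra fun c => h (f1 p c)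
      refine ⟨by_contra fun c => h ?_, pp⟩
      have := no p pp
      simp only [f]
      rw [factorization_centralBinom_of_two_mul_self_lt_three_mul (by omega) (by omega) (by omega),
        _root_.pow_zero]

theorem bert (n : ℕ) (hn : 1200 ≤ n) : ∃ p : ℕ, p.Prime ∧ n < p ∧ p + 5 ≤ 2 * n := by
  by_contra! h
  have a := cb_le n (by omega) h
  have b := Nat.four_pow_lt_mul_centralBinom n (by omega)
  obtain ⟨s, hs⟩ : ∃ s, s = sqrt (2 * n) := ⟨_, rfl⟩
  have s1 : s * s ≤ 2 * n := hs ▸ sqrt_le _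
  have s2 : 2 * n < (s + 1) * (s + 1) := hs ▸ lt_succ_sqrt _
  have s3 : 48 ≤ s := by nlinarith
  have k : ∀ k, 12 ≤ k → (4 * k + 4) * (4 * k + 4) ≤ 2 ^ k := fun k hk => by
    induction k, hk using Nat.le_induction with
    | base => norm_num
    | succ k hk ih => rw [_root_.pow_succ]; nlinarith
  have c : 2 * n ≤ 2 ^ (s / 4) :=
    s2.le.trans ((Nat.mul_self_le_mul_self (by omega)).trans (k (s / 4) (by omega)))
  rw [← hs] at a
  have d : n * centralBinom n ≤ 2 ^ (s / 4 * (s + 6) + 2 * (2 * n / 3)) := by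
    calc _ ≤ (2 * n) * ((2 * n) ^ (s + 5) * 4 ^ (2 * n / 3)) := Nat.mul_le_mul (by omega) a
      _ = (2 * n) ^ (s + 6) * 4 ^ (2 * n / 3) := by ring
      _ ≤ (2 ^ (s / 4)) ^ (s + 6) * 4 ^ (2 * n / 3) := by gcongr
      _ = _ := by rw [_root_.pow_add 2, pow_mul, pow_mul]; norm_num
  have e := b.trans_le d
  rw [show 4 ^ n = 2 ^ (2 * n) by rw [pow_mul]; norm_num, Nat.pow_lt_pow_iff_right (by norm_num)] at e
  have f : 4 * (s / 4) ≤ s := Nat.mul_div_le _ _
  have g : 3 * (2 * n / 3) ≤ 2 * n := Nat.mul_div_le _ _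
  have i : 4 * (s / 4 * (s + 6)) ≤ s * (s + 6) := by rw [← mul_assoc]; exact Nat.mul_le_mul_right _ f
  nlinarith

theorem bert' (n : ℕ) (hn : 13 ≤ n) : ∃ p : ℕ, p.Prime ∧ n + 3 ≤ 2 * p ∧ p + 2 ≤ n := by
  by_cases h : 2400 ≤ n
  · obtain ⟨p, a, b, c⟩ := bert ((n + 3) / 2) (by omega)
    exact ⟨p, a, by omega, by omega⟩
  have : n ≤ 19 ∨ (19 ≤ n ∧ n ≤ 31) ∨ (31 ≤ n ∧ n ≤ 55) ∨ (55 ≤ n ∧ n ≤ 103) ∨ (103 ≤ n ∧ n ≤ 199) ∨
    (199 ≤ n ∧ n ≤ 391) ∨ (391 ≤ n ∧ n ≤ 775) ∨ (775 ≤ n ∧ n ≤ 1543) ∨ 1533 ≤ n := by omega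
  rcases this with e | e | e | e | e | e | e | e | e
  exacts [⟨11, by norm_num, by omega, by omega⟩, ⟨17, by norm_num, by omega, by omega⟩,
    ⟨29, by norm_num, by omega, by omega⟩, ⟨53, by norm_num, by omega, by omega⟩,
    ⟨101, by norm_num, by omega, by omega⟩, ⟨197, by norm_num, by omega, by omega⟩,
    ⟨389, by norm_num, by omega, by omega⟩, ⟨773, by norm_num, by omega, by omega⟩,
    ⟨1531, by norm_num, by omega, by omega⟩]

end Bertrand

theorem trA {Ω : Type} [Fintype Ω] [DecidableEq Ω] {n r : ℕ} (h : Fintype.card Ω = n)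
    (e : ∃ s : Fin 2 → alternatingGroup Ω, Pres s r) : ∃ s : Fin 2 → alternatingGroup (Fin n), Pres s r :=
  let ⟨_, hs⟩ := e; ⟨_, hs.equiv (Fintype.equivFinOfCardEq h).altCongrHom⟩

theorem trS {Ω : Type} [Fintype Ω] [DecidableEq Ω] {n r : ℕ} (h : Fintype.card Ω = n)
    (e : ∃ s : Fin 2 → Perm Ω, Pres s r) : ∃ s : Fin 2 → Perm (Fin n), Pres s r :=
  let ⟨_, hs⟩ := e; ⟨_, hs.equiv (Fintype.equivFinOfCardEq h).permCongrHom⟩

theorem winA (n p f : ℕ) (hp : p.Prime) (h : 3 ≤ p ∧ p + 2 ≤ n ∧ n + f ≤ 2 * p ∧ f + 2 ≤ p ∧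
    ¬ 3 ∣ n - (f + 3) ∧ (n - (f + 3)) % 2 = 1) : ∃ s : Fin 2 → alternatingGroup (Fin n), Pres s 6 := by
  haveI : NeZero (n - (f + 3)) := ⟨by omega⟩
  exact trA (by simp; omega) (windowA (N := n - (f + 3)) (F := Fin (f + 3)) (L := p - f - 2) (α := 0)
    (β := 1) (γ := 2) hp h.1 (by simp; omega) (by omega) (by omega) h.2.2.2.2.1 (by simp)
    (by simp [Fin.ext_iff, Nat.mod_eq_of_lt]) (Nat.odd_iff.2 h.2.2.2.2.2))

theorem winS (n p f : ℕ) (hp : p.Prime) (h : 3 ≤ p ∧ p + 2 ≤ n ∧ n + f ≤ 2 * p ∧ f + 2 ≤ p ∧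
    ¬ 3 ∣ n - (f + 3) ∧ (n - (f + 3)) % 2 = 0) : ∃ s : Fin 2 → Perm (Fin n), Pres s 6 := by
  haveI : NeZero (n - (f + 3)) := ⟨by omega⟩
  exact trS (by simp; omega) (windowS (N := n - (f + 3)) (F := Fin (f + 3)) (L := p - f - 2) (α := 0)
    (β := 1) (γ := 2) hp h.1 (by simp; omega) (by omega) (by omega) h.2.2.2.2.1 (by simp)
    (by simp [Fin.ext_iff, Nat.mod_eq_of_lt]) (Nat.even_iff.2 h.2.2.2.2.2))

theorem presA6 : ∃ s : Fin 2 → alternatingGroup (Fin 6), Pres s 6 := by
  have h : (4 : Fin 6) ≠ 5 := by decide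
  let y : alternatingGroup (Fin 6) := ⟨swap 0 1 * swap 1 2 * swap 2 3 * swap 4 5,
    mem_alternatingGroup.2 (by decide)⟩
  let W : Fin 6 → FreeGroup (Fin 2) := ![of 0, of 1 * (of 0)⁻¹ * (of 1)⁻¹,
    of 1 ^ 2 * of 0 * (of 1 ^ 2)⁻¹, of 1 ^ 3 * (of 0)⁻¹ * (of 1 ^ 3)⁻¹, 1, 1]
  have hW : ∀ i, (MonoidHom.id _) (c3 4 5 i) = lift ![c3 4 5 0, y] (W i) := fun i => by
    fin_cases i <;> simp [W, c3_alpha, c3_beta] <;> exact Subtype.ext (by decide)
  obtain ⟨w, hw⟩ := exists_word (c3_gen h) y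
  refine ⟨![c3 4 5 0, y], top_unique ((c3_gen h).ge.trans (top_of_words hW)),
    ((Rl.eq (W 0 ^ 3) 1 ?_).and ((Rl.eq (of 1 ^ 4) 1 ?_).and ((Rl.eq ((W 0 * W 1) ^ 2) 1 ?_).and
    ((Rl.eq ((W 0 * W 2) ^ 2) 1 ?_).and (Rl.eq (of 1) (lift W w) ?_))))).mono (by omega) ?_⟩
  · simpa [← hW] using c3_cube h (i := 0) (by decide) (by decide)
  · simpa using Subtype.ext (by decide)
  · simpa [← hW] using c3_pair h (i := 0) (j := 1) (by decide) (by decide) (by decide) (by decide) (by decide)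
  · simpa [← hW] using c3_pair h (i := 0) (j := 2) (by decide) (by decide) (by decide) (by decide) (by decide)
  · rw [lift_lift hW, hw]; simp
  · rintro H _ x ⟨q1, q2, q3, q4, q5⟩
    simp only [W, map_mul, map_inv, map_pow, map_one, lift_apply_of, Matrix.cons_val] at q1 q2 q3 q4
    have i1 : ((x 0)⁻¹ * (x 1 * x 0 * (x 1)⁻¹)) ^ 2 = 1 := sq_inv (by convert q3 using 2; group)
    have i2 : ((x 0)⁻¹ * (x 1 ^ 2 * (x 0)⁻¹ * (x 1 ^ 2)⁻¹)) ^ 2 = 1 :=
      sq_inv (by convert q4 using 2; group)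
    have p12 : (lift x (W 1) * lift x (W 2)) ^ 2 = 1 := by
      convert sq_conj (x 1) i1 using 2; simp [W]; group
    have p13 : (lift x (W 1) * lift x (W 3)) ^ 2 = 1 := by
      convert sq_conj (x 1) i2 using 2; simp [W]; group
    have p23 : (lift x (W 2) * lift x (W 3)) ^ 2 = 1 := by
      convert sq_conj (x 1 ^ 2) q3 using 2; simp [W]; group
    have p30 : (lift x (W 3) * lift x (W 0)) ^ 2 = 1 := by
      convert sq_conj (x 1 ^ 3) i1 using 2
      rw [show x 1 ^ 3 * (x 1 * x 0 * (x 1)⁻¹) * (x 1 ^ 3)⁻¹ = x 1 ^ 4 * x 0 * (x 1 ^ 4)⁻¹ by group, q2]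
      simp [W]
    have p01 : (lift x (W 0) * lift x (W 1)) ^ 2 = 1 := by simpa [W] using q3
    have p02 : (lift x (W 0) * lift x (W 2)) ^ 2 = 1 := by simpa [W] using q4
    obtain ⟨Φ, hΦ⟩ := carm h (fun i => lift x (W i)) (fun i a b => by
      fin_cases i <;> simp [W, q1]) fun i j a b c d e => by
      fin_cases i <;> fin_cases j <;> first
        | exact (a rfl).elim | exact (b rfl).elim | exact (c rfl).elim | exact (d rfl).elim
        | exact (e rfl).elim | assumption | (apply sq_swap; assumption)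
    have hΦ' : ∀ i, Φ (c3 4 5 i) = lift x (W i) := fun i => by
      by_cases a : i = 4
      · simp [a, W, c3_alpha]
      by_cases b : i = 5
      · simp [b, W, c3_beta]
      exact hΦ i a b
    rw [lift_lift hΦ', hw] at q5
    refine ⟨Φ, fun i => ?_⟩
    fin_cases i
    · simpa [W] using hΦ' 0
    · simpa using q5.symm

theorem presA (n : ℕ) (hn : 5 ≤ n) : ∃ s : Fin 2 → alternatingGroup (Fin n), Pres s 6 := by
  by_cases h : 13 ≤ n
  · obtain ⟨p, a, b, c⟩ := bert' n h
    have : n % 6 = 0 ∨ n % 6 = 1 ∨ n % 6 = 2 ∨ n % 6 = 3 ∨ n % 6 = 4 ∨ n % 6 = 5 := by omega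
    rcases this with e | e | e | e | e | e
    exacts [winA n p 2 a (by omega), winA n p 3 a (by omega), winA n p 0 a (by omega),
      winA n p 1 a (by omega), winA n p 0 a (by omega), winA n p 1 a (by omega)]
  interval_cases n
  exacts [winA 5 3 1 (by norm_num) (by omega), presA6, winA 7 5 3 (by norm_num) (by omega),
    winA 8 5 0 (by norm_num) (by omega), winA 9 7 1 (by norm_num) (by omega),
    winA 10 7 0 (by norm_num) (by omega), winA 11 7 1 (by norm_num) (by omega),
    winA 12 7 2 (by norm_num) (by omega)]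

theorem presS (n : ℕ) (hn : 4 ≤ n) : ∃ s : Fin 2 → Perm (Fin n), Pres s 6 := by
  by_cases h : 13 ≤ n
  · obtain ⟨p, a, b, c⟩ := bert' n h
    have : n % 6 = 0 ∨ n % 6 = 1 ∨ n % 6 = 2 ∨ n % 6 = 3 ∨ n % 6 = 4 ∨ n % 6 = 5 := by omega
    rcases this with e | e | e | e | e | e
    exacts [winS n p 1 a (by omega), winS n p 0 a (by omega), winS n p 1 a (by omega),
      winS n p 2 a (by omega), winS n p 3 a (by omega), winS n p 0 a (by omega)]
  interval_cases n
  exacts [trS (by simp) (let ⟨s, h⟩ := cycS (N := 2) (by decide); ⟨s, h.mono (by norm_num)⟩),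
    winS 5 3 0 (by norm_num) (by omega),
    trS (by simp) (let ⟨s, h⟩ := cycS (N := 4) (by decide); ⟨s, h.mono (by norm_num)⟩),
    winS 7 5 0 (by norm_num) (by omega),
    winS 8 5 1 (by norm_num) (by omega), winS 9 7 2 (by norm_num) (by omega),
    winS 10 7 3 (by norm_num) (by omega), winS 11 7 0 (by norm_num) (by omega),
    winS 12 7 1 (by norm_num) (by omega)]

theorem pres_triv (G : Type*) [Group G] [Subsingleton G] : ∃ s : Fin 2 → G, Pres s 6 :=
  ⟨fun _ => 1, Subsingleton.elim _ _, (Rl.all Finset.univ of (fun _ => 1) (by simp)).mono (by simp)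
    fun H _ x h => ⟨1, fun i => by simpa using (h i (by simp)).symm⟩⟩

theorem presA3 : ∃ s : Fin 2 → alternatingGroup (Fin 3), Pres s 6 := by
  have h : (0 : Fin 3) ≠ 1 := by decide
  refine ⟨![c3 0 1 2, 1], top_unique ((c3_gen h).ge.trans (top_of_words (W := ![1, 1, of 0])
    fun i => by fin_cases i <;> simp [c3_alpha, c3_beta])), ((Rl.eq (of 0 ^ 3) 1 ?_).and
      (Rl.eq (of 1) 1 (by simp))).mono (by omega) ?_⟩
  · simpa using c3_cube h (i := 2) (by decide) (by decide)
  · rintro H _ x ⟨a, b⟩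
    obtain ⟨Φ, hΦ⟩ := carm h (fun _ => x 0) (fun _ _ _ => by simpa using a) fun i j a b c d e => by
      exfalso; revert i j; decide
    refine ⟨Φ, fun i => ?_⟩
    fin_cases i
    · exact hΦ 2 (by decide) (by decide)
    · simpa using b.symm

theorem presA4' : Pres ![c3 (0 : Fin 4) 1 2, c3 0 1 3] 3 := by
  have h : (0 : Fin 4) ≠ 1 := by decide
  refine ⟨top_unique ((c3_gen h).ge.trans (top_of_words (W := ![1, 1, of 0, of 1])
    fun i => by fin_cases i <;> simp [c3_alpha, c3_beta])), ((Rl.eq (of 0 ^ 3) 1 ?_).and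
      ((Rl.eq (of 1 ^ 3) 1 ?_).and (Rl.eq ((of 0 * of 1) ^ 2) 1 ?_))).mono (by omega) ?_⟩
  · simpa using c3_cube h (i := 2) (by decide) (by decide)
  · simpa using c3_cube h (i := 3) (by decide) (by decide)
  · simpa using c3_pair h (i := 2) (j := 3) (by decide) (by decide) (by decide) (by decide) (by decide)
  · rintro H _ x ⟨a, b, c⟩
    simp only [map_mul, map_pow, map_one, lift_apply_of] at a b c
    obtain ⟨Φ, hΦ⟩ := carm h ![1, 1, x 0, x 1] (fun i _ _ => by fin_cases i <;> simp [a, b])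
      fun i j a b c' d e => by
        fin_cases i <;> fin_cases j <;> first
          | exact (a rfl).elim | exact (b rfl).elim | exact (c' rfl).elim | exact (d rfl).elim
          | exact (e rfl).elim | exact c | exact sq_swap c
    refine ⟨Φ, fun i => ?_⟩
    fin_cases i
    · exact hΦ 2 (by decide) (by decide)
    · exact hΦ 3 (by decide) (by decide)

theorem presA' (n : ℕ) : ∃ s : Fin 2 → alternatingGroup (Fin n), Pres s 6 := by
  by_cases h : 5 ≤ n
  · exact presA n h
  by_cases h2 : n ≤ 2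
  · haveI : Subsingleton (alternatingGroup (Fin n)) := by
      rw [← not_nontrivial_iff_subsingleton]
      intro e
      have := Fintype.one_lt_card_iff_nontrivial.2 e
      rcases Nat.lt_or_ge n 2 with k | k
      · haveI : Subsingleton (Fin n) := Fin.subsingleton_iff_le_one.2 (by omega)
        exact absurd e (not_nontrivial_iff_subsingleton.2 inferInstance)
      · obtain rfl : n = 2 := by omega
        revert this; decide
    exact pres_triv _
  have : n = 3 ∨ n = 4 := by omega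
  rcases this with rfl | rfl
  exacts [presA3, ⟨_, presA4'.mono (by omega)⟩]

theorem presS' (n : ℕ) : ∃ s : Fin 2 → Perm (Fin n), Pres s 6 := by
  by_cases h : 4 ≤ n
  · exact presS n h
  by_cases h2 : n ≤ 1
  · haveI : Subsingleton (Fin n) := Fin.subsingleton_iff_le_one.2 h2
    exact pres_triv _
  have : n = 2 ∨ n = 3 := by omega
  rcases this with rfl | rfl
  · have : Pres (H10.adj (n := 1)) 1 := ⟨H10.closure_adj 1,
      (Rl.eq (of 0 * of 0) 1 (by simp)).mono le_rfl fun H _ x a =>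
        H10.exists_hom_perm x (fun i => by fin_cases i; simpa using a)
          (fun i j h => by omega) fun i j h => by omega⟩
    obtain ⟨t, ht⟩ := this.pad 1
    exact ⟨t, ht.mono (by omega)⟩
  · refine ⟨H10.adj (n := 2), H10.closure_adj 2, ((Rl.eq (of 0 * of 0) 1 (by simp)).and
      ((Rl.eq (of 1 * of 1) 1 (by simp)).and (Rl.eq (of 0 * of 1 * of 0) (of 1 * of 0 * of 1)
        (by simp only [map_mul, lift_apply_of]; decide)))).mono (by omega) ?_⟩
    rintro H _ x ⟨a, b, c⟩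
    refine H10.exists_hom_perm x (fun i => ?_) (fun i j h => by omega) fun i j h => ?_
    · fin_cases i
      · simpa using a
      · simpa using b
    · obtain rfl : i = 0 := by omega
      obtain rfl : j = 1 := by omega
      simpa using c

end Cfsg.Agent.H7.Pr
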