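import Mathlib
import Cfsg.Agent.H7.Pr1
import Cfsg.Agent.H19.SL2
import Cfsg.Agent.H17.Gen2

/-! Bounded presentations of `SL₂(q)`. -/

set_option autoImplicit false

namespace Cfsg.Agent.H7.Pr
open Subgroup Polynomial H19.St
open FreeGroup (lift of lift_apply_of)
open scoped MatrixGroups

universe u v
variable {G : Type u} [Group G] {ι : Type} {s : ι → G} {F : Type*} [Field F]

theorem Rl.commB (U T S : FreeGroup ι) {y : F → G} (hy : IsAdd y) (hU : y 1 = lift s U) {ζ : F}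
    (hT : y ζ = lift s T * y 1 * (lift s T)⁻¹) (hS : y (1 + ζ) = lift s S * y 1 * (lift s S)⁻¹)
    (hc : Commute S T) :
    Rl s 2 fun _ _ x => ∀ i : ℕ, Commute (lift x U) (lift x T ^ i * lift x U * (lift x T ^ i)⁻¹) := by
  refine ((Rl.eq (U * (T * U * T⁻¹)) (T * U * T⁻¹ * U) ?_).and
    (Rl.eq (S * U * S⁻¹) (U * (T * U * T⁻¹)) ?_)).mono le_rfl ?_
  · simp only [map_mul, map_inv, ← hU, ← hT]; exact (hy.comm _ _).eq
  · simp only [map_mul, map_inv, ← hU, ← hT, ← hS]; exact hy _ _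
  · rintro H _ x ⟨a, b⟩
    simp only [map_mul, map_inv] at a b
    exact baumslag (hc.map (lift x)) a b

theorem Rl.commP (U T : FreeGroup ι) {y : F → G} (hy : IsAdd y) (hU : y 1 = lift s U) {n : ℤ}
    (hT : y n = lift s T * y 1 * (lift s T)⁻¹) :
    Rl s 1 fun _ _ x => ∀ i : ℕ, Commute (lift x U) (lift x T ^ i * lift x U * (lift x T ^ i)⁻¹) := by
  refine (Rl.eq (T * U * T⁻¹) (U ^ n) ?_).mono le_rfl ?_
  · simp only [map_mul, map_inv, map_zpow, ← hU, ← hT, ← hy.zsmul]; simp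
  · intro H _ x a
    simp only [map_mul, map_inv, map_zpow] at a
    exact comm_of_pow a

theorem int_of_prime [Fintype F] (h : (Fintype.card F).Prime) (c : F) : ∃ n : ℤ, (n : F) = c := by
  haveI := Fact.mk h
  obtain ⟨n, hn⟩ := mem_zmultiples_of_prime_card (G := F) (p := Fintype.card F)
    Nat.card_eq_fintype_card (g := 1) (g' := c) one_ne_zero
  exact ⟨n, by simpa using hn⟩

theorem gen_sq [Finite F] {ω : Fˣ} (hω : ∀ u : Fˣ, u ∈ zpowers ω) (c : F) :
    ∃ P : ℤ[X], aeval ((ω : F) ^ 2) P = c :=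
  H17.all_of_sq_stable hω (P := fun c => ∃ P : ℤ[X], aeval ((ω : F) ^ 2) P = c) ⟨0, by simp⟩
    (by rintro _ _ ⟨P, rfl⟩ ⟨Q, rfl⟩; exact ⟨P + Q, by simp⟩)
    (by rintro _ ⟨P, rfl⟩; exact ⟨X * P, by simp⟩) one_ne_zero ⟨1, by simp⟩ c

theorem card_dvd_of_pow [Fintype F] {ω : Fˣ} (hω : ∀ u : Fˣ, u ∈ zpowers ω) {n : ℕ}
    (h : (ω : F) ^ n = 1) : Fintype.card F - 1 ∣ n := by
  classical
  rw [← Fintype.card_units, ← Nat.card_eq_fintype_card, ← orderOf_eq_card_of_forall_mem_zpowers hω]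
  exact orderOf_dvd_of_pow_eq_one (Units.ext (by simpa using h))

theorem exists_pow [Finite F] {ω : Fˣ} (hω : ∀ u : Fˣ, u ∈ zpowers ω) {c : F} (h : c ≠ 0) :
    ∃ n : ℕ, (ω : F) ^ n = c := by
  obtain ⟨n, hn⟩ := (mem_powers_iff_mem_zpowers.2 (hω (Units.mk0 c h)))
  exact ⟨n, by simpa using congrArg Units.val hn⟩

theorem exists_ab [Fintype F] {ω : Fˣ} (hω : ∀ u : Fˣ, u ∈ zpowers ω) (h2 : ringChar F ≠ 2)
    (h5 : 5 < Fintype.card F) (h9 : Fintype.card F ≠ 9) :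
    ∃ a b : ℕ, ((ω : F) ^ 2) ^ b = 1 + ((ω : F) ^ 2) ^ a ∧
      ∀ c, ∃ P : ℤ[X], aeval (((ω : F) ^ 2) ^ a) P = c := by
  classical
  have t2 : (2 : F) ≠ 0 := Ring.two_ne_zero h2
  have w0 : (ω : F) ≠ 0 := ω.ne_zero
  have w4 : (ω : F) ^ 4 ≠ 1 := fun h => by
    have := Nat.le_of_dvd (by norm_num) (card_dvd_of_pow hω h); omega
  obtain ⟨a, ha⟩ := exists_pow hω (c := ((ω : F) - (ω : F)⁻¹) / 2) fun h => w4 (by
    field_simp at h; linear_combination ((ω : F) ^ 2 + 1) * h)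
  obtain ⟨b, hb⟩ := exists_pow hω (c := ((ω : F) + (ω : F)⁻¹) / 2) fun h => w4 (by
    field_simp at h; linear_combination ((ω : F) ^ 2 - 1) * h)
  have e : ∀ k : ℕ, ((ω : F) ^ 2) ^ k = ((ω : F) ^ k) ^ 2 := fun k => by ring
  refine ⟨a, b, by rw [e, e, ha, hb]; field_simp; ring, ?_⟩
  rw [e, ha]
  set ζ := (((ω : F) - (ω : F)⁻¹) / 2) ^ 2 with hζ
  let K : Subfield F := { (aeval ζ : ℤ[X] →ₐ[ℤ] F).range.toSubring with
    inv_mem' := fun x hx => by
      by_cases h : x = 0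
      · rw [h, inv_zero]; exact zero_mem (aeval ζ : ℤ[X] →ₐ[ℤ] F).range
      have : x⁻¹ = x ^ (Fintype.card F - 2) := by
        have := FiniteField.pow_card_sub_one_eq_one x h
        rw [show Fintype.card F - 1 = Fintype.card F - 2 + 1 by omega, pow_succ] at this
        exact (eq_inv_of_mul_eq_one_left this).symm
      rw [this]; exact (aeval ζ : ℤ[X] →ₐ[ℤ] F).range.pow_mem hx _ }
  suffices h : Fintype.card F ≤ Fintype.card K by
    intro c
    have : Function.Surjective K.subtype :=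
      ((Fintype.bijective_iff_injective_and_card _).2 ⟨Subtype.val_injective,
        le_antisymm (Fintype.card_le_of_injective _ Subtype.val_injective) h⟩).2
    obtain ⟨⟨x, P, hP⟩, rfl⟩ := this c
    exact ⟨P, hP⟩
  let σ := FiniteField.frobeniusAlgHom K F
  have hσ : ∀ x, σ x = x ^ Fintype.card K := fun x => rfl
  have k2 : 1 < Fintype.card K := Fintype.one_lt_card
  have hτ : σ ((ω : F) ^ 2 + ((ω : F) ^ 2)⁻¹) = (ω : F) ^ 2 + ((ω : F) ^ 2)⁻¹ :=
    σ.commutes (⟨_, C 4 * X + C 2, by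
      show aeval ζ (C 4 * X + C 2 : ℤ[X]) = (ω : F) ^ 2 + ((ω : F) ^ 2)⁻¹
      rw [map_add, map_mul, aeval_C, aeval_C, aeval_X, hζ, eq_intCast, eq_intCast]
      push_cast; field_simp; ring⟩ : K)
  rw [map_add, map_inv₀] at hτ
  have s0 : σ ((ω : F) ^ 2) ≠ 0 := by simp
  have : (σ ((ω : F) ^ 2) - (ω : F) ^ 2) * (σ ((ω : F) ^ 2) * (ω : F) ^ 2 - 1) = 0 := by
    generalize σ ((ω : F) ^ 2) = y at hτ s0
    field_simp at hτ
    linear_combination hτ
  rcases mul_eq_zero.1 this with h | h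
  · have := H17.all_of_sq_stable hω (P := fun c => σ c = c) (map_zero _)
      (fun a b h k => by rw [map_add, h, k]) (fun a k => by rw [map_mul, k, sub_eq_zero.1 h])
      one_ne_zero (map_one _) ω
    rw [hσ, show Fintype.card K = Fintype.card K - 1 + 1 by omega, pow_succ, mul_eq_right₀ w0] at this
    have := Nat.le_of_dvd (by omega) (card_dvd_of_pow hω this); omega
  · rw [hσ, ← pow_succ, ← pow_mul, sub_eq_zero] at h
    have h' := Nat.le_of_dvd (by omega) (card_dvd_of_pow hω h)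
    have c := Module.card_eq_pow_finrank (K := K) (V := F)
    have odd := FiniteField.odd_card_of_char_ne_two h2
    generalize Module.finrank K F = d at c
    generalize Fintype.card K = k at *
    match d with
    | 0 => rw [pow_zero] at c; omega
    | 1 => rw [pow_one] at c; omega
    | d + 2 =>
      have : k ^ 2 ≤ k ^ (d + 2) := Nat.pow_le_pow_right (by omega) (by omega)
      have k3 : k ≤ 3 := by
        have : k ^ 2 ≤ 2 * k + 3 := by omega
        nlinarith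
      interval_cases k
      · rw [pow_succ] at c; omega
      · omega

section top
variable {H : Type v} [Group H] {x : F → H} {h w : H}

theorem conj_zpow' {η : F} (hη : η ≠ 0) (h1 : ∀ c, x (η * c) = h * x c * h⁻¹) (k : ℤ) (c : F) :
    x (η ^ k * c) = h ^ k * x c * (h ^ k)⁻¹ := by
  induction k using Int.induction_on with
  | zero => simp
  | succ n ih => rw [zpow_add_one₀ hη, mul_comm _ η, mul_assoc, h1, ih, add_comm, zpow_one_add]; group
  | pred n ih =>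
    have := h1 (η ^ (-(n : ℤ) - 1) * c)
    rw [← mul_assoc, ← zpow_one_add₀ hη, show 1 + (-(n : ℤ) - 1) = -n by ring, ih] at this
    calc _ = h⁻¹ * (h * x (η ^ (-(n : ℤ) - 1) * c) * h⁻¹) * h := by group
      _ = _ := by rw [← this]; group

theorem W_conj {ω : Fˣ} (h1 : ∀ c, x ((ω : F) ^ 2 * c) = h * x c * h⁻¹) (h2 : w * h * w⁻¹ = h⁻¹)
    (t : F) (k : ℤ) : x (((ω : F) ^ 2) ^ k * t) * (w * x ((((ω : F) ^ 2) ^ k * t)⁻¹) * w⁻¹) *
      x (((ω : F) ^ 2) ^ k * t) = h ^ k * (x t * (w * x t⁻¹ * w⁻¹) * x t) * (h ^ k)⁻¹ := by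
  have n0 : (ω : F) ^ 2 ≠ 0 := by simp
  have a : h ^ k = w * h ^ (-k) * w⁻¹ := by rw [← conj_zpow, h2]; simp
  rw [mul_inv, ← zpow_neg, conj_zpow' n0 h1, conj_zpow' n0 h1]
  calc _ = h ^ k * x t * (h ^ k)⁻¹ * ((w * h ^ (-k) * w⁻¹) * (w * x t⁻¹ * w⁻¹) *
      (w * h ^ (-k) * w⁻¹)⁻¹) * (h ^ k * x t * (h ^ k)⁻¹) := by group
    _ = _ := by rw [← a]; group

theorem W_even {ω : Fˣ} (h1 : ∀ c, x ((ω : F) ^ 2 * c) = h * x c * h⁻¹) (h2 : w * h * w⁻¹ = h⁻¹)
    {t : F} {j : ℤ} (h3 : x t * (w * x t⁻¹ * w⁻¹) * x t = h ^ j * w) (k : ℤ) :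
    x (((ω : F) ^ 2) ^ k * t) * (w * x ((((ω : F) ^ 2) ^ k * t)⁻¹) * w⁻¹) *
      x (((ω : F) ^ 2) ^ k * t) = h ^ (2 * k + j) * w := by
  have a : h ^ k = w * h ^ (-k) * w⁻¹ := by rw [← conj_zpow, h2]; simp
  rw [W_conj h1 h2, h3]
  calc _ = h ^ k * h ^ j * (w * h ^ (-k) * w⁻¹) * w := by group
    _ = _ := by rw [← a]; group

theorem sl2_top [Finite F] {ω : Fˣ} (hω : ∀ u : Fˣ, u ∈ zpowers ω) (hx : IsAdd x)
    (h1 : ∀ c, x ((ω : F) ^ 2 * c) = h * x c * h⁻¹) (h2 : w * h * w⁻¹ = h⁻¹)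
    (h3 : x 1 * (w * x 1 * w⁻¹) * x 1 = w) (h4 : x ω * (w * x (ω : F)⁻¹ * w⁻¹) * x ω = h * w) :
    ∃ φ : SL(2, F) →* H, (∀ c, φ (xx c) = x c) ∧ φ (hh xx yy (ω : F)) = h ∧ φ (ww xx yy (1 : F)) = w := by
  have n0 : (ω : F) ^ 2 ≠ 0 := by simp
  have key : ∀ k : ℤ, x ((ω : F) ^ k) * (w * x ((ω : F) ^ k)⁻¹ * w⁻¹) * x ((ω : F) ^ k) = h ^ k * w :=
    fun k => by
      obtain ⟨i, rfl | rfl⟩ := Int.even_or_odd' k
      · have := W_even h1 h2 (t := 1) (j := 0) (by simpa using h3) i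
        rwa [mul_one, add_zero, ← zpow_natCast, ← zpow_mul] at this
      · have := W_even h1 h2 (t := ω) (j := 1) (by simpa using h4) i
        rwa [← zpow_natCast, ← zpow_mul, ← zpow_add_one₀ ω.ne_zero] at this
  obtain ⟨φ, a, b⟩ := exists_hom_of_finite (x := x) (y := fun t => w * x (-t) * w⁻¹)
    ⟨hx, fun s t => by rw [neg_add, hx]; group, fun t ht u => by
      obtain ⟨k, rfl⟩ := exists_pow hω ht
      have a : h ^ (k : ℤ) = w * h ^ (-(k : ℤ)) * w⁻¹ := by rw [← conj_zpow, h2]; simp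
      have := key k
      rw [zpow_natCast] at this
      rw [neg_neg, this, show -(-u / ((ω : F) ^ k) ^ 2) = ((ω : F) ^ 2) ^ (-(k : ℤ)) * u by
        rw [zpow_neg, zpow_natCast]; field_simp; ring, conj_zpow' n0 h1, a]
      group⟩
  have c : φ (ww xx yy (1 : F)) = w := by simpa [ww, a, b] using h3
  refine ⟨φ, a, ?_, c⟩
  rw [hh, map_mul, map_inv, c, mul_inv_eq_iff_eq_mul]
  simpa [ww, a, b] using h4

end top

section gens
variable [Fintype F] {ω : Fˣ}

/-- the generators -/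
def s2 (ω : Fˣ) : Fin 3 → SL(2, F) := ![xx 1, hh xx yy (ω : F), ww xx yy (1 : F)]

theorem xx_add : IsAdd (xx : F → SL(2, F)) := rel_SL.x_add

theorem s2_h (c : F) : xx ((ω : F) ^ 2 * c) = s2 ω 1 * xx c * (s2 ω 1)⁻¹ := by
  rw [eq_mul_inv_iff_mul_eq]; exact (rel_SL.h_x ω.ne_zero c).symm

theorem s2_w (c : F) : s2 ω 2 * xx c * (s2 ω 2)⁻¹ = yy (-c) := by
  rw [mul_inv_eq_iff_eq_mul]; simpa [s2] using rel_SL.w_x (one_ne_zero (α := F)) c

theorem s2_gen (hω : ∀ u : Fˣ, u ∈ zpowers ω) : closure (Set.range (s2 ω)) = ⊤ := by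
  have m : ∀ i, s2 ω i ∈ closure (Set.range (s2 ω)) := fun i => subset_closure ⟨i, rfl⟩
  have a : ∀ c, xx c ∈ closure (Set.range (s2 ω)) :=
    H17.all_of_sq_stable hω (P := fun c => xx c ∈ closure (Set.range (s2 ω)))
      (by rw [xx_add.zero]; exact one_mem _) (fun a b h k => by rw [xx_add]; exact mul_mem h k)
      (fun a h => by rw [s2_h]; exact mul_mem (mul_mem (m 1) h) (inv_mem (m 1))) one_ne_zero (m 0)
  rw [eq_top_iff]
  rintro g -
  induction g using sl_induction with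
  | hx t => exact a t
  | hy t => rw [← neg_neg t, ← s2_w (ω := ω)]; exact mul_mem (mul_mem (m 2) (a _)) (inv_mem (m 2))
  | hmul a b h k => exact mul_mem h k

theorem s2_wh : s2 ω 2 * s2 ω 1 * (s2 ω 2)⁻¹ = (s2 ω 1)⁻¹ := by
  rw [mul_inv_eq_iff_eq_mul, eq_inv_mul_iff_mul_eq]
  apply Subtype.ext
  simp only [s2, Matrix.SpecialLinearGroup.coe_mul, Matrix.cons_val, coe_hh ω.ne_zero,
    coe_ww (one_ne_zero (α := F))]
  ext i j; fin_cases i <;> fin_cases j <;> simp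

/-- the Borel part -/
def BP (ω : Fˣ) (H : Type) [Group H] (x : Fin 3 → H) : Prop :=
  ∃ z : F → H, IsAdd z ∧ z 1 = x 0 ∧ ∀ c, z ((ω : F) ^ 2 * c) = x 1 * z c * (x 1)⁻¹

theorem bp_of {a r : ℕ} (hg : ∀ c, ∃ P : ℤ[X], aeval (((ω : F) ^ 2) ^ a) P = c)
    (h : Rl (s2 ω) r fun _ _ x => ∀ i : ℕ, Commute (lift x (of 0))
      (lift x (of 1 ^ a) ^ i * lift x (of 0) * (lift x (of 1 ^ a) ^ i)⁻¹)) :
    Rl (s2 ω) (r + 3) (BP ω) := by
  have hT : ∀ c, xx (((ω : F) ^ 2) ^ a * c) =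
      lift (s2 ω) (of 1 ^ a) * xx c * (lift (s2 ω) (of 1 ^ a))⁻¹ := fun c => by
    have := conj_zpow' (by simp) (s2_h (ω := ω)) a c
    simpa using this
  obtain ⟨P, hP⟩ := hg ((ω : F) ^ 2)
  refine (h.and ((Rl.add (of 0) (of 1 ^ a) xx_add (by simp [s2]) hg hT).and
    (Rl.eq (of 1 * of 0 * (of 1)⁻¹) (pw (of 0) (of 1 ^ a) P) ?_))).mono le_rfl ?_
  · have := pw_field xx_add hT P
    rw [map_pw, show lift (s2 ω) (of 0) = xx 1 by simp [s2], this, hP]
    simpa [s2] using (s2_h (ω := ω) 1).symm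
  · rintro H _ x ⟨h1, ⟨-, h2⟩, h3⟩
    obtain ⟨z, z1, z2, z3⟩ := h2 h1
    rw [map_pw, ← z2, pw_field z1 z3, hP] at h3
    simp only [map_mul, map_inv, map_pow, lift_apply_of] at h3 z2 z3
    exact ⟨z, z1, z2, conj_of_one z1 hg z3 ((Commute.refl _).pow_right a) (by rw [z2, h3])⟩

theorem bp_prime (hω : ∀ u : Fˣ, u ∈ zpowers ω) (h : (Fintype.card F).Prime) :
    Rl (s2 ω) 2 (BP ω) := by
  obtain ⟨n, hn⟩ := int_of_prime h ((ω : F) ^ 2)
  have hc : ringChar F = Fintype.card F := by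
    haveI : Fact (ringChar F).Prime := ⟨CharP.char_is_prime F _⟩
    obtain ⟨m, hp, hm⟩ := FiniteField.card F (ringChar F)
    exact (Nat.prime_dvd_prime_iff_eq hp h).1 (hm ▸ dvd_pow_self _ m.ne_zero)
  refine ((Rl.eq (of 0 ^ ringChar F) 1 ?_).and (Rl.eq (of 1 * of 0 * (of 1)⁻¹) (of 0 ^ n) ?_)).mono
    le_rfl ?_
  · rw [map_pow, show lift (s2 ω) (of 0) = xx 1 by simp [s2], ← zpow_natCast, ← xx_add.zsmul]
    simp [xx_add.zero]
  · rw [map_zpow, show lift (s2 ω) (of 0) = xx 1 by simp [s2], ← xx_add.zsmul]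
    simpa [hn, s2] using (s2_h (ω := ω) 1).symm
  · rintro H _ x ⟨a, b⟩
    simp only [map_mul, map_inv, map_pow, map_zpow, map_one, lift_apply_of] at a b
    choose f hf using int_of_prime h
    have wd : ∀ i j : ℤ, (i : F) = j → x 0 ^ i = x 0 ^ j := fun i j e => by
      obtain ⟨k, hk⟩ := (CharP.intCast_eq_zero_iff F (ringChar F) (i - j)).1 (by simp [e])
      rw [show i = ringChar F * k + j by omega, zpow_add, zpow_mul, zpow_natCast, a]; simp
    refine ⟨fun c => x 0 ^ f c, fun a b => ?_, ?_, fun c => ?_⟩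
    · simp only; rw [← zpow_add]; exact wd _ _ (by simp [hf])
    · simp only; rw [wd _ 1 (by simp [hf]), zpow_one]
    · simp only; rw [← conj_zpow, b, ← zpow_mul]; exact wd _ _ (by simp [hf, hn])

theorem bp_five (hω : ∀ u : Fˣ, u ∈ zpowers ω) (h2 : ringChar F ≠ 2) : Rl (s2 ω) 5 (BP ω) := by
  by_cases hp : (Fintype.card F).Prime
  · exact (bp_prime hω hp).mono (by omega) fun _ _ _ h => h
  have hT : ∀ a : ℕ, xx (((ω : F) ^ 2) ^ a) =
      lift (s2 ω) (of 1 ^ a) * xx 1 * (lift (s2 ω) (of 1 ^ a))⁻¹ := fun a => by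
    have := conj_zpow' (by simp) (s2_h (ω := ω)) a 1
    simpa using this
  by_cases h9 : Fintype.card F = 9
  · refine bp_of (a := 1) (r := 2) (by simpa using gen_sq hω) ?_
    have w4 : ((ω : F) ^ 2) ^ 2 = -1 := by
      have a := FiniteField.pow_card_sub_one_eq_one _ ω.ne_zero
      have b : (ω : F) ^ 4 ≠ 1 := fun h => by
        have := Nat.le_of_dvd (by norm_num) (card_dvd_of_pow hω h); omega
      rw [h9] at a
      have : (((ω : F) ^ 2) ^ 2 + 1) * ((ω : F) ^ 4 - 1) = 0 := by linear_combination a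
      exact eq_neg_of_add_eq_zero_left ((mul_eq_zero.1 this).resolve_right (sub_ne_zero.2 b))
    refine ((Rl.eq (of 0 * (of 1 * of 0 * (of 1)⁻¹)) (of 1 * of 0 * (of 1)⁻¹ * of 0) ?_).and
      (Rl.eq (of 1 ^ 2 * of 0 * (of 1 ^ 2)⁻¹) (of 0)⁻¹ ?_)).mono le_rfl ?_
    · have := s2_h (ω := ω) 1
      simp only [map_mul, map_inv, lift_apply_of, show s2 ω 0 = xx 1 from rfl, ← this]
      exact (xx_add.comm _ _).eq
    · have := hT 2
      rw [w4, xx_add.neg] at this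
      simpa [s2] using this.symm
    · rintro H _ x ⟨a, b⟩ i
      simp only [map_mul, map_inv, map_pow, pow_one, lift_apply_of] at a b ⊢
      induction i using Nat.strong_induction_on with
      | _ i ih =>
      match i with
      | 0 => simp
      | 1 => simpa [Commute, SemiconjBy] using a
      | i + 2 =>
        have : x 1 ^ (i + 2) * x 0 * (x 1 ^ (i + 2))⁻¹ = (x 1 ^ i * x 0 * (x 1 ^ i)⁻¹)⁻¹ := by
          calc _ = x 1 ^ i * (x 1 ^ 2 * x 0 * (x 1 ^ 2)⁻¹) * (x 1 ^ i)⁻¹ := by group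
            _ = _ := by rw [b]; group
        rw [this]; exact (ih i (by omega)).inv_right
  have odd := FiniteField.odd_card_of_char_ne_two h2
  have : 1 < Fintype.card F := Fintype.one_lt_card
  obtain ⟨a, b, e, hg⟩ := exists_ab hω h2 (by
    by_contra hh
    have : Fintype.card F = 3 ∨ Fintype.card F = 5 := by omega
    rcases this with h | h <;> rw [h] at hp <;> norm_num at hp) h9
  exact bp_of (a := a) (r := 2) hg (Rl.commB _ _ (of 1 ^ b) xx_add (by simp [s2]) (hT a)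
    (e ▸ hT b) ((Commute.refl _).pow_pow _ _))

theorem bp_even (hω : ∀ u : Fˣ, u ∈ zpowers ω) (h2 : ringChar F = 2) : Rl (s2 ω) 3 (BP ω) := by
  by_cases hp : (Fintype.card F).Prime
  · exact (bp_prime hω hp).mono (by omega) fun _ _ _ h => h
  haveI : CharP F 2 := h2 ▸ ringChar.charP F
  have even := FiniteField.even_card_of_char_two h2
  have : 1 < Fintype.card F := Fintype.one_lt_card
  have n1 : 1 + (ω : F) ≠ 0 := fun h => by
    have a : (ω : F) ^ 1 = 1 := by rw [pow_one]; exact (CharTwo.add_eq_zero.1 h).symm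
    have := Nat.le_of_dvd (by norm_num) (card_dvd_of_pow hω a)
    rw [show Fintype.card F = 2 by omega] at hp; exact hp Nat.prime_two
  obtain ⟨b, hb⟩ := exists_pow hω n1
  have e : ((ω : F) ^ 2) ^ b = 1 + (ω : F) ^ 2 := by
    rw [← pow_mul, mul_comm, pow_mul, hb, CharTwo.add_sq, one_pow]
  refine ((Rl.add (of 0) (of 1) xx_add (by simp [s2]) (gen_sq hω) (by simpa using s2_h)).and
    (Rl.eq (of 1 ^ b * of 0 * (of 1 ^ b)⁻¹) (of 0 * (of 1 * of 0 * (of 1)⁻¹)) ?_)).mono le_rfl ?_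
  · have a := conj_zpow' (by simp) (s2_h (ω := ω)) b 1
    have c := s2_h (ω := ω) 1
    rw [zpow_natCast, e, mul_one, xx_add] at a
    simp only [map_mul, map_inv, map_pow, lift_apply_of, show s2 ω 0 = xx 1 from rfl, ← c]
    simpa using a.symm
  · rintro H _ x ⟨⟨a, c⟩, d⟩
    simp only [map_mul, map_inv, map_pow, lift_apply_of, h2] at a c d
    refine c (baumslag ((Commute.refl _).pow_left b) ?_ d)
    have i : ∀ g : H, g * x 0 * g⁻¹ = (g * x 0 * g⁻¹)⁻¹ := fun g => by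
      rw [eq_inv_iff_mul_eq_one, ← sq, conj_pow, a]; simp
    have j := i (x 1 ^ b)
    have k := i 1
    simp only [one_mul, inv_one, mul_one] at k
    rw [d, mul_inv_rev, ← i, ← k] at j
    exact j

theorem s2_r8 : lift (s2 ω) (of 0 * (of 2 * of 0 * (of 2)⁻¹) * of 0) = lift (s2 ω) (of 2) := by
  simp only [map_mul, map_inv, lift_apply_of, show s2 ω 0 = xx 1 from rfl, s2_w]
  simp [s2, ww]

theorem pres_sl2_of {r : ℕ} (hω : ∀ u : Fˣ, u ∈ zpowers ω) (h : Rl (s2 ω) r (BP ω)) :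
    Pres (s2 ω) (r + 3) := by
  obtain ⟨P, hP⟩ := gen_sq hω ω
  obtain ⟨Q, hQ⟩ := gen_sq hω (ω : F)⁻¹
  refine ⟨s2_gen hω, (h.and ((Rl.eq (of 2 * of 1 * (of 2)⁻¹) (of 1)⁻¹ (by simpa using s2_wh)).and
    ((Rl.eq _ _ s2_r8).and (Rl.eq (pw (of 0) (of 1) P * (of 2 * pw (of 0) (of 1) Q * (of 2)⁻¹) *
      pw (of 0) (of 1) P) (of 1 * of 2) ?_)))).mono le_rfl ?_⟩
  · simp only [map_mul, map_inv, map_pw, lift_apply_of, show s2 ω 0 = xx 1 from rfl,
      pw_field xx_add s2_h, hP, hQ, s2_w]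
    simp only [s2, hh, ww, Matrix.cons_val]; group
  · rintro H _ x ⟨⟨z, z1, z2, z3⟩, a, b, c⟩
    simp only [map_mul, map_inv, map_pw, lift_apply_of, ← z2, pw_field z1 z3, hP, hQ] at a b c
    obtain ⟨φ, f1, f2, f3⟩ := sl2_top hω z1 z3 a b c
    refine ⟨φ, fun i => ?_⟩
    fin_cases i
    exacts [(f1 1).trans z2, f2, f3]

theorem pres_sl2_even (hω : ∀ u : Fˣ, u ∈ zpowers ω) (h2 : ringChar F = 2) : Pres (s2 ω) 5 := by
  haveI : CharP F 2 := h2 ▸ ringChar.charP F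
  have even := FiniteField.even_card_of_char_two h2
  have : 1 < Fintype.card F := Fintype.one_lt_card
  obtain ⟨a, ha⟩ : ∃ a, Fintype.card F = 2 * a + 2 := ⟨Fintype.card F / 2 - 1, by omega⟩
  have o : (ω : F) ^ (2 * a + 1) = 1 := by
    have := FiniteField.pow_card_sub_one_eq_one _ ω.ne_zero
    rwa [ha] at this
  refine ⟨s2_gen hω, ((bp_even hω h2).and ((Rl.eq (of 2 * of 1 ^ a * (of 2)⁻¹) (of 1 ^ (a + 1)) ?_).and
    (Rl.eq _ _ s2_r8))).mono le_rfl ?_⟩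
  · simp only [map_mul, map_inv, map_pow, lift_apply_of]
    rw [← conj_pow, s2_wh, inv_pow, inv_eq_iff_mul_eq_one, ← pow_add]
    have : ∀ k : ℕ, s2 ω 1 ^ k = hh xx yy ((ω : F) ^ k) := fun k => by
      induction k with
      | zero => simp [H19.St.Rel.h_one]
      | succ k ih => rw [pow_succ, pow_succ, ih, rel_SL.h_mul_of_finite (by simp) ω.ne_zero]; rfl
    rw [this, show a + (a + 1) = 2 * a + 1 by ring, o, H19.St.Rel.h_one]
  · rintro H _ x ⟨⟨z, z1, z2, z3⟩, b, c⟩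
    simp only [map_mul, map_inv, map_pow, lift_apply_of, ← z2] at b c
    have u2 : z 1 * z 1 = 1 := by rw [← z1, CharTwo.add_self_eq_zero, z1.zero]
    have w2 : x 2 * x 2 = 1 := by
      calc _ = (z 1 * (x 2 * z 1 * (x 2)⁻¹) * z 1) * (z 1 * (x 2 * z 1 * (x 2)⁻¹) * z 1) := by rw [c]
        _ = z 1 * (x 2 * z 1 * (x 2)⁻¹) * (z 1 * z 1) * (x 2 * z 1 * (x 2)⁻¹) * z 1 := by group
        _ = z 1 * x 2 * (z 1 * z 1) * (x 2)⁻¹ * z 1 := by conv_lhs => rw [u2]
                                                          group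
        _ = 1 := by rw [u2]; simpa using u2
    have b' : x 2 * x 1 ^ (a + 1) * (x 2)⁻¹ = x 1 ^ a := by
      rw [← b]
      calc _ = (x 2 * x 2) * x 1 ^ a * (x 2 * x 2)⁻¹ := by group
        _ = _ := by rw [w2]; simp
    have e : x 2 * x 1 * (x 2)⁻¹ = (x 1)⁻¹ := by
      calc _ = (x 2 * x 1 ^ (a + 1) * (x 2)⁻¹) * (x 2 * x 1 ^ a * (x 2)⁻¹)⁻¹ := by group
        _ = _ := by rw [b, b']; group
    have f : x 1 ^ (2 * a + 1) = 1 := by
      rw [← conj_pow, e, inv_pow, inv_eq_iff_mul_eq_one, ← pow_add] at b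
      rw [← b]; congr 1; ring
    have g := W_even z3 e (t := 1) (j := 0) (by simpa using c) ((a + 1 : ℕ) : ℤ)
    rw [zpow_natCast, mul_one, ← pow_mul, show 2 * (a + 1) = 2 * a + 1 + 1 by ring, pow_succ, o,
      one_mul, show 2 * ((a + 1 : ℕ) : ℤ) + 0 = ((2 * a + 1 + 1 : ℕ) : ℤ) by push_cast; ring,
      zpow_natCast, pow_succ, f, one_mul] at g
    obtain ⟨φ, f1, f2, f3⟩ := sl2_top hω z1 z3 e c g
    refine ⟨φ, fun i => ?_⟩
    fin_cases i
    exacts [(f1 1).trans z2, f2, f3]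

theorem pres_sl2 (hω : ∀ u : Fˣ, u ∈ zpowers ω) : Pres (s2 ω) 8 := by
  by_cases h2 : ringChar F = 2
  · exact (pres_sl2_even hω h2).mono (by omega)
  · exact pres_sl2_of hω (bp_five hω h2)

end gens

theorem cyclic_center (n : ℕ) [Finite F] : IsCyclic (center SL(n, F)) := by
  rcases Nat.eq_zero_or_pos n with rfl | hn
  · haveI : Subsingleton SL(0, F) := ⟨fun a b => Subtype.ext (Subsingleton.elim _ _)⟩
    infer_instance
  · exact isCyclic_of_surjective _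
      (Matrix.SpecialLinearGroup.center_equiv_rootsOfUnity' (R := F) (⟨0, hn⟩ : Fin n)).symm.surjective

end Cfsg.Agent.H7.Pr
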