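import Mathlib
import Cfsg.Agent.H7.Pr2
import Cfsg.Agent.S2401

/-! Steinberg relations of `SL_n` from a few of them. -/

set_option autoImplicit false

namespace Cfsg.Agent.H7.Pr
open Subgroup Equiv Polynomial
open scoped MatrixGroups commutatorElement

universe u v
variable {F : Type u} [Field F] {n : ℕ} {H : Type v} [Group H]

/-- elementary transvections -/
def tv (i j : Fin n) (t : F) : SL(n, F) :=
  if h : i ≠ j then Matrix.SpecialLinearGroup.transvection h t else 1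

theorem tv_eq {i j : Fin n} (h : i ≠ j) (t : F) :
    tv i j t = Matrix.SpecialLinearGroup.transvection h t := dif_pos h

theorem tv_add (i j : Fin n) : IsAdd (tv i j : F → SL(n, F)) := fun a b => by
  by_cases h : i = j
  · simp [tv, h]
  · simp only [tv_eq h, Matrix.SpecialLinearGroup.transvection_add]

theorem tv_comm {i j k l : Fin n} (h1 : i ≠ l) (h2 : j ≠ k) (t u : F) :
    Commute (tv i j t) (tv k l u) := by
  by_cases a : i = j
  · simp [tv, a]
  by_cases b : k = l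
  · simp [tv, b]
  apply Subtype.ext
  simp [tv_eq a, tv_eq b, Matrix.SpecialLinearGroup.transvection_coe, mul_add, add_mul,
    Matrix.single_mul_single_of_ne _ _ _ _ h2, Matrix.single_mul_single_of_ne _ _ _ _ h1.symm]
  abel

theorem tv_conj {i j l : Fin n} (h1 : i ≠ j) (h2 : j ≠ l) (h3 : i ≠ l) (t u : F) :
    tv i j t * tv j l u * (tv i j t)⁻¹ = tv i l (t * u) * tv j l u := by
  rw [tv_eq h1, tv_eq h2, tv_eq h3, ← H10.transvection_commutator h1 h2 h3, commutatorElement_def]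
  group

theorem sl_ext {M : Type*} [Monoid M] {f g : SL(n, F) →* M}
    (h : ∀ i j t, i ≠ j → f (tv i j t) = g (tv i j t)) : f = g := by
  ext A
  induction A using H10.SL_transvection_induction with
  | h1 => simp
  | htr i j a t => rw [← tv_eq a]; exact h i j t a
  | hmul A B a b => simp [a, b]

theorem st_hom [Finite F] (hn : 3 ≤ n) (X : Fin n → Fin n → F → H) (add : ∀ i j, i ≠ j → IsAdd (X i j))
    (cm : ∀ i j k l t u, i ≠ j → k ≠ l → i ≠ l → j ≠ k → Commute (X i j t) (X k l u))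
    (cr : ∀ i j l t u, i ≠ j → j ≠ l → i ≠ l →
      X i j t * X j l u * (X i j t)⁻¹ = X i l (t * u) * X j l u) :
    ∃ φ : SL(n, F) →* H, ∀ i j t, i ≠ j → φ (tv i j t) = X i j t := by
  obtain ⟨e, he⟩ := S2401.result (K := F) n hn
  refine ⟨(PresentedGroup.toGroup (f := fun p => X p.1.1.1 p.1.1.2 p.2) ?_).comp e.symm.toMonoidHom,
    fun i j t h => ?_⟩
  · rintro _ ((⟨a, t, u, rfl⟩ | ⟨a, b, t, u, h1, h2, rfl⟩) | ⟨a, b, h, t, u, h1, rfl⟩) <;>
      simp only [map_mul, map_inv, FreeGroup.lift_apply_of]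
    · rw [add _ _ a.2]; simp
    · rw [(cm _ _ _ _ t u a.2 b.2 h1 h2).eq]; simp
    · rw [← h1, cr _ _ _ t u a.2 (h1 ▸ b.2) h]; simp
  · have : tv i j t = e (PresentedGroup.of (⟨(i, j), h⟩, t)) := by
      rw [tv_eq h]; exact Subtype.ext (he ⟨(i, j), h⟩ t).symm
    simp [this]

/-- the coroots -/
def dl (ω : Fˣ) (i j : Fin n) : Fin n → Fˣ := Pi.mulSingle i ω / Pi.mulSingle j ω

/-- torus elements -/
def dg (ω : Fˣ) (i j : Fin n) : SL(n, F) := ⟨Matrix.diagonal fun k => (dl ω i j k : F), by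
  rw [Matrix.det_diagonal, ← Units.coe_prod]
  simp [dl, Finset.prod_div_distrib, Finset.prod_pi_mulSingle']⟩

theorem dg_tv (ω : Fˣ) (i j k l : Fin n) (t : F) :
    dg ω i j * tv k l t * (dg ω i j)⁻¹ = tv k l ((dl ω i j k / dl ω i j l : Fˣ) * t) := by
  by_cases h : k = l
  · simp [tv, h]
  rw [tv_eq h, tv_eq h, H17.G2.diag_conj rfl h (Units.ne_zero _)]; simp

theorem dg_mul (ω : Fˣ) (i j l : Fin n) : dg ω i j * dg ω j l = dg ω i l :=
  Subtype.ext <| by
    rw [Matrix.SpecialLinearGroup.coe_mul]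
    simp only [dg, Matrix.diagonal_mul_diagonal, ← Units.val_mul]
    simp [dl]

theorem dg_comm (ω : Fˣ) (i j k l : Fin n) : Commute (dg ω i j) (dg ω k l) :=
  Subtype.ext <| by
    rw [Matrix.SpecialLinearGroup.coe_mul, Matrix.SpecialLinearGroup.coe_mul]
    simp only [dg, Matrix.diagonal_mul_diagonal, mul_comm]

/-- `A` acts by the permutation `σ` -/
def PA (A : SL(n, F)) (σ : Perm (Fin n)) : Prop :=
  ∀ M : SL(n, F), (A * M * A⁻¹).1 = M.1.submatrix ⇑σ⁻¹ ⇑σ⁻¹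

theorem pa_of {A : SL(n, F)} {σ : Perm (Fin n)} {c : F} (h : A.1 = c • Matrix.permMatrixHom σ) :
    PA A σ := fun M => by
  have : A.1 * M.1 = M.1.submatrix ⇑σ⁻¹ ⇑σ⁻¹ * A.1 := by
    rw [h, Matrix.smul_mul, Matrix.mul_smul, Matrix.permMatrixHom_apply, PEquiv.toMatrix_toPEquiv_mul,
      PEquiv.mul_toMatrix_toPEquiv]
    congr 1; ext; simp [Perm.inv_def]
  rw [Matrix.SpecialLinearGroup.coe_mul, Matrix.SpecialLinearGroup.coe_mul, this, mul_assoc,
    ← Matrix.SpecialLinearGroup.coe_mul, mul_inv_cancel]; simp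

theorem PA.tv {A : SL(n, F)} {σ : Perm (Fin n)} (h : PA A σ) (i j : Fin n) (t : F) :
    A * tv i j t * A⁻¹ = tv (σ i) (σ j) t := by
  by_cases a : i = j
  · simp [Pr.tv, a]
  apply Subtype.ext
  rw [h, tv_eq a, tv_eq (σ.injective.ne a)]
  ext k l
  simp [Matrix.SpecialLinearGroup.transvection_coe, Matrix.one_apply, Matrix.single_apply,
    Equiv.eq_symm_apply]

theorem dl_perm (ω : Fˣ) (σ : Perm (Fin n)) (i j k : Fin n) :
    dl ω (σ i) (σ j) (σ k) = dl ω i j k := by simp [dl, Pi.mulSingle_apply]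

theorem PA.dg {A : SL(n, F)} {σ : Perm (Fin n)} (h : PA A σ) (ω : Fˣ) (i j : Fin n) :
    A * dg ω i j * A⁻¹ = dg ω (σ i) (σ j) := by
  apply Subtype.ext
  rw [h]
  ext k l
  simp only [Pr.dg, Matrix.submatrix_apply, Matrix.diagonal_apply, EmbeddingLike.apply_eq_iff_eq]
  rw [← dl_perm ω σ]; simp

/-- `d` is induced by conjugation -/
def Tor (X : Fin n → Fin n → F → H) (d : Fin n → Fˣ) : Prop :=
  ∃ g : H, ∀ k l t, k ≠ l → X k l ((d k / d l : Fˣ) * t) = g * X k l t * g⁻¹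

theorem Tor.mul {X : Fin n → Fin n → F → H} {d e : Fin n → Fˣ} (h : Tor X d) (h' : Tor X e) :
    Tor X (d * e) := by
  obtain ⟨g, a⟩ := h
  obtain ⟨g', b⟩ := h'
  refine ⟨g * g', fun k l t c => ?_⟩
  rw [Pi.mul_apply, Pi.mul_apply, mul_div_mul_comm, Units.val_mul, mul_assoc, a _ _ _ c, b _ _ _ c]
  group

theorem Tor.all [Finite F] {X : Fin n → Fin n → F → H} {ω : Fˣ} (hω : ∀ u : Fˣ, u ∈ zpowers ω)
    {i j : Fin n} (h : Tor X (dl ω i j)) (c : Fˣ) : Tor X (dl c i j) := by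
  obtain ⟨k, rfl⟩ := mem_powers_iff_mem_zpowers.2 (hω c)
  induction k with
  | zero => exact ⟨1, by simp [dl]⟩
  | succ k ih =>
    convert ih.mul h using 1
    simp only [dl, pow_succ, Pi.mulSingle_mul, mul_div_mul_comm]

theorem st_core [Finite F] (hn : 3 ≤ n) {ω : Fˣ} (hω : ∀ u : Fˣ, u ∈ zpowers ω)
    (X : Fin n → Fin n → F → H) (add : ∀ i j, i ≠ j → IsAdd (X i j))
    (tor : ∀ i j, i ≠ j → Tor X (dl ω i j)) {E : Finset F} {l : Fˣ} (hl : l = ω ^ 3 ∨ (l = ω ∧ 4 ≤ n))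
    (hE : ∀ Q : F → Prop, Q 0 → (∀ a b, Q a → Q b → Q (a + b)) → (∀ a, Q a → Q (l * a)) →
      ∀ c : Fˣ, (∀ e ∈ E, Q (c * e)) → ∀ t, Q t)
    (rA : ∀ i j k, i ≠ j → j ≠ k → i ≠ k → ∀ e ∈ E, Commute (X i j e) (X i k 1))
    (rB : ∀ i j k, i ≠ j → j ≠ k → i ≠ k → ∀ e ∈ E,
      X i j e * X j k 1 * (X i j e)⁻¹ = X i k e * X j k 1)
    (rD : ∀ i j k m, i ≠ j → k ≠ m → i ≠ k → i ≠ m → j ≠ k → j ≠ m → Commute (X i j 1) (X k m 1)) :
    ∃ φ : SL(n, F) →* H, ∀ i j t, i ≠ j → φ (tv i j t) = X i j t := by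
  have tor' := fun i j h c => (tor i j h).all hω c
  have cc : ∀ {g a b : H}, Commute a b → Commute (g * a * g⁻¹) (g * b * g⁻¹) := fun {g _ _} h =>
    h.map (MulAut.conj g)
  have four : 4 ≤ n → ∀ i j k : Fin n, ∃ m, m ≠ i ∧ m ≠ j ∧ m ≠ k := fun h i j k => by
    obtain ⟨m, -, hm⟩ := Finset.exists_mem_notMem_of_card_lt_card (s := {i, j, k}) (t := Finset.univ)
      (Finset.card_le_three.trans_lt (by simp; omega))
    exact ⟨m, by simpa using hm⟩
  have A : ∀ i j k t u, i ≠ j → j ≠ k → i ≠ k → Commute (X i j t) (X i k u) :=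
    fun i j k t u a b c => by
      by_cases hu : u = 0
      · rw [hu, (add i k c).zero]; exact Commute.one_right _
      obtain ⟨d, ⟨g, hg⟩, d1, d2⟩ : ∃ d, Tor X d ∧ d i / d j = l ∧ d i / d k = 1 := by
        rcases hl with rfl | ⟨rfl, h4⟩
        · exact ⟨_, (tor i j a).mul (tor k j b.symm), by
            simp [dl, a, b, c, pow_succ, div_eq_mul_inv, mul_assoc], by simp [dl, a, b.symm, c, c.symm]⟩
        · obtain ⟨m, m1, m2, m3⟩ := four h4 i j k
          exact ⟨_, tor m j m2, by simp [dl, a, m1.symm, m2.symm], by simp [dl, a, b.symm, m1.symm, m3.symm]⟩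
      obtain ⟨g', hg'⟩ := tor' j k b (Units.mk0 u hu)
      refine hE (fun t => Commute (X i j t) (X i k u)) (by simp [(add i j a).zero])
        (fun x y p q => by rw [add i j a]; exact p.mul_left q) (fun x p => ?_) (Units.mk0 u hu)⁻¹
        (fun e he => ?_) t
      · have := cc (g := g) p
        rwa [← hg _ _ _ a, ← hg _ _ _ c, d1, d2, Units.val_one, one_mul] at this
      · have := cc (g := g') (rA i j k a b c e he)
        rw [← hg' _ _ _ a, ← hg' _ _ _ c] at this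
        simpa [dl, a, b, c, b.symm] using this
  have B : ∀ i j k t u, i ≠ j → j ≠ k → i ≠ k →
      X i j t * X j k u * (X i j t)⁻¹ = X i k (t * u) * X j k u := fun i j k t u a b c => by
    by_cases hu : u = 0
    · simp [hu, (add i k c).zero, (add j k b).zero]
    obtain ⟨d, ⟨g, hg⟩, d1, d2⟩ : ∃ d, Tor X d ∧ d i / d j = l ∧ d j / d k = 1 := by
      rcases hl with rfl | ⟨rfl, h4⟩
      · exact ⟨_, (tor i j a).mul (tor i k c), by
          simp [dl, a, b, c, a.symm, pow_succ, div_eq_mul_inv], by simp [dl, a.symm, b, b.symm, c.symm]⟩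
      · obtain ⟨m, m1, m2, m3⟩ := four h4 i j k
        exact ⟨_, tor i m m1.symm, by simp [dl, a.symm, m1.symm, m2.symm],
          by simp [dl, a.symm, c.symm, m2.symm, m3.symm]⟩
    have d3 : d i / d k = l := by rw [← d1, ← mul_one (d i / d j), ← d2]; simp
    obtain ⟨g', hg'⟩ := tor' i k c (Units.mk0 u hu)
    have cj : ∀ {g a b c : H}, a * b * a⁻¹ = c * b →
        g * a * g⁻¹ * (g * b * g⁻¹) * (g * a * g⁻¹)⁻¹ = g * c * g⁻¹ * (g * b * g⁻¹) :=
      fun {g a b c} h => by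
        calc _ = g * (a * b * a⁻¹) * g⁻¹ := by group
          _ = _ := by rw [h]; group
    refine hE (fun t => X i j t * X j k u * (X i j t)⁻¹ = X i k (t * u) * X j k u)
      (by simp [(add i j a).zero, (add i k c).zero]) (fun x y p q => ?_) (fun x p => ?_)
      (Units.mk0 u hu) (fun e he => ?_) t
    · rw [add i j a, add_mul, add_comm, add i k c]
      calc _ = X i j x * (X i j y * X j k u * (X i j y)⁻¹) * (X i j x)⁻¹ := by group
        _ = (X i j x * X i k (y * u)) * X j k u * (X i j x)⁻¹ := by rw [q]; group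
        _ = X i k (y * u) * (X i j x * X j k u * (X i j x)⁻¹) := by rw [(A _ _ _ _ _ a b c).eq]; group
        _ = _ := by rw [p]; group
    · have := cj (g := g) p
      rwa [← hg _ _ _ a, ← hg _ _ _ b, ← hg _ _ _ c, d1, d2, d3, Units.val_one, one_mul,
        ← mul_assoc] at this
    · have := cj (g := g') (rB i j k a b c e he)
      rw [← hg' _ _ _ a, ← hg' _ _ _ b, ← hg' _ _ _ c] at this
      simpa [dl, a, b, c, a.symm, c.symm, mul_right_comm] using this
  have C : ∀ i j k t u, i ≠ j → j ≠ k → i ≠ k → Commute (X j k u) (X i k t) :=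
    fun i j k t u a b c => by
      have e := B i j k 1 (u + t) a b c
      have e' : X i j 1 * X j k (u + t) * (X i j 1)⁻¹ =
          (X i j 1 * X j k u * (X i j 1)⁻¹) * (X i j 1 * X j k t * (X i j 1)⁻¹) := by
        rw [add j k b]; group
      rw [e', B _ _ _ _ _ a b c, B _ _ _ _ _ a b c, add j k b, one_mul, one_mul, one_mul, add i k c,
        ← mul_assoc, ← mul_assoc, mul_left_inj, mul_assoc, mul_assoc, mul_right_inj] at e
      exact e
  have D : ∀ i j k m t u, i ≠ j → k ≠ m → i ≠ k → i ≠ m → j ≠ k → j ≠ m →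
      Commute (X i j t) (X k m u) := fun i j k m t u a b c d e f => by
    by_cases hu : u = 0
    · rw [hu, (add k m b).zero]; exact Commute.one_right _
    obtain ⟨g, hg⟩ := tor i j a
    obtain ⟨g', hg'⟩ := tor' k i c.symm (Units.mk0 u hu)
    refine H17.all_of_sq_stable hω (P := fun t => Commute (X i j t) (X k m u))
      (by simp [(add i j a).zero]) (fun x y p q => by rw [add i j a]; exact p.mul_left q)
      (fun x p => ?_) (inv_ne_zero hu) ?_ t
    · have := cc (g := g) p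
      rw [← hg _ _ _ a, ← hg _ _ _ b] at this
      simpa [dl, a, a.symm, c.symm, d.symm, e.symm, f.symm, sq, div_eq_mul_inv] using this
    · have := cc (g := g') (rD i j k m a b c d e f)
      rw [← hg' _ _ _ a, ← hg' _ _ _ b] at this
      simpa [dl, a.symm, b.symm, c, c.symm, d.symm, e] using this
  refine st_hom hn X add (fun i j k m t u a b c d => ?_) B
  by_cases e : i = k
  · subst e
    by_cases f : j = m
    · subst f; exact (add i j a).comm _ _
    · exact A _ _ _ _ _ a f c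
  by_cases f : j = m
  · subst f; exact C k i j u t (Ne.symm e) a b
  · exact D _ _ _ _ _ _ a b e c d f

theorem sl_main [Finite F] (hn : 3 ≤ n) {ω : Fˣ} (hω : ∀ u : Fˣ, u ∈ zpowers ω)
    {E : Finset F} {l : Fˣ} (hl : l = ω ^ 3 ∨ (l = ω ∧ 4 ≤ n))
    (hE : ∀ Q : F → Prop, Q 0 → (∀ a b, Q a → Q b → Q (a + b)) → (∀ a, Q a → Q (l * a)) →
      ∀ c : Fˣ, (∀ e ∈ E, Q (c * e)) → ∀ t, Q t)
    {P : Type*} [Group P] (π : P →* Perm (Fin n)) (J : P →* SL(n, F)) (hJ : ∀ σ, PA (J σ) (π σ))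
    {a b c : Fin n} (ab : a ≠ b) (bc : b ≠ c) (ac : a ≠ c) {L3 : Finset (Fin n)}
    {L4 : Finset (Fin n × Fin n)} (τ : Fin n → Fin n → P)
    (hτ : ∀ i j, i ≠ j → π (τ i j) a = i ∧ π (τ i j) b = j)
    (h3 : ∀ i j k, i ≠ j → j ≠ k → i ≠ k → ∃ σ, ∃ m ∈ L3, π σ a = i ∧ π σ b = j ∧ π σ m = k)
    (hs : ∀ i j k, i ≠ j → j ≠ k → i ≠ k → ∃ σ, π σ a = i ∧
      ((π σ b = j ∧ π σ c = k) ∨ ((∀ e ∈ E, e = 1) ∧ π σ b = k ∧ π σ c = j)))
    (h4 : ∀ i j k m, i ≠ j → k ≠ m → i ≠ k → i ≠ m → j ≠ k → j ≠ m →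
      ∃ σ, ∃ p ∈ L4, π σ a = i ∧ π σ b = j ∧ π σ p.1 = k ∧ π σ p.2 = m)
    {z : P} (hz : ∀ N : Subgroup P, N.Normal → z ∈ N → N = ⊤)
    (ψ : P →* H) {h : H} {x : F → H} (hx : IsAdd x) {hh : Fin n → Fin n → H} {X : Fin n → Fin n → F → H}
    (dh : ∀ i j, hh i j = ψ (τ i j) * h * (ψ (τ i j))⁻¹)
    (dX : ∀ i j t, X i j t = ψ (τ i j) * x t * (ψ (τ i j))⁻¹)
    (t0 : ∀ t, x (ω * t) = hh a c * x t * (hh a c)⁻¹)
    (su : ∀ σ, π σ a = a → π σ b = b → Commute (ψ σ) (x 1))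
    (sh : ∀ σ, π σ a = a → π σ b = b → Commute (ψ σ) h)
    (t1 : ∀ m ∈ L3, hh a b * hh b m = hh a m) (t2 : Commute (hh a b) (hh a c))
    (t3 : ∀ p ∈ L4, Commute (hh p.1 p.2) (x 1)) (t4 : Commute (hh b c * hh a c) (x 1))
    (rA : ∀ e ∈ E, Commute (X a b e) (X a c 1))
    (rB : ∀ m ∈ L3, ∀ e ∈ E, X a b e * X b m 1 * (X a b e)⁻¹ = X a m e * X b m 1)
    (rD : ∀ p ∈ L4, Commute (X a b 1) (X p.1 p.2 1))
    (kill : ∀ φ : SL(n, F) →* H, (∀ i j t, i ≠ j → φ (tv i j t) = X i j t) → ψ z = φ (J z)) :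
    ∃ φ : SL(n, F) →* H, (∀ σ, φ (J σ) = ψ σ) ∧ φ (tv a b 1) = x 1 ∧ φ (dg ω a b) = h := by
  have cc : ∀ {g a b : H}, Commute a b → Commute (g * a * g⁻¹) (g * b * g⁻¹) := fun {g _ _} h =>
    h.map (MulAut.conj g)
  have eqv : ∀ y : H, (∀ σ, π σ a = a → π σ b = b → Commute (ψ σ) y) → ∀ σ i j, i ≠ j →
      ψ σ * (ψ (τ i j) * y * (ψ (τ i j))⁻¹) * (ψ σ)⁻¹ =
        ψ (τ (π σ i) (π σ j)) * y * (ψ (τ (π σ i) (π σ j)))⁻¹ := fun y hy σ i j ij => by
    have e := hτ _ _ ((π σ).injective.ne ij)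
    have := (hy ((τ (π σ i) (π σ j))⁻¹ * σ * τ i j)
      (by simp [Equiv.symm_apply_eq, hτ i j ij, e]) (by simp [Equiv.symm_apply_eq, hτ i j ij, e])).eq
    simp only [map_mul, map_inv] at this
    calc _ = ψ (τ (π σ i) (π σ j)) * ((ψ (τ (π σ i) (π σ j)))⁻¹ * ψ σ * ψ (τ i j) * y) *
        (ψ (τ i j))⁻¹ * (ψ σ)⁻¹ := by group
      _ = _ := by rw [this]; group
  have inj : ∀ σ {i j}, π σ i ≠ π σ j → i ≠ j := fun σ _ _ h e => h (e ▸ rfl)
  have eh : ∀ σ i j, i ≠ j → ψ σ * hh i j * (ψ σ)⁻¹ = hh (π σ i) (π σ j) := fun σ i j ij => by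
    rw [dh, dh, eqv h sh σ i j ij]
  have T1 : ∀ i j k, i ≠ j → j ≠ k → i ≠ k → hh i j * hh j k = hh i k := fun i j k p q r => by
    obtain ⟨σ, m, hm, rfl, rfl, rfl⟩ := h3 i j k p q r
    rw [← eh σ _ _ ab, ← eh σ _ _ (inj σ q), ← eh σ _ _ (inj σ r), ← t1 m hm]; group
  have T2 : ∀ j k, a ≠ j → a ≠ k → Commute (hh a j) (hh a k) := fun j k p r => by
    by_cases q : j = k
    · rw [q]
    obtain ⟨σ, e, ⟨rfl, rfl⟩ | ⟨-, rfl, rfl⟩⟩ := hs a j k p q r <;> have := cc (g := ψ σ) t2 <;>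
      rw [eh σ _ _ ab, eh σ _ _ ac, e] at this
    exacts [this, this.symm]
  let A : Fin n → H := fun j => if j = a then 1 else hh a j
  have hA : ∀ i j, i ≠ j → hh i j = (A i)⁻¹ * A j := fun i j ij => by
    by_cases p : i = a
    · simp [A, p, show j ≠ a from p ▸ ij.symm]
    by_cases q : j = a
    · obtain ⟨k, k1, k2⟩ := H10.exists_third (i := i) (j := a) (by simpa using hn)
      have e := T1 i a k p k2.symm k1.symm
      rw [← T1 a i k (Ne.symm p) k1.symm k2.symm, ← mul_assoc, mul_eq_right] at e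
      simp [A, p, q, eq_inv_iff_mul_eq_one, e]
    · simp [A, p, q, ← T1 a i j (Ne.symm p) ij (Ne.symm q)]
  have cA : ∀ i j, Commute (A i) (A j) := fun i j => by
    simp only [A]
    split_ifs with p q q
    exacts [Commute.refl _, Commute.one_left _, Commute.one_right _, T2 _ _ (Ne.symm p) (Ne.symm q)]
  have ch : ∀ i j, i ≠ j → Commute (hh i j) (hh a c) := fun i j ij => by
    rw [hA i j ij, hA a c ac]
    exact ((cA _ _).inv_inv.mul_right (cA _ _).inv_left).mul_left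
      ((cA _ _).inv_right.mul_right (cA _ _))
  let Act : H → Fˣ → Prop := fun g e => ∀ t, x (e * t) = g * x t * g⁻¹
  have am : ∀ {g g' e e'}, Act g e → Act g' e' → Act (g * g') (e * e') := fun p q t => by
    rw [Units.val_mul, mul_assoc, p, q]; group
  have ai : ∀ {g e}, Act g e → Act g⁻¹ e⁻¹ := fun {g e} p t => by
    rw [← inv_mul_cancel_left g (x _), ← mul_inv_cancel_right (g⁻¹ * _) g⁻¹, mul_assoc g⁻¹, ← p]; simp
  have a1 : ∀ g, Commute g (hh a c) → Commute g (x 1) → Act g 1 := fun g p q =>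
    conj_of_one hx (gen_of_generator hω) t0 p (by rw [q.eq]; simp)
  have aA : ∀ j, Act (A j) (dl ω a j a / dl ω a j b) := fun j => by
    by_cases p : j = a
    · simp [A, p, dl, Act]
    simp only [A, if_neg p]
    by_cases q : j = b
    · have := am (am t0 (ai (a1 _ ((ch _ _ bc).mul_left (Commute.refl _)) t4))) t0
      rw [← T1 a b c ab bc ac] at this
      convert this using 1
      · rw [q, T1 a b c ab bc ac, mul_inv_rev, ← (ch _ _ bc).inv_left.inv_right.eq,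
          ← T1 a b c ab bc ac]; group
      · simp [dl, q, ab, ab.symm, div_eq_mul_inv]
    have v : dl ω a j a / dl ω a j b = ω := by simp [dl, Ne.symm p, Ne.symm q, ab.symm]
    rw [v]
    by_cases r : j = c
    · rw [r]; exact t0
    obtain ⟨σ, m, hm, e1, e2, e3, e4⟩ := h4 a b c j ab (Ne.symm r) ac (Ne.symm p) bc (Ne.symm q)
    have := cc (g := ψ σ) (t3 m hm)
    rw [eh σ _ _ (inj σ (by rw [e3, e4]; exact Ne.symm r)), e3, e4, (su σ e1 e2).eq,
      mul_inv_cancel_right] at this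
    simpa [T1 a c j ac (Ne.symm r) (Ne.symm p)] using am t0 (a1 _ (ch _ _ (Ne.symm r)) this)
  have ah : ∀ i j, i ≠ j → Act (hh i j) (dl ω i j a / dl ω i j b) := fun i j ij => by
    rw [hA i j ij]
    convert am (ai (aA i)) (aA j) using 1
    simp only [dl, Pi.div_apply]
    apply Units.ext; simp; field_simp
  have sx : ∀ t σ, π σ a = a → π σ b = b → Commute (ψ σ) (x t) := fun t σ p q => by
    by_cases ht : t = 0
    · rw [ht, hx.zero]; exact Commute.one_right _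
    obtain ⟨k, rfl⟩ := exists_pow hω ht
    have r : π σ c ≠ a := fun e => ac ((π σ).injective (p.trans e.symm))
    have r' : π σ c ≠ b := fun e => bc ((π σ).injective (q.trans e.symm))
    have e := ah a _ r.symm
    rw [show dl ω a (π σ c) a / dl ω a (π σ c) b = ω by simp [dl, r.symm, r'.symm, ab.symm]] at e
    have f := conj_zpow' ω.ne_zero e k 1
    have f' := conj_zpow' ω.ne_zero t0 k 1
    simp only [zpow_natCast, mul_one] at f f'
    rw [Commute, SemiconjBy, ← mul_inv_eq_iff_eq_mul]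
    nth_rewrite 1 [f']
    have e' := eh σ a c ac
    rw [p] at e'
    rw [f, ← e', conj_pow]
    calc _ = ψ σ * hh a c ^ k * (ψ σ)⁻¹ * (ψ σ * x 1) * (hh a c ^ k)⁻¹ * (ψ σ)⁻¹ := by group
      _ = _ := by rw [(su σ p q).eq]; group
  have eX : ∀ σ i j t, i ≠ j → ψ σ * X i j t * (ψ σ)⁻¹ = X (π σ i) (π σ j) t := fun σ i j t ij => by
    rw [dX, dX, eqv _ (sx t) σ i j ij]
  have tor : ∀ i j k m t, i ≠ j → k ≠ m →
      X k m ((dl ω i j k / dl ω i j m : Fˣ) * t) = hh i j * X k m t * (hh i j)⁻¹ :=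
    fun i j k m t ij km => by
      have e := eh (τ k m) _ _ ((π (τ k m))⁻¹.injective.ne ij)
      have f := ah _ _ ((π (τ k m))⁻¹.injective.ne ij) t
      rw [← dl_perm ω (π (τ k m)), ← dl_perm ω (π (τ k m)) _ _ b, (hτ k m km).1, (hτ k m km).2] at f
      simp only [Perm.coe_inv, Equiv.apply_symm_apply] at e f
      rw [dX, dX, f, ← e]; group
  obtain ⟨φ, hφ⟩ := st_core hn hω X (fun i j _ s t => by rw [dX, dX, dX, hx]; group)
    (fun i j ij => ⟨hh i j, fun k m t km => tor i j k m t ij km⟩) hl hE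
    (fun i j k p q r e he => by
      obtain ⟨σ, rfl, ⟨rfl, rfl⟩ | ⟨f, rfl, rfl⟩⟩ := hs i j k p q r <;>
        have := cc (g := ψ σ) (rA e he) <;> rw [eX σ _ _ _ ab, eX σ _ _ _ ac] at this
      · exact this
      · rw [f e he] at this ⊢; exact this.symm)
    (fun i j k p q r e he => by
      obtain ⟨σ, m, hm, rfl, rfl, rfl⟩ := h3 i j k p q r
      rw [← eX σ _ _ _ ab, ← eX σ _ _ _ (inj σ q), ← eX σ _ _ _ (inj σ r)]
      calc _ = ψ σ * (X a b e * X b m 1 * (X a b e)⁻¹) * (ψ σ)⁻¹ := by group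
        _ = _ := by rw [rB m hm e he]; group)
    fun i j k m _ p _ _ _ _ => by
      obtain ⟨σ, y, hy, rfl, rfl, rfl, rfl⟩ := h4 i j k m ‹_› ‹_› ‹_› ‹_› ‹_› ‹_›
      rw [← eX σ _ _ _ ab, ← eX σ _ _ _ (inj σ p)]
      exact cc (rD y hy)
  have same : ∀ (g : H) (g' : SL(n, F)), (∀ i j t, i ≠ j → g * X i j t * g⁻¹ = φ (g' * tv i j t * g'⁻¹)) →
      ∀ M, g * φ M * g⁻¹ = φ (g' * M * g'⁻¹) := fun g g' p M => by
    have : (MulAut.conj g).toMonoidHom.comp φ = φ.comp (MulAut.conj g').toMonoidHom :=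
      sl_ext fun i j t ij => by simpa [hφ _ _ _ ij] using p i j t ij
    exact DFunLike.congr_fun this M
  have s1 := fun σ => same (ψ σ) (J σ) fun i j t ij => by
    rw [(hJ σ).tv, eX _ _ _ _ ij, hφ _ _ _ ((π σ).injective.ne ij)]
  have k1 : ∀ σ, φ (J σ) = ψ σ := fun σ => by
    have := hz (MonoidHom.eqLocus (φ.comp J) ψ) ⟨fun g hg y => by
      have hg : φ (J g) = ψ g := hg
      show φ (J _) = ψ _
      rw [map_mul J, map_mul J, map_inv J, ← s1, hg]; simp⟩ (kill φ hφ).symm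
    exact (this ▸ mem_top σ : σ ∈ MonoidHom.eqLocus (φ.comp J) ψ)
  have e := hτ a b ab
  have hab : hh a b = h := by rw [dh, (sh _ e.1 e.2).eq]; simp
  refine ⟨φ, k1, by rw [hφ _ _ _ ab, dX, (sx 1 _ e.1 e.2).eq]; simp, ?_⟩
  have s2 := same h (dg ω a b) fun i j t ij => by rw [dg_tv, hφ _ _ _ ij, tor _ _ _ _ _ ab ij, hab]
  obtain ⟨η, hη⟩ : ∃ η, η = (φ (dg ω a b))⁻¹ * h := ⟨_, rfl⟩
  have he : h = φ (dg ω a b) * η := by rw [hη]; group
  have cη : ∀ M, Commute η (φ M) := fun M => by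
    have := s2 M
    simp only [map_mul, map_inv] at this
    rw [Commute, SemiconjBy, hη]
    calc _ = (φ (dg ω a b))⁻¹ * (h * φ M * h⁻¹) * h := by group
      _ = _ := by rw [this]; group
  have hη' : ∀ i j, i ≠ j → hh i j = φ (dg ω i j) * η := fun i j ij => by
    have := (hJ (τ i j)).dg ω a b
    rw [(hτ i j ij).1, (hτ i j ij).2] at this
    rw [dh, he, ← k1, ← this, ← map_inv, mul_assoc, mul_assoc, (cη _).eq]; simp [mul_assoc]
  have := T1 a b c ab bc ac
  rw [hη' _ _ ab, hη' _ _ bc, hη' _ _ ac, ← dg_mul ω a b c, map_mul, mul_assoc, ← mul_assoc η,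
    (cη _).eq, mul_assoc, mul_assoc, mul_right_inj, mul_right_inj, mul_eq_left] at this
  rw [he, this, mul_one]

end Cfsg.Agent.H7.Pr
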