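import Mathlib
import Cfsg.Agent.H7.Pr6
import Cfsg.Agent.H7.Pr7

/-! Bounded presentations of `SL_n(q)`. -/

set_option autoImplicit false

namespace Cfsg.Agent.H7.Pr
open Subgroup Equiv Polynomial
open FreeGroup (lift of lift_apply_of)
open scoped MatrixGroups

universe u v
variable {F : Type u} [Field F] {n : ℕ}

theorem Rl.apart {G : Type v} [Group G] {ι : Type} {s : ι → G} [Finite F] {ω : Fˣ}
    (hω : ∀ u : Fˣ, u ∈ zpowers ω) (U T : FreeGroup ι) {y : F → G} (hy : IsAdd y)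
    (hU : y 1 = lift s U) (hT : ∀ c, y (ω * c) = lift s T * y c * (lift s T)⁻¹) :
    Rl s (if ringChar F = 2 then 3 else 4) fun H _ x =>
      ∃ z : F → H, IsAdd z ∧ z 1 = lift x U ∧ ∀ c, z (ω * c) = lift x T * z c * (lift x T)⁻¹ := by
  have A := Rl.add U T hy hU (gen_of_generator hω) hT
  by_cases h : 1 + (ω : F) = 0
  · refine (A.and (Rl.commP U T hy hU (n := -1) ?_)).mono (by split_ifs <;> omega)
      fun _ _ _ h => h.1.2 h.2
    rw [← hT]; congr 1; push_cast; linear_combination -h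
  obtain ⟨b, hb⟩ := exists_pow hω h
  have e := conj_zpow' ω.ne_zero hT b 1
  rw [zpow_natCast, zpow_natCast, mul_one, hb, ← map_pow] at e
  have e1 := hT 1
  rw [mul_one] at e1
  split_ifs with h2
  · refine (A.and (Rl.eq (T ^ b * U * (T ^ b)⁻¹) (U * (T * U * T⁻¹)) ?_)).mono le_rfl ?_
    · simp only [map_mul, map_inv, ← hU, ← e, ← e1]; exact hy _ _
    · rintro H _ x ⟨⟨a, c⟩, d⟩
      simp only [map_mul, map_inv, map_pow, h2] at a d
      refine c (baumslag ((Commute.refl _).pow_left b) ?_ d)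
      have i : ∀ g : H, g * lift x U * g⁻¹ = (g * lift x U * g⁻¹)⁻¹ := fun g => by
        rw [eq_inv_iff_mul_eq_one, ← sq, conj_pow, a]; simp
      have j := i (lift x T ^ b)
      have k := i 1
      simp only [one_mul, inv_one, mul_one] at k
      rw [d, mul_inv_rev, ← i, ← k] at j
      exact j
  · exact (A.and (Rl.commB U T (T ^ b) hy hU e1 e ((Commute.refl _).pow_left b))).mono le_rfl
      fun _ _ _ h => h.1.2 h.2

theorem Rl.comm {G : Type v} [Group G] {ι : Type} {s : ι → G} {α : Type*} (S : Finset α)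
    (a b : α → FreeGroup ι) (h : ∀ i ∈ S, Commute (lift s (a i)) (lift s (b i))) :
    Rl s S.card fun _ _ x => ∀ i ∈ S, Commute (lift x (a i)) (lift x (b i)) :=
  (Rl.all S (fun i => a i * b i) (fun i => b i * a i) fun i hi => by simpa using (h i hi).eq).mono
    le_rfl fun _ _ _ h i hi => by simpa [Commute, SemiconjBy] using h i hi

theorem Rl.comm1 {G : Type v} [Group G] {ι : Type} {s : ι → G}
    (a b : FreeGroup ι) (h : Commute (lift s a) (lift s b)) :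
    Rl s 1 fun _ _ x => Commute (lift x a) (lift x b) :=
  (Rl.eq (a * b) (b * a) (by simpa using h.eq)).mono
    le_rfl fun _ _ _ h => by simpa [Commute, SemiconjBy] using h

theorem comm_closure {P H : Type*} [Group P] [Group H] (ψ : P →* H) {S : Set P} {y : H}
    (h : ∀ g ∈ S, Commute (ψ g) y) {σ : P} (hσ : σ ∈ closure S) : Commute (ψ σ) y := by
  induction hσ using closure_induction with
  | mem g hg => exact h g hg
  | one => simp
  | mul _ _ _ _ a b => rw [map_mul]; exact a.mul_left b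
  | inv _ _ a => rw [map_inv]; exact a.inv_left

theorem pres_sl [Finite F] (hn : 3 ≤ n) {ω : Fˣ} (hω : ∀ u : Fˣ, u ∈ zpowers ω)
    {E : Finset F} {l : Fˣ} (hl : l = ω ^ 3 ∨ (l = ω ∧ 4 ≤ n))
    (hE : ∀ Q : F → Prop, Q 0 → (∀ a b, Q a → Q b → Q (a + b)) → (∀ a, Q a → Q (l * a)) →
      ∀ c : Fˣ, (∀ e ∈ E, Q (c * e)) → ∀ t, Q t)
    {P : Type*} [Group P] (π : P →* Perm (Fin n)) (J : P →* SL(n, F)) (hJ : ∀ σ, PA (J σ) (π σ))
    {a b c : Fin n} (ab : a ≠ b) (bc : b ≠ c) (ac : a ≠ c) {L3 : Finset (Fin n)}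
    {L4 : Finset (Fin n × Fin n)} (hL3 : ∀ m ∈ L3, b ≠ m ∧ a ≠ m)
    (hL4 : ∀ p ∈ L4, p.1 ≠ p.2 ∧ a ≠ p.1 ∧ a ≠ p.2 ∧ b ≠ p.1 ∧ b ≠ p.2)
    (h3 : ∀ i j k, i ≠ j → j ≠ k → i ≠ k → ∃ σ, ∃ m ∈ L3, π σ a = i ∧ π σ b = j ∧ π σ m = k)
    (hs : ∀ i j k, i ≠ j → j ≠ k → i ≠ k → ∃ σ, π σ a = i ∧
      ((π σ b = j ∧ π σ c = k) ∨ ((∀ e ∈ E, e = 1) ∧ π σ b = k ∧ π σ c = j)))
    (h4 : ∀ i j k m, i ≠ j → k ≠ m → i ≠ k → i ≠ m → j ≠ k → j ≠ m →
      ∃ σ, ∃ p ∈ L4, π σ a = i ∧ π σ b = j ∧ π σ p.1 = k ∧ π σ p.2 = m)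
    {z : P} (hz : ∀ N : Subgroup P, N.Normal → z ∈ N → N = ⊤) {k : Fin 2 → P} {r : ℕ} (hk : Pres k r)
    {m : ℕ} (g : Fin m → P) (hg : ∀ i, π (g i) a = a ∧ π (g i) b = b)
    (hg' : ∀ σ, π σ a = a → π σ b = b → σ ∈ closure (Set.range g)) :
    ∃ s : Fin 4 → SL(n, F), Pres s (r + (if ringChar F = 2 then 3 else 4) + 2 * m + L3.card +
      2 * L4.card + E.card + L3.card * E.card + 3) := by
  have : ∀ i j, ∃ σ, i ≠ j → π σ a = i ∧ π σ b = j := fun i j => by
    by_cases h : i = j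
    · exact ⟨1, fun e => absurd h e⟩
    obtain ⟨k, k1, k2⟩ := H10.exists_third (i := i) (j := j) (by simpa using hn)
    obtain ⟨σ, -, -, p, q, -⟩ := h3 i j k h k2.symm k1.symm
    exact ⟨σ, fun _ => ⟨p, q⟩⟩
  choose τ hτ using this
  let s : Fin 4 → SL(n, F) := ![J (k 0), J (k 1), tv a b 1, dg ω a b]
  let W₀ : Fin 2 → FreeGroup (Fin 4) := ![of 0, of 1]
  have hj : ∀ i, J (k i) = lift s (W₀ i) := fun i => by fin_cases i <;> simp [s, W₀]
  choose wd hwd using exists_word hk.1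
  choose pol hpol using gen_of_generator hω
  let Pw : P → FreeGroup (Fin 4) := fun σ => lift W₀ (wd σ)
  let hw : Fin n → Fin n → FreeGroup (Fin 4) := fun i j => Pw (τ i j) * of 3 * (Pw (τ i j))⁻¹
  let Xw : Fin n → Fin n → F → FreeGroup (Fin 4) := fun i j t =>
    Pw (τ i j) * pw (of 2) (hw a c) (pol t) * (Pw (τ i j))⁻¹
  have s2 : lift s (of 2) = tv a b 1 := by simp [s]
  have s3 : lift s (of 3) = dg ω a b := by simp [s]
  have gP : ∀ σ, lift s (Pw σ) = J σ := fun σ => by simp only [Pw, lift_lift hj, hwd]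
  have gh : ∀ i j, i ≠ j → lift s (hw i j) = dg ω i j := fun i j ij => by
    simp only [hw, map_mul, map_inv, gP, s3, (hJ _).dg, hτ i j ij]
  have gT : ∀ t : F, tv a b (ω * t) = lift s (hw a c) * tv a b t * (lift s (hw a c))⁻¹ := fun t => by
    rw [gh a c ac, dg_tv]; simp [dl, ac, bc, ab.symm]
  have gX : ∀ i j t, i ≠ j → lift s (Xw i j t) = tv i j t := fun i j t ij => by
    simp only [Xw, map_mul, map_inv, gP, map_pw, s2, pw_field (tv_add a b) gT, hpol, (hJ _).tv,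
      hτ i j ij]
  let kk : Fin n × Fin n × ℤ[X] → SL(n, F) := fun p => tv p.1 p.2.1 (aeval (ω : F) p.2.2)
  let W : Fin n × Fin n × ℤ[X] → FreeGroup (Fin 4) := fun p =>
    if p.1 ≠ p.2.1 then Xw p.1 p.2.1 (aeval (ω : F) p.2.2) else 1
  have hW : ∀ p, (MonoidHom.id _) (kk p) = lift s (W p) := fun p => by
    by_cases h : p.1 = p.2.1
    · simp [kk, W, h, tv]
    · simp [kk, W, h, gX]
  have hkk : closure (Set.range kk) = ⊤ := H10.SL_eq_top_of_transvection_mem _ fun i j ij t =>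
    subset_closure ⟨(i, j, pol t), by simp [kk, hpol, tv_eq ij]⟩
  obtain ⟨w, hw'⟩ := exists_word hkk (J z)
  have dc : ∀ {i j t} {d : SL(n, F)}, d * tv i j t * d⁻¹ = tv i j t → Commute d (tv i j t) :=
    fun h => mul_inv_eq_iff_eq_mul.1 h
  refine ⟨s, top_unique (hkk.ge.trans (top_of_words hW)), ((Rl.sub hk W₀ J hj).and
    ((Rl.apart hω (of 2) (hw a c) (tv_add a b) s2.symm gT).and
    ((Rl.comm Finset.univ (fun i => Pw (g i)) (fun _ => of 2) fun i _ => ?_).and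
    ((Rl.comm Finset.univ (fun i => Pw (g i)) (fun _ => of 3) fun i _ => ?_).and
    ((Rl.all L3 (fun m => hw a b * hw b m) (fun m => hw a m) fun m hm => ?_).and
    ((Rl.comm1 (hw a b) (hw a c) ?_).and
    ((Rl.comm L4 (fun p => hw p.1 p.2) (fun _ => of 2) fun p hp => ?_).and
    ((Rl.comm1 (hw b c * hw a c) (of 2) ?_).and
    ((Rl.comm E (fun e => Xw a b e) (fun _ => Xw a c 1) fun e _ => ?_).and
    ((Rl.all (L3 ×ˢ E) (fun p => Xw a b p.2 * Xw b p.1 1 * (Xw a b p.2)⁻¹)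
      (fun p => Xw a p.1 p.2 * Xw b p.1 1) fun p hp => ?_).and
    ((Rl.comm L4 (fun _ => Xw a b 1) (fun p => Xw p.1 p.2 1) fun p hp => ?_).and
    (Rl.eq (Pw z) (lift W w) ?_)))))))))))).mono (by simp; omega) ?_⟩
  · rw [gP, s2]; exact dc (by rw [(hJ _).tv, (hg i).1, (hg i).2])
  · rw [gP, s3]; exact mul_inv_eq_iff_eq_mul.1 (by rw [(hJ _).dg, (hg i).1, (hg i).2])
  · rw [map_mul, gh _ _ ab, gh _ _ (hL3 m hm).1, gh _ _ (hL3 m hm).2, dg_mul]
  · rw [gh _ _ ab, gh _ _ ac]; exact dg_comm _ _ _ _ _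
  · obtain ⟨p1, p2, p3, p4, p5⟩ := hL4 p hp
    rw [gh _ _ p1, s2]; exact dc (by rw [dg_tv]; simp [dl, p2, p3, p4, p5])
  · rw [map_mul, gh _ _ bc, gh _ _ ac, s2]
    refine dc ?_
    rw [mul_inv_rev, mul_assoc, mul_assoc, ← mul_assoc (tv _ _ _), ← mul_assoc (dg _ a c),
      ← mul_assoc (dg _ a c), dg_tv, ← mul_assoc, dg_tv]
    simp [dl, ab, ac, bc, ab.symm]
  · rw [gX _ _ _ ab, gX _ _ _ ac]; exact tv_comm ac ab.symm _ _
  · obtain ⟨p1, p2⟩ := hL3 _ (Finset.mem_product.1 hp).1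
    simp only [map_mul, map_inv, gX _ _ _ ab, gX _ _ _ p1, gX _ _ _ p2, tv_conj ab p1 p2, mul_one]
  · obtain ⟨p1, p2, p3, p4, p5⟩ := hL4 p hp
    rw [gX _ _ _ ab, gX _ _ _ p1]; exact tv_comm p3 p4 _ _
  · rw [gP, lift_lift hW, hw']; rfl
  · rintro H _ x ⟨⟨ψ, hψ⟩, ⟨y, y1, y2, y3⟩, q1, q2, q3, q4, q5, q6, q7, q8, q9, q10⟩
    have xP : ∀ σ, lift x (Pw σ) = ψ σ := fun σ => by simp only [Pw, lift_lift hψ, hwd]
    simp only [xP, ← y2] at q1 q2 q5 q6 q10
    obtain ⟨φ, f1, f2, f3⟩ := sl_main hn hω hl hE π J hJ ab bc ac τ hτ h3 hs h4 hz ψ (h := x 3) y1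
      (hh := fun i j => lift x (hw i j)) (X := fun i j t => lift x (Xw i j t))
      (fun i j => by simp only [hw, map_mul, map_inv, xP, lift_apply_of])
      (fun i j t => by simp only [Xw, map_mul, map_inv, xP, map_pw, ← y2, pw_field y1 y3, hpol])
      y3 (fun σ p q => comm_closure ψ (by rintro _ ⟨i, rfl⟩; exact q1 i (by simp)) (hg' σ p q))
      (fun σ p q => comm_closure ψ (by rintro _ ⟨i, rfl⟩; simpa using q2 i (by simp)) (hg' σ p q))
      (fun m hm => by simpa using q3 m hm) q4 q5 (by simpa using q6) q7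
      (fun m hm e he => by simpa using q8 (m, e) (Finset.mem_product.2 ⟨hm, he⟩)) q9
      fun φ hφ => by
        rw [q10, lift_lift (φ := φ) (k := kk), hw']
        intro p
        by_cases h : p.1 = p.2.1
        · simp [kk, W, h, tv]
        · simp [kk, W, h, hφ]
    refine ⟨φ, fun i => ?_⟩
    fin_cases i
    · simpa [s, f1, W₀] using hψ 0
    · simpa [s, f1, W₀] using hψ 1
    · simpa [s, f2] using y2
    · simpa [s] using f3

theorem span_one [Finite F] {ω : Fˣ} (hω : ∀ u : Fˣ, u ∈ zpowers ω) (Q : F → Prop) (h0 : Q 0)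
    (_ : ∀ a b, Q a → Q b → Q (a + b)) (h2 : ∀ a, Q a → Q (ω * a)) (c : Fˣ)
    (h3 : ∀ e ∈ ({1} : Finset F), Q (c * e)) (t : F) : Q t := by
  by_cases ht : t = 0
  · exact ht ▸ h0
  obtain ⟨k, hk⟩ := exists_pow hω (mul_ne_zero ht (inv_ne_zero c.ne_zero))
  rw [show t = (ω : F) ^ k * c by rw [hk]; simp]
  clear hk
  induction k with
  | zero => simpa using h3 1 (by simp)
  | succ k ih => rw [pow_succ', mul_assoc]; exact h2 _ ih

theorem span_cube [Fintype F] {ω : Fˣ} (hω : ∀ u : Fˣ, u ∈ zpowers ω) (h4 : Fintype.card F ≠ 4)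
    (Q : F → Prop) (h0 : Q 0)
    (h1 : ∀ a b, Q a → Q b → Q (a + b)) (h2 : ∀ a, Q a → Q ((ω ^ 3 : Fˣ) * a)) (c : Fˣ)
    (h3 : ∀ e ∈ ({1} : Finset F), Q (c * e)) (t : F) : Q t := by
  classical
  have k1 : 1 < Fintype.card F := Fintype.one_lt_card
  have ns : ∀ (m : ℕ) a, Q a → Q (m * a) := fun m a p => by
    induction m with
    | zero => simpa using h0
    | succ m ih => rw [Nat.cast_succ, add_mul, one_mul]; exact h1 _ _ ih p
  let S : Submonoid F := ⟨⟨{e | ∀ a, Q a → Q (e * a)}, fun {x y} p q a r => by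
    rw [mul_assoc]; exact p _ (q _ r)⟩, fun a p => by simpa using p⟩
  let K : Subfield F := { S with
    add_mem' := fun {x y} p q a r => by rw [add_mul]; exact h1 _ _ (p a r) (q a r)
    zero_mem' := fun a _ => by simpa using h0
    neg_mem' := fun {x} p a r => by
      have := ns (ringChar F - 1) _ (p a r)
      rwa [Nat.cast_pred (Nat.pos_of_ne_zero (CharP.ringChar_ne_zero_of_finite F)),
        ringChar.Nat.cast_ringChar, zero_sub, neg_one_mul, ← neg_mul] at this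
    inv_mem' := fun x hx => by
      by_cases h : x = 0
      · rw [h, inv_zero]; exact fun a _ => by simpa using h0
      have : x⁻¹ = x ^ (Fintype.card F - 2) := by
        have := FiniteField.pow_card_sub_one_eq_one x h
        rw [show Fintype.card F - 1 = Fintype.card F - 2 + 1 by omega, pow_succ] at this
        exact (eq_inv_of_mul_eq_one_left this).symm
      rw [this]; exact S.pow_mem hx _ }
  suffices h : Fintype.card F ≤ Fintype.card K by
    have : Function.Surjective K.subtype :=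
      ((Fintype.bijective_iff_injective_and_card _).2 ⟨Subtype.val_injective,
        le_antisymm (Fintype.card_le_of_injective _ Subtype.val_injective) h⟩).2
    obtain ⟨⟨x, hx⟩, e⟩ := this (t * (c : F)⁻¹)
    have := hx _ (h3 1 (by simp))
    rwa [show x = t * (c : F)⁻¹ from e, mul_one, inv_mul_cancel_right₀ c.ne_zero] at this
  have k2 : 1 < Fintype.card K := Fintype.one_lt_card
  have := congrArg K.subtype (FiniteField.pow_card_sub_one_eq_one (⟨(ω ^ 3 : Fˣ), h2⟩ : K)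
    fun e => (ω ^ 3).ne_zero (congrArg Subtype.val e))
  simp only [map_pow, map_one, Subfield.coe_subtype, Units.val_pow_eq_pow_val, ← pow_mul] at this
  have d := card_dvd_of_pow hω this
  have d' := Nat.le_of_dvd (by omega) d
  have c := Module.card_eq_pow_finrank (K := K) (V := F)
  generalize Module.finrank K F = e at c
  generalize Fintype.card K = k at *
  match e with
  | 0 => rw [pow_zero] at c; omega
  | 1 => rw [pow_one] at c; omega
  | e + 2 =>
    have : k ^ 2 ≤ k ^ (e + 2) := Nat.pow_le_pow_right (by omega) (by omega)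
    have k3 : k ≤ 2 := by
      have : k ^ 2 + 2 ≤ 3 * k := by omega
      nlinarith
    obtain rfl : k = 2 := by omega
    omega

theorem span_four [Fintype F] [DecidableEq F] {ω : Fˣ} (hω : ∀ u : Fˣ, u ∈ zpowers ω)
    (h4 : Fintype.card F = 4) (Q : F → Prop) (h0 : Q 0)
    (h1 : ∀ a b, Q a → Q b → Q (a + b)) (_ : ∀ a, Q a → Q ((ω ^ 3 : Fˣ) * a)) (c : Fˣ)
    (h3 : ∀ e ∈ ({1, (ω : F)} : Finset F), Q (c * e)) (t : F) : Q t := by
  have a := h3 1 (by simp)
  have b := h3 ω (by simp)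
  have w3 := FiniteField.pow_card_sub_one_eq_one _ ω.ne_zero
  have w1 : (ω : F) ≠ 1 := fun e => by
    have := Nat.le_of_dvd one_pos (card_dvd_of_pow hω (n := 1) (by simpa using e)); omega
  have t2 : (2 : F) = 0 := by
    have := FiniteField.cast_card_eq_zero F
    rw [h4] at this
    exact pow_eq_zero_iff two_ne_zero |>.1 (by rw [← this]; norm_num)
  rw [h4] at w3
  have w2 : (ω : F) ^ 2 = 1 + ω := by
    have : ((ω : F) - 1) * ((ω : F) ^ 2 - (1 + ω)) = 0 := by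
      linear_combination w3 + (1 - (ω : F) ^ 2) * t2
    exact sub_eq_zero.1 ((mul_eq_zero.1 this).resolve_left (sub_ne_zero.2 w1))
  by_cases ht : t = 0
  · exact ht ▸ h0
  obtain ⟨k, hk⟩ := exists_pow hω (mul_ne_zero ht (inv_ne_zero c.ne_zero))
  rw [show t = c * (ω : F) ^ k by rw [hk]; field_simp, pow_eq_pow_mod k w3]
  have : k % 3 = 0 ∨ k % 3 = 1 ∨ k % 3 = 2 := by omega
  rcases this with e | e | e <;> rw [show 4 - 1 = 3 from rfl, e]
  · simpa using a
  · simpa using b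
  · rw [w2, mul_add]; exact h1 _ _ a b

/-- signed permutation matrices -/
def pmS (F : Type u) [Field F] : Perm (Fin 3) →* SL(3, F) :=
  MonoidHom.mk' (fun σ => ⟨((Perm.sign σ : ℤ) : F) • Matrix.permMatrixHom σ, by
    rcases Int.units_eq_one_or (Perm.sign σ) with h | h <;> simp [h, Matrix.det_neg]; norm_num⟩) fun a b =>
    Subtype.ext <| by
      show _ = (_ • _ : Matrix _ _ F) * (_ • _)
      simp [smul_smul, mul_comm]

/-- even permutation matrices -/
def pmA (F : Type u) [Field F] (n : ℕ) : alternatingGroup (Fin n) →* SL(n, F) :=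
  MonoidHom.mk' (fun σ => ⟨Matrix.permMatrixHom σ.1, by
    simp [Perm.mem_alternatingGroup.1 σ.2]⟩) fun a b =>
    Subtype.ext (map_mul Matrix.permMatrixHom a.1 b.1)

theorem presS3 : Pres (H10.adj (n := 2)) 3 := by
  refine ⟨H10.closure_adj 2, ((Rl.eq (of 0 * of 0) 1 (by simp)).and
    ((Rl.eq (of 1 * of 1) 1 (by simp)).and (Rl.eq (of 0 * of 1 * of 0) (of 1 * of 0 * of 1)
      (by simp only [map_mul, lift_apply_of]; decide)))).mono (by omega) ?_⟩
  rintro H _ x ⟨a, b, c⟩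
  refine H10.exists_hom_perm x (fun i => ?_) (fun i j h => by omega) fun i j h => ?_
  · fin_cases i
    · simpa using a
    · simpa using b
  · obtain rfl : i = 0 := by omega
    obtain rfl : j = 1 := by omega
    simpa using c

theorem pres_sl3 [Fintype F] : ∃ s : Fin 4 → SL(3, F), Pres s 14 := by
  classical
  obtain ⟨ω, hω⟩ := IsCyclic.exists_generator (α := Fˣ)
  have key := fun (E : Finset F) hE => pres_sl (n := 3) (E := E) le_rfl hω (Or.inl rfl) hE
    (MonoidHom.id _) (pmS F) (fun σ => pa_of rfl) (a := 0) (b := 1) (c := 2) (by decide) (by decide)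
    (by decide) (L3 := {2}) (L4 := ∅) (by decide) (by simp) (by decide)
    (fun i j k p q r => by
      obtain ⟨σ, h⟩ : ∃ σ : Perm (Fin 3), σ 0 = i ∧ σ 1 = j ∧ σ 2 = k := by revert i j k; decide
      exact ⟨σ, h.1, Or.inl h.2⟩)
    (by decide) (z := H10.adj (n := 2) 0) (fun N hN h => by
      rw [eq_top_iff, ← H10.closure_adj 2, closure_le]
      rintro _ ⟨i, rfl⟩
      fin_cases i
      · exact h
      · exact (show swap 0 2 * H10.adj (n := 2) 0 * (swap 0 2)⁻¹ = H10.adj (n := 2) 1 by decide) ▸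
          hN.conj_mem _ h (swap 0 2)) presS3 (m := 0) Fin.elim0 (by simp)
    fun σ p q => by
      have : σ = 1 := by revert σ; decide
      rw [this]; exact one_mem _
  by_cases h4 : Fintype.card F = 4
  · obtain ⟨s, hs⟩ := key _ (span_four hω h4)
    have : ringChar F = 2 := by
      by_contra e; have := FiniteField.odd_card_of_char_ne_two e; omega
    have c : ({1, (ω : F)} : Finset F).card ≤ 2 := Finset.card_le_two
    exact ⟨s, hs.mono (by simp only [this, if_true, Finset.card_singleton, Finset.card_empty]; omega)⟩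
  · obtain ⟨s, hs⟩ := key _ (span_cube hω h4)
    exact ⟨s, hs.mono (by simp only [Finset.card_singleton, Finset.card_empty]; split_ifs <;> omega)⟩

theorem ex_even {κ : Type} [Finite κ] {f g : κ → Fin n} (hf : f.Injective) (hg : g.Injective)
    {u v : Fin n} (h : u ≠ v) : ∃ σ : alternatingGroup (Fin n),
      (∀ i, σ.1 (f i) = g i) ∨ ∀ i, σ.1 (swap u v (f i)) = g i := by
  obtain ⟨σ, hσ⟩ := Perm.exists_extending_pair f g hf hg
  rcases alt_or (g := swap u v) (by simp [Perm.mem_alternatingGroup, h]) σ with e | e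
  · exact ⟨⟨σ, e⟩, Or.inl hσ⟩
  · exact ⟨⟨_, e⟩, Or.inr fun i => by simp [hσ]⟩

theorem ex3 {a b c i j k u v : Fin n} (h : a ≠ b ∧ b ≠ c ∧ a ≠ c) (p : i ≠ j) (q : j ≠ k) (r : i ≠ k)
    (uv : u ≠ v) : ∃ σ : alternatingGroup (Fin n), (σ.1 a = i ∧ σ.1 b = j ∧ σ.1 c = k) ∨
      (σ.1 (swap u v a) = i ∧ σ.1 (swap u v b) = j ∧ σ.1 (swap u v c) = k) := by
  obtain ⟨σ, e | e⟩ := ex_even (f := ![a, b, c]) (g := ![i, j, k])
    (List.nodup_ofFn.1 (by simp [h])) (List.nodup_ofFn.1 (by simp [p, q, r])) uv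
  exacts [⟨σ, Or.inl ⟨e 0, e 1, e 2⟩⟩, ⟨σ, Or.inr ⟨e 0, e 1, e 2⟩⟩]

theorem ex4 {a b c d i j k m u v : Fin n} (h : a ≠ b ∧ b ≠ c ∧ a ≠ c ∧ a ≠ d ∧ b ≠ d ∧ c ≠ d)
    (p : i ≠ j ∧ k ≠ m ∧ i ≠ k ∧ i ≠ m ∧ j ≠ k ∧ j ≠ m) (uv : u ≠ v) :
    ∃ σ : alternatingGroup (Fin n), (σ.1 a = i ∧ σ.1 b = j ∧ σ.1 c = k ∧ σ.1 d = m) ∨
      (σ.1 (swap u v a) = i ∧ σ.1 (swap u v b) = j ∧ σ.1 (swap u v c) = k ∧ σ.1 (swap u v d) = m) := by
  obtain ⟨σ, e | e⟩ := ex_even (f := ![a, b, c, d]) (g := ![i, j, k, m])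
    (List.nodup_ofFn.1 (by simp [h])) (List.nodup_ofFn.1 (by simp [p])) uv
  exacts [⟨σ, Or.inl ⟨e 0, e 1, e 2, e 3⟩⟩, ⟨σ, Or.inr ⟨e 0, e 1, e 2, e 3⟩⟩]

theorem stab_gen {a b : Fin n} {m : ℕ} (s : Fin m → alternatingGroup {i // i ≠ a ∧ i ≠ b})
    (hs : closure (Set.range s) = ⊤) : ∃ g : Fin m → alternatingGroup (Fin n),
      (∀ i, (g i).1 a = a ∧ (g i).1 b = b) ∧
        ∀ σ : alternatingGroup (Fin n), σ.1 a = a → σ.1 b = b → σ ∈ closure (Set.range g) := by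
  let ι := Function.Embedding.subtype fun i => i ≠ a ∧ i ≠ b
  refine ⟨fun i => jA ι (s i), fun i => ⟨Perm.viaEmbedding_apply_of_notMem _ _ _ (by simp [ι]),
    Perm.viaEmbedding_apply_of_notMem _ _ _ (by simp [ι])⟩, fun σ p q => ?_⟩
  let σ' := σ.1.subtypePerm (p := fun i => i ≠ a ∧ i ≠ b) fun x => by
    nth_rewrite 1 [← p, ← q]; simp
  have e : Perm.viaEmbeddingHom ι σ' = σ.1 := by
    ext1 x
    by_cases hx : x ≠ a ∧ x ≠ b
    · exact Perm.viaEmbedding_apply σ' ι ⟨x, hx⟩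
    · rw [Perm.viaEmbeddingHom_apply, Perm.viaEmbedding_apply_of_notMem _ _ _ (by simpa [ι] using hx)]
      rcases not_and_or.1 hx with h | h <;> rw [not_not.1 h]
      exacts [p.symm, q.symm]
  have : σ' ∈ alternatingGroup _ := by
    have := Perm.mem_alternatingGroup.1 σ.2
    rw [← e] at this
    simpa [Perm.mem_alternatingGroup, Perm.viaEmbeddingHom_apply, Perm.viaEmbedding] using this
  have k : (closure (Set.range s)).map (jA ι) ≤ closure (Set.range fun i => jA ι (s i)) := by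
    rw [MonoidHom.map_closure, ← Set.range_comp]; exact le_rfl
  exact k ⟨⟨σ', this⟩, hs ▸ mem_top _, Subtype.ext e⟩

theorem card_stab {a b : Fin n} (h : a ≠ b) : Fintype.card {i // i ≠ a ∧ i ≠ b} = n - 2 := by
  rw [Fintype.card_of_subtype (Finset.univ \ {a, b}) (by simp), Finset.card_univ_diff,
    Finset.card_pair h, Fintype.card_fin]

theorem norm_c3 {a b c : Fin n} (h : a ≠ b ∧ b ≠ c ∧ a ≠ c) (N : Subgroup (alternatingGroup (Fin n)))
    (hN : N.Normal) (hc : c3 a b c ∈ N) : N = ⊤ := by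
  rw [eq_top_iff, ← c3_gen h.1, closure_le]
  rintro _ ⟨i, rfl⟩
  by_cases p : i = a
  · rw [p, c3_alpha]; exact one_mem N
  by_cases q : i = b
  · rw [q, c3_beta]; exact one_mem N
  obtain ⟨σ, ⟨e1, e2, e3⟩ | ⟨e1, e2, e3⟩⟩ := ex3 h h.1 (Ne.symm q) (Ne.symm p) h.1.symm
  · have : σ * c3 a b c * σ⁻¹ = c3 a b i := Subtype.ext (e3 ▸ c3_conj h.1 e1 e2 c)
    exact this ▸ hN.conj_mem _ hc σ
  · rw [swap_apply_right] at e1
    rw [swap_apply_left] at e2
    rw [swap_apply_of_ne_of_ne h.2.1.symm h.2.2.symm] at e3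
    have := c3_conj h.1 (σ := swap b a * σ.1) (by simp [e2]) (by simp [e1]) c
    rw [Perm.mul_apply, e3, swap_apply_of_ne_of_ne q p] at this
    have k := c3_swap h.1 i
    have : σ * c3 a b c * σ⁻¹ = (c3 a b i)⁻¹ := Subtype.ext <| by
      rw [Subgroup.coe_inv, ← k, ← this]; simp [mul_assoc]
    exact N.inv_mem_iff.1 (this ▸ hN.conj_mem _ hc σ)

theorem pres_sln [Finite F] {a b c d : Fin n} (h : a ≠ b ∧ b ≠ c ∧ a ≠ c ∧ a ≠ d ∧ b ≠ d ∧ c ≠ d)
    (hn : 4 ≤ n) {L3 : Finset (Fin n)} {L4 : Finset (Fin n × Fin n)} {u v u' v' : Fin n}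
    (uv : u ≠ v) (uv' : u' ≠ v') (hL3 : ∀ m ∈ L3, b ≠ m ∧ a ≠ m)
    (hL4 : ∀ p ∈ L4, p.1 ≠ p.2 ∧ a ≠ p.1 ∧ a ≠ p.2 ∧ b ≠ p.1 ∧ b ≠ p.2)
    (h3 : c ∈ L3 ∧ swap u v a = a ∧ swap u v b = b ∧ swap u v c ∈ L3)
    (h4 : (c, d) ∈ L4 ∧ swap u' v' a = a ∧ swap u' v' b = b ∧ (swap u' v' c, swap u' v' d) ∈ L4)
    {k : Fin 2 → alternatingGroup (Fin n)} {r : ℕ} (hk : Pres k r) {m : ℕ}
    (s : Fin m → alternatingGroup {i // i ≠ a ∧ i ≠ b}) (hs : closure (Set.range s) = ⊤) :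
    ∃ s : Fin 4 → SL(n, F), Pres s (r + 2 * m + 2 * L3.card + 2 * L4.card + 8) := by
  obtain ⟨ω, hω⟩ := IsCyclic.exists_generator (α := Fˣ)
  obtain ⟨g, g1, g2⟩ := stab_gen s hs
  have h' : a ≠ b ∧ b ≠ c ∧ a ≠ c := ⟨h.1, h.2.1, h.2.2.1⟩
  obtain ⟨t, ht⟩ := pres_sl (E := {1}) (by omega) hω (Or.inr ⟨rfl, hn⟩) (span_one hω)
    (alternatingGroup _).subtype (pmA F n) (fun σ => pa_of (c := 1) (one_smul _ _).symm) h.1 h.2.1
    h.2.2.1 hL3 hL4 (fun i j k p q r => by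
      obtain ⟨σ, e | e⟩ := ex3 h' p q r uv
      · exact ⟨σ, c, h3.1, e⟩
      · rw [h3.2.1, h3.2.2.1] at e; exact ⟨σ, _, h3.2.2.2, e⟩)
    (fun i j k p q r => by
      obtain ⟨σ, e | e⟩ := ex3 h' p q r h.2.1
      · exact ⟨σ, e.1, Or.inl e.2⟩
      · rw [swap_apply_left, swap_apply_right, swap_apply_of_ne_of_ne h.1 h.2.2.1] at e
        exact ⟨σ, e.1, Or.inr ⟨by simp, e.2.2, e.2.1⟩⟩)
    (fun i j k m p q r s t w => by
      obtain ⟨σ, e | e⟩ := ex4 h ⟨p, q, r, s, t, w⟩ uv'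
      · exact ⟨σ, _, h4.1, e⟩
      · rw [h4.2.1, h4.2.2.1] at e; exact ⟨σ, _, h4.2.2.2, e⟩)
    (z := c3 a b c) (norm_c3 h')
    hk g g1 g2
  exact ⟨t, ht.mono (by simp only [Finset.card_singleton]; split_ifs <;> omega)⟩

theorem pres_sl4 [Finite F] : ∃ s : Fin 4 → SL(4, F), Pres s 19 := by
  haveI : Subsingleton (alternatingGroup {i : Fin 4 // i ≠ 0 ∧ i ≠ 1}) := by
    haveI : Nontrivial {i : Fin 4 // i ≠ 0 ∧ i ≠ 1} := Fintype.one_lt_card_iff_nontrivial.1 (by decide)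
    rw [← Fintype.card_le_one_iff_subsingleton, card_alternatingGroup, card_stab (by decide)]; decide
  exact pres_sln (a := 0) (b := 1) (c := 2) (d := 3) (by decide) le_rfl (L3 := {2, 3})
    (L4 := {(2, 3), (3, 2)}) (u := 2) (v := 3) (u' := 2) (v' := 3) (by decide) (by decide) (by decide)
    (by decide) (by decide) (by decide) presA4' (m := 0) Fin.elim0 (Subsingleton.elim _ _)

theorem pres_sl5 [Finite F] : ∃ s : Fin 4 → SL(5, F), Pres s 20 := by
  haveI : IsCyclic (alternatingGroup {i : Fin 5 // i ≠ 0 ∧ i ≠ 1}) := by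
    haveI : Nontrivial {i : Fin 5 // i ≠ 0 ∧ i ≠ 1} := Fintype.one_lt_card_iff_nontrivial.1 (by decide)
    refine isCyclic_of_prime_card (p := 3) ?_
    rw [Nat.card_eq_fintype_card, card_alternatingGroup, card_stab (by decide)]; decide
  obtain ⟨g, hg⟩ := IsCyclic.exists_generator (α := alternatingGroup {i : Fin 5 // i ≠ 0 ∧ i ≠ 1})
  obtain ⟨a, -, h, -⟩ := presAp (Ω := Fin 5) (p := 3) (α := 0) (β := 1) (o := 2) (γ := 3) Nat.prime_three
    le_rfl (by simp) (by decide) (by decide) (by decide) (by decide)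
  exact pres_sln (a := 0) (b := 1) (c := 2) (d := 3) (by decide) (by omega) (L3 := {2})
    (L4 := {(2, 3), (3, 2)}) (u := 3) (v := 4) (u' := 2) (v' := 3) (by decide) (by decide) (by decide)
    (by decide) (by decide) (by decide) h (m := 1) (fun _ => g) (by
      rw [Set.range_const, ← zpowers_eq_closure]; exact (eq_top_iff' _).2 hg)

theorem pres_sl' [Finite F] (hn : 4 ≤ n) : ∃ s : Fin 4 → SL(n, F), Pres s 22 := by
  by_cases h : 6 ≤ n
  · obtain ⟨m, rfl⟩ : ∃ m, n = m + 6 := ⟨n - 6, by omega⟩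
    obtain ⟨k, hk⟩ := presA' (m + 6)
    obtain ⟨s, hs⟩ := presA' (Fintype.card {i : Fin (m + 6) // i ≠ 0 ∧ i ≠ 1})
    exact pres_sln (a := 0) (b := 1) (c := ⟨2, by omega⟩) (d := ⟨3, by omega⟩) (by simp [Fin.ext_iff]) hn
      (L3 := {⟨2, by omega⟩}) (L4 := {(⟨2, by omega⟩, ⟨3, by omega⟩)}) (u := ⟨4, by omega⟩)
      (v := ⟨5, by omega⟩) (u' := ⟨4, by omega⟩) (v' := ⟨5, by omega⟩) (by simp) (by simp)
      (by simp [Fin.ext_iff]; omega) (by simp [Fin.ext_iff]) (by simp [Fin.ext_iff, swap_apply_def])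
      (by simp [Fin.ext_iff, swap_apply_def]) hk _ (hs.equiv (Fintype.equivFin _).symm.altCongrHom).1
  have : n = 4 ∨ n = 5 := by omega
  rcases this with rfl | rfl
  · exact let ⟨s, hs⟩ := pres_sl4 (F := F); ⟨s, hs.mono (by omega)⟩
  · exact let ⟨s, hs⟩ := pres_sl5 (F := F); ⟨s, hs.mono (by omega)⟩

end Cfsg.Agent.H7.Pr
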