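import Mathlib
import Cfsg.Agent.H7.Pr8
import Cfsg.Agent.H17.MulT

/-! Presentations and root group data: the general layer. -/

set_option autoImplicit false

namespace Cfsg.Agent.H7.Pr
open Subgroup Equiv Polynomial H12
open FreeGroup (lift of lift_apply_of)

universe u v

section Pres
variable {G : Type u} [Group G] {ι : Type} {s : ι → G} {r : ℕ}

theorem Pres.of_inj (hs : closure (Set.range s) = ⊤) (h : Rl s r fun E _ x => ∀ f : E →* G,
    (∀ i, f (x i) = s i) → closure (Set.range x) = ⊤ → Function.Injective f) : Pres s r := by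
  obtain ⟨R, a, b, c⟩ := h
  refine ⟨hs, R, a, b, fun H _ x hx => ?_⟩
  let ψ := PresentedGroup.toGroup (f := s) (rels := (↑R : Set (FreeGroup ι))) b
  have p : ∀ i, ψ (PresentedGroup.of i) = s i := fun i => PresentedGroup.toGroup.of b
  have i1 := c (PresentedGroup (↑R : Set (FreeGroup ι))) PresentedGroup.of (fun ρ hρ => by
    have : lift (PresentedGroup.of : ι → PresentedGroup (↑R : Set (FreeGroup ι))) =
        PresentedGroup.mk _ := FreeGroup.ext_hom _ _ fun c => by simp; rfl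
    rw [this]; exact PresentedGroup.one_of_mem hρ) ψ p (PresentedGroup.closure_range_of _)
  have i2 : Function.Surjective ψ := by
    rw [← MonoidHom.range_eq_top, eq_top_iff, ← hs, closure_le]
    rintro _ ⟨i, rfl⟩
    exact ⟨_, p i⟩
  let e := MulEquiv.ofBijective ψ ⟨i1, i2⟩
  refine ⟨(PresentedGroup.toGroup (f := x) (rels := (↑R : Set (FreeGroup ι))) hx).comp
    e.symm.toMonoidHom, fun i => ?_⟩
  have : e.symm (s i) = PresentedGroup.of i := e.symm_apply_eq.2 (p i).symm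
  simp [this]

theorem Rl.mem (a : FreeGroup ι) (S : Set (FreeGroup ι)) (h : lift s a ∈ closure (lift s '' S)) :
    Rl s 1 fun _ _ x => lift x a ∈ closure (lift x '' S) := by
  rw [← MonoidHom.map_closure] at h
  obtain ⟨b, hb, e⟩ := h
  refine (Rl.eq a b e.symm).mono le_rfl fun H _ x h => ?_
  rw [h, ← MonoidHom.map_closure]
  exact ⟨b, hb, rfl⟩

theorem Rl.cond {p : Prop} [Decidable p] {P : p → ∀ (H : Type) [Group H], (ι → H) → Prop}
    (h : ∀ hp, Rl s r (P hp)) : Rl s (if p then r else 0) fun H _ x => ∀ hp, P hp H x := by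
  split_ifs with hp
  · exact (h hp).mono le_rfl fun _ _ _ h _ => h
  · exact Rl.triv.mono le_rfl fun _ _ _ _ h => absurd h hp

end Pres

section Spread
variable {E : Type*} [Group E] {F : Type*} [Field F]

theorem cm_mul_left {A : Subgroup E} {a b c : E} (ha : a ∈ normalizer (A : Set E))
    (h1 : a * c * a⁻¹ * c⁻¹ ∈ A) (h2 : b * c * b⁻¹ * c⁻¹ ∈ A) : a * b * c * (a * b)⁻¹ * c⁻¹ ∈ A := by
  have := mul_mem ((mem_normalizer_iff.1 ha _).1 h2) h1
  convert this using 1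
  group

theorem cm_symm {A : Subgroup E} {a b : E} (h : a * b * a⁻¹ * b⁻¹ ∈ A) : b * a * b⁻¹ * a⁻¹ ∈ A := by
  simpa [mul_assoc] using inv_mem h

theorem cm_conj {A A' : Subgroup E} {a b g : E} (hg : ∀ x ∈ A, g * x * g⁻¹ ∈ A')
    (h : a * b * a⁻¹ * b⁻¹ ∈ A) :
    g * a * g⁻¹ * (g * b * g⁻¹) * (g * a * g⁻¹)⁻¹ * (g * b * g⁻¹)⁻¹ ∈ A' := by
  convert hg _ h using 1
  group

/-- a commutator relation spreads under the torus -/
theorem spread [Finite F] {ω : Fˣ} (hω : ∀ u : Fˣ, u ∈ zpowers ω) {x y : F → E} (hx : IsAdd x)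
    (hy : IsAdd y) {A : Subgroup E} (nx : ∀ s, x s ∈ normalizer (A : Set E))
    (ny : ∀ s, y s ∈ normalizer (A : Set E)) {g g' : E} (hg : ∀ a ∈ A, g * a * g⁻¹ ∈ A)
    (hg' : ∀ a ∈ A, g' * a * g'⁻¹ ∈ A) (h1 : ∀ s, g * x s * g⁻¹ = x ((ω : F) ^ 2 * s))
    (h2 : ∀ t, g * y t * g⁻¹ = y t) {c : F} (hc : c ≠ 0) (h3 : ∀ s, g' * x s * g'⁻¹ = x (c * s))
    (h4 : ∀ t, g' * y t * g'⁻¹ = y ((ω : F) ^ 2 * t)) {s₀ t₀ : F} (hs : s₀ ≠ 0) (ht : t₀ ≠ 0)
    (h : x s₀ * y t₀ * (x s₀)⁻¹ * (y t₀)⁻¹ ∈ A) (s t : F) :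
    x s * y t * (x s)⁻¹ * (y t)⁻¹ ∈ A := by
  refine H17.all_of_sq_stable hω (P := fun t => ∀ s, x s * y t * (x s)⁻¹ * (y t)⁻¹ ∈ A)
    (fun s => by simp [hy.zero]) (fun a b p q s => ?_) (fun a p s => ?_) ht (fun s => ?_) t s
  · rw [hy]; exact cm_symm (cm_mul_left (ny a) (cm_symm (p s)) (cm_symm (q s)))
  · have := cm_conj hg' (p (c⁻¹ * s))
    rwa [h3, h4, mul_inv_cancel_left₀ hc] at this
  · refine H17.all_of_sq_stable hω (P := fun s => x s * y t₀ * (x s)⁻¹ * (y t₀)⁻¹ ∈ A)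
      (by simp [hx.zero]) (fun a b p q => ?_) (fun a p => ?_) hs h s
    · rw [hx]; exact cm_mul_left (nx a) p q
    · have := cm_conj hg p
      rwa [h1, h2] at this

/-- the range of an additive map -/
def IsAdd.rg {x : F → E} (h : IsAdd x) : Subgroup E where
  carrier := Set.range x
  one_mem' := ⟨0, h.zero⟩
  mul_mem' := by rintro _ _ ⟨a, rfl⟩ ⟨b, rfl⟩; exact ⟨a + b, h a b⟩
  inv_mem' := by rintro _ ⟨a, rfl⟩; exact ⟨-a, h.neg a⟩

theorem IsAdd.closure_eq {x : F → E} (h : IsAdd x) {g : E} :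
    g ∈ closure (Set.range x) ↔ ∃ t, x t = g := by
  rw [show Set.range x = h.rg from rfl, Subgroup.closure_eq]; rfl

theorem norm_of_cm {A : Subgroup E} {x : F → E} (h : IsAdd x) {S : Set E} (hA : A = closure S)
    (hS : ∀ s, ∀ a ∈ S, x s * a * (x s)⁻¹ * a⁻¹ ∈ A) (s : F) : x s ∈ normalizer (A : Set E) := by
  have key : ∀ s, ∀ a ∈ A, x s * a * (x s)⁻¹ ∈ A := fun s a ha => by
    have : A ≤ A.comap (MulAut.conj (x s)).toMonoidHom := by
      conv_lhs => rw [hA]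
      refine (closure_le _).2 fun a ha => ?_
      have := mul_mem (hS s a ha) (hA ▸ subset_closure ha)
      simpa using this
    exact this ha
  refine mem_normalizer_of_conj (key s) fun a ha => ?_
  simpa [h.neg] using key (-s) a ha

end Spread

section Rgd
variable {Φ I k : Type*} [DecidableEq I] [CommRing k] [LinearOrder k] {R : RS Φ I k}
  {G : Type*} [Group G] {X : RGD R G} [IsStrictOrderedRing k] [Fintype I] [Finite Φ]
  {E : Type*} [Group E] {f : E →* G}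
open RGD

theorem rgd_inj (Z : RGD R E) (hU : ∀ r, Z.U r ≤ (X.U r).comap f) (hT : Z.T ≤ X.T.comap f)
    (hm : ∀ i, X.Rep (f (Z.m i)) (R.s i)) (inj : ∀ t ∈ Z.T, f t = 1 → t = 1) (top : Z.grp = ⊤) :
    Function.Injective f := by
  have hB : Z.B ≤ X.B.comap f :=
    sup_le (US_le.2 fun r hr a ha => U_le_B hr (hU r ha)) fun a ha => T_le_B (hT ha)
  have key : ∀ g, f g = 1 → g ∈ Z.B := fun g h => by
    obtain ⟨w, b, hb, n, ⟨a, t, ht, rfl, rfl⟩, b', hb', rfl⟩ := mem_grp_iff.1 (top ▸ mem_top g)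
    have h0 : X.Rep (f (Z.mw a)) (wprod R.s a) := by
      clear h
      induction a with
      | nil => simpa using rep_one
      | cons i a ih => rw [mw_cons, map_mul, wprod_cons]; exact (hm i).mul ih
    have h1 : X.Rep (f (t * Z.mw a)) (wprod R.s a) := by rw [map_mul]; exact h0.T_mul (hT ht)
    have h2 := eq_of_mem_cell (X := X) ⟨f b, hB hb, _, h1, f b', hB hb', by
      rw [← map_mul, ← map_mul, h]⟩ (mem_cell_one.2 (one_mem _))
    exact mem_cell_one.1 ⟨b, hb, _, ⟨a, t, ht, rfl, h2⟩, b', hb', rfl⟩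
  exact (injective_iff_map_eq_one _).2 fun g hg =>
    inj g (mem_T_of_conj_mem_B fun n _ => key _ (by simp [hg])) hg

theorem rgd_not_mem {V : Φ → Subgroup E} {T : Subgroup E} (hU : ∀ r, V r ≤ (X.U r).comap f)
    (hT : T ≤ X.T.comap f) {m : E} {i : I} (hm : X.Rep (f m) (R.s i)) :
    m ∉ (⨆ r ∈ {r | R.Pos r}, V r) ⊔ T := fun h => by
  have : (⨆ r ∈ {r | R.Pos r}, V r) ⊔ T ≤ X.B.comap f :=
    sup_le (iSup₂_le fun r hr a ha => U_le_B hr (hU r ha)) fun a ha => T_le_B (hT ha)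
  exact R.exch.s_ne_one i (hm.eq_one_of_mem_B (this h))

end Rgd

end Cfsg.Agent.H7.Pr
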