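import Mathlib
import Cfsg.Agent.H7.Pr9

/-! Presentations of symplectic groups: the model. -/

set_option autoImplicit false
set_option linter.unusedSectionVars false

namespace Cfsg.Agent.H7.Pr
open Subgroup Equiv Polynomial H10 H11 H12 H17 H17.CT H17.Frame H19.St
open scoped MatrixGroups

universe u v

section Words
variable {n : ℕ} {F : Type u} [Field F] {K : Type v} [Group K]

/-- index of a label -/
def jx : Fin n ⊕ Fin n → Fin n := Sum.elim id id

@[simp] theorem jx_inl (i : Fin n) : jx (.inl i) = i := rfl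
@[simp] theorem jx_inr (i : Fin n) : jx (.inr i) = i := rfl
theorem jx_swap (a : Fin n ⊕ Fin n) : jx a.swap = jx a := by cases a <;> rfl
theorem jx_map (σ : Perm (Fin n)) (a : Fin n ⊕ Fin n) : jx (a.map σ σ) = σ (jx a) := by
  cases a <;> rfl
theorem idx_eq {C : CT} (a : C.ι) : idx a = (jx a).1 := by cases a <;> rfl
theorem jx_ne {C : CT} {a b : C.ι} : idx a ≠ idx b ↔ jx a ≠ jx b := by
  rw [idx_eq, idx_eq, Fin.val_ne_iff]

/-- a permutation with prescribed images of two points -/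
def tau (i₀ i₁ i j : Fin n) : Perm (Fin n) := swap i₀ i * swap i₁ (swap i₀ i j)

theorem tau_l {i₀ i₁ i j : Fin n} (h : i₀ ≠ i₁) (h' : i ≠ j) : tau i₀ i₁ i j i₀ = i := by
  rw [tau, Perm.mul_apply, swap_apply_of_ne_of_ne h, swap_apply_left]
  rw [Ne, eq_comm, swap_apply_eq_iff, swap_apply_left]; exact h'.symm

theorem tau_r (i₀ i₁ i j : Fin n) : tau i₀ i₁ i j i₁ = j := by simp [tau]

variable (F) in
/-- the side of a label -/
def wS (a : Fin n ⊕ Fin n) : SL(2, F) := Sum.elim (fun _ => 1) (fun _ => ww xx yy (1 : F)) a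

theorem wS_map (σ : Perm (Fin n)) (a : Fin n ⊕ Fin n) : wS F (a.map σ σ) = wS F a := by
  cases a <;> rfl

variable (i₀ i₁ : Fin n) (ψ : Perm (Fin n) → K) (φ : SL(2, F) → K) (x : F → K)

/-- the long root subgroups -/
def PH (i : Fin n) (γ : SL(2, F)) : K := ψ (swap i₀ i) * φ γ * (ψ (swap i₀ i))⁻¹

/-- the conjugating elements -/
def nn (a b : Fin n ⊕ Fin n) : K :=
  ψ (tau i₀ i₁ (jx a) (jx b)) * (PH i₀ ψ φ i₀ (wS F a) * PH i₀ ψ φ i₁ (wS F b))

/-- the root elements -/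
def YY (a b : Fin n ⊕ Fin n) (t : F) : K :=
  if b = a then PH i₀ ψ φ (jx a) (wS F a * xx t * (wS F a)⁻¹)
  else nn i₀ i₁ ψ φ a b * x t * (nn i₀ i₁ ψ φ a b)⁻¹

variable {K' : Type*} [Group K'] (f : K →* K') {ψ φ x} {ψ' : Perm (Fin n) → K'}
  {φ' : SL(2, F) → K'} {x' : F → K'}

theorem map_PH (h1 : ∀ σ, f (ψ σ) = ψ' σ) (h2 : ∀ γ, f (φ γ) = φ' γ) (i : Fin n) (γ : SL(2, F)) :
    f (PH i₀ ψ φ i γ) = PH i₀ ψ' φ' i γ := by simp [PH, h1, h2]

theorem map_YY (h1 : ∀ σ, f (ψ σ) = ψ' σ) (h2 : ∀ γ, f (φ γ) = φ' γ) (h3 : ∀ t, f (x t) = x' t)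
    (a b : Fin n ⊕ Fin n) (t : F) : f (YY i₀ i₁ ψ φ x a b t) = YY i₀ i₁ ψ' φ' x' a b t := by
  unfold YY nn
  split_ifs <;> simp [map_PH i₀ f h1 h2, h1, h3]

theorem map_ww {φ : SL(2, F) →* K} {x y : F → K} (h1 : ∀ t, φ (xx t) = x t) (h2 : ∀ t, φ (yy t) = y t)
    (t : F) : φ (ww xx yy t) = ww x y t := by simp [ww, h1, h2]

theorem ww_xx (t : F) : ww xx yy (1 : F) * xx t * (ww xx yy (1 : F))⁻¹ = yy (-t) := by
  rw [mul_inv_eq_iff_eq_mul, rel_SL.w_x one_ne_zero]; simp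

theorem sl2_ext {M : Type*} [Monoid M] {f g : SL(2, F) →* M} (h1 : ∀ t, f (xx t) = g (xx t))
    (h2 : ∀ t, f (yy t) = g (yy t)) (γ : SL(2, F)) : f γ = g γ :=
  sl_induction (p := fun γ => f γ = g γ) h1 h2 (fun a b p q => by rw [map_mul, map_mul, p, q]) γ

theorem sl2_comm {f : SL(2, F) →* K} {g : K} (h1 : ∀ t, Commute (f (xx t)) g)
    (h2 : ∀ t, Commute (f (yy t)) g) (γ : SL(2, F)) : Commute (f γ) g :=
  sl_induction (p := fun γ => Commute (f γ) g) h1 h2
    (fun a b p q => by rw [map_mul]; exact p.mul_left q) γ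

end Words

variable {F : Type u} [Field F] {V : Type u} [AddCommGroup V] [Module F V]
  {C : CT} {k : Type*} [CommRing k] [LinearOrder k] [IsStrictOrderedRing k]
  {B : V →ₗ[F] V →ₗ[F] F} {Q : V → F}
  (P : Frame (σ := RingHom.id F) C k (-1) 0 0 B Q) [FiniteDimensional F V] {a b c d : C.ι}

theorem lin_ext {W : Type*} [AddCommGroup W] [Module F W] {g g' : V →ₗ[F] W}
    (h : ∀ a, g (P.f a) = g' (P.f a)) : g = g' := by
  ext x
  rw [sub_eq_zero.1 (V0_sp (P.sub_sum_mem x))]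
  simp [h]

theorem om_ext {g g' : P.cl.Om} (h : ∀ a, g.1 (P.f a) = g'.1 (P.f a)) : g = g' :=
  Subtype.ext (P.ext h fun w hw => by rw [V0_sp hw, map_zero, map_zero])

theorem β_inr (i : Fin C.n) : P.β (.inr i) = -1 := by
  have := P.β_swap (.inl i); rwa [P.β_inl, mul_one] at this

theorem β_map (σ : Perm (Fin C.n)) (a : C.ι) : P.β (a.map σ σ) = P.β a := by
  cases a <;> simp [P.β_inl, β_inr]

theorem swap_map (σ : Perm (Fin C.n)) (a : C.ι) : a.swap.map σ σ = (a.map σ σ).swap := by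
  cases a <;> rfl

/-- permutation of the frame -/
noncomputable def pl (σ : Perm (Fin C.n)) : V →ₗ[F] V :=
  ∑ a : C.ι, (P.β a.swap • B (P.f a.swap)).smulRight (P.f (a.map σ σ))

theorem pl_f (σ : Perm (Fin C.n)) (a : C.ι) : pl P σ (P.f a) = P.f (a.map σ σ) := by
  rw [pl, LinearMap.sum_apply, Finset.sum_eq_single a (fun b _ h => by simp [P.B_f, h.symm]) (by simp)]
  simp [P.B_f, P.β_mul]

/-- the permutation matrices -/
noncomputable def JJ : Perm (Fin C.n) →* P.cl.Om := MonoidHom.mk' (fun σ =>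
  ⟨LinearEquiv.ofLinear (pl P σ) (pl P σ⁻¹) (lin_ext P fun a => by cases a <;> simp [pl_f])
    (lin_ext P fun a => by cases a <;> simp [pl_f]), (mem_om_alt P.cl).2 fun x y => by
      have : B.compl₁₂ (pl P σ) (pl P σ) = B := lin_ext P fun a => lin_ext P fun b => by
        simp only [LinearMap.compl₁₂_apply, pl_f, P.B_f, β_map, ← swap_map]
        rw [if_congr (Sum.map_injective.2 ⟨σ.injective, σ.injective⟩).eq_iff rfl rfl]
      exact DFunLike.congr_fun (DFunLike.congr_fun this x) y⟩) fun σ τ =>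
  om_ext P fun a => by cases a <;> simp [pl_f]

theorem JJ_f (σ : Perm (Fin C.n)) (a : C.ι) : (JJ P σ).1 (P.f a) = P.f (a.map σ σ) := pl_f P σ a

theorem mon_JJ (σ : Perm (Fin C.n)) : P.Mon (Equiv.sumCongr σ σ) (JJ P σ).1 :=
  ⟨(JJ P σ).2, fun a => ⟨1, by rw [JJ_f, one_smul]; rfl⟩⟩

theorem rel_Z (a : C.ι) : Rel (P.yo a 0) fun u => P.yo a.swap 0 (-u) :=
  ⟨zo_add a, fun s t => by rw [neg_add, zo_add], fun t ht u => by
    rw [← mul_inv_eq_iff_eq_mul]
    change ww _ (fun u => P.yo a.swap 0 (-u)) t * _ * (ww _ (fun u => P.yo a.swap 0 (-u)) t)⁻¹ = _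
    rw [ww_Z, conj_zo (by rw [P.my_val a (vp_sp t) ht, P.mY_left a (zero_mem _) (vp_sp (P := P) t).2 ht])]
    congr 1
    rw [RingHom.id_apply]
    field_simp
    linear_combination u * P.β_mul a⟩

theorem my_l (a : C.ι) : (P.my a 0 1).1 (P.f a) = P.β a • P.f a.swap := by
  rw [P.my_val a (vp_sp 1) one_ne_zero, P.mY_left a (zero_mem _) (vp_sp (P := P) 1).2 one_ne_zero]
  simp

theorem hz_l' (a : C.ι) {x : F} (h : x ≠ 0) : (P.hz a x).1 (P.f a.swap) = x⁻¹ • P.f a.swap := by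
  rw [hz, hy_l' (vp_sp x) h (vp_sp 1) one_ne_zero]; simp

/-- the root elements of the model -/
noncomputable def ym (a b : C.ι) (t : F) : P.cl.Om := if b = a then P.yo a 0 t else P.xo a b t

theorem ym_self (a : C.ι) : ym P a a = P.yo a 0 := funext fun _ => if_pos rfl

theorem ym_ne (h : idx a ≠ idx b) : ym P a b = P.xo a b := funext fun _ => if_neg (ne_ix h).symm

theorem ym_mem (h : C.Val a b) {g : P.cl.Om} : g ∈ P.rgdO.U (rt k h) ↔ ∃ t, g = ym P a b t := by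
  by_cases e : b = a
  · subst e; rw [ym_self]; exact mem_ry_sp P.isD_sp
  · rw [ym_ne P (ix_of_ne e h.1)]; exact P.mem_rx (ix_of_ne e h.1)

theorem ym_add (h : C.Val a b) : IsAdd (ym P a b) := by
  by_cases e : b = a
  · subst e; rw [ym_self]; exact zo_add b
  · rw [ym_ne P (ix_of_ne e h.1)]; exact P.xo_add (ix_of_ne e h.1)

theorem ym_eq_one (h : C.Val a b) {t : F} (e : ym P a b t = 1) : t = 0 := by
  by_cases e' : b = a
  · subst e'
    rw [ym_self] at e
    exact (P.Y_eq_one (zero_mem _) ((yo_val (vp_sp t) b).symm.trans (congrArg Subtype.val e))).2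
  · rw [ym_ne P (ix_of_ne e' h.1)] at e
    exact P.X_eq_one h.1 e' ((P.xo_val (ix_of_ne e' h.1) t).symm.trans (congrArg Subtype.val e))

theorem ym_inj (h : C.Val a b) {s t : F} (e : ym P a b s = ym P a b t) : s = t :=
  sub_eq_zero.1 (ym_eq_one P h (by rw [sub_eq_add_neg, ym_add P h, (ym_add P h).neg, e, mul_inv_cancel]))

theorem ym_conj (h : C.Val a b) (h' : C.Val c d) (e : b = a ↔ d = c) {g : P.cl.Om} {s s' : F}
    (ha : g.1 (P.f a) = s • P.f c) (hb : g.1 (P.f b) = s' • P.f d) (t : F) :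
    g * ym P a b t * g⁻¹ = ym P c d (s * s' * t) := by
  by_cases e' : b = a
  · obtain rfl := e.1 e'
    subst e'
    rw [ym_self, ym_self, conj_zo ha, P.smul_f_eq (hb.symm.trans ha)]
  · rw [ym_ne P (ix_of_ne e' h.1), ym_ne P (ix_of_ne (mt e.2 e') h'.1),
      conj_xo (ix_of_ne e' h.1) (ix_of_ne (mt e.2 e') h'.1) ha hb]; rfl

theorem ne_of_smul {g : P.cl.Om} {s : F} (ha : g.1 (P.f a) = s • P.f c) : s ≠ 0 := by
  rintro rfl
  exact P.f_ne a (by simpa using ha)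

variable [Finite F]

/-- the long root subgroups of the model -/
noncomputable def ph (i : Fin C.n) : SL(2, F) →* P.cl.Om :=
  (exists_hom_of_finite (rel_Z P (.inl i))).choose

theorem ph_xx (i : Fin C.n) (t : F) : ph P i (xx t) = P.yo (.inl i) 0 t :=
  (exists_hom_of_finite (rel_Z P (.inl i))).choose_spec.1 t

theorem ph_yy (i : Fin C.n) (t : F) : ph P i (yy t) = P.yo (.inr i) 0 (-t) :=
  (exists_hom_of_finite (rel_Z P (.inl i))).choose_spec.2 t

theorem ph_ww (i : Fin C.n) (t : F) : ph P i (ww xx yy t) = P.my (.inl i) 0 t :=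
  (map_ww (ph_xx P i) (ph_yy P i) t).trans (ww_Z P (.inl i) t)

theorem ph_hh (i : Fin C.n) (t : F) : ph P i (hh xx yy t) = P.hz (.inl i) t := by
  rw [hh, map_mul, map_inv, ph_ww, ph_ww, hz]

theorem JJ_ph (σ : Perm (Fin C.n)) (i : Fin C.n) (γ : SL(2, F)) :
    JJ P σ * ph P i γ * (JJ P σ)⁻¹ = ph P (σ i) γ :=
  sl2_ext (f := (MulAut.conj (JJ P σ)).toMonoidHom.comp (ph P i))
    (fun t => by simpa [ph_xx] using conj_zo ((JJ_f P σ (.inl i)).trans (one_smul F _).symm) t)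
    (fun t => by simpa [ph_yy] using conj_zo ((JJ_f P σ (.inr i)).trans (one_smul F _).symm) (-t)) γ

theorem PH_eq (i₀ i : Fin C.n) (γ : SL(2, F)) : PH i₀ (JJ P) (ph P i₀) i γ = ph P i γ := by
  rw [PH, JJ_ph, swap_apply_left]

theorem ph_comm {i j : Fin C.n} (h : i ≠ j) (γ γ' : SL(2, F)) : Commute (ph P i γ) (ph P j γ') := by
  refine sl2_comm (fun t => (sl2_comm (fun u => ?_) (fun u => ?_) γ').symm)
    (fun t => (sl2_comm (fun u => ?_) (fun u => ?_) γ').symm) γ <;>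
  simp only [ph_xx, ph_yy] <;> exact zz_comm (by simp [h.symm]) _ _

theorem ph_xo {i : Fin C.n} (h : idx a ≠ idx b) (h1 : jx a ≠ i) (h2 : jx b ≠ i) (γ : SL(2, F)) (t : F) :
    Commute (ph P i γ) (P.xo a b t) := by
  refine sl2_comm (fun u => ?_) (fun u => ?_) γ <;> simp only [ph_xx, ph_yy] <;>
    exact (P.xy_comm h (by rintro rfl; exact h1 rfl) (by rintro rfl; exact h2 rfl) _ (vp_sp _)).symm

theorem ph_wS (i : Fin C.n) (a : C.ι) : (ph P i (wS F a)).1 (P.f (.inl i)) =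
    P.f (a.map (fun _ => i) fun _ => i) := by
  cases a
  · simp [wS]
  · simp [wS, ph_ww, my_l, P.β_inl]

theorem ph_wS' {i : Fin C.n} (a : C.ι) (h : i ≠ jx c) : (ph P i (wS F a)).1 (P.f c) = P.f c := by
  cases a
  · simp [wS]
  · simp only [wS, Sum.elim_inr, ph_ww]
    exact my_f (vp_sp 1) one_ne_zero (jx_ne.2 h)

theorem YY_eq {i₀ i₁ : Fin C.n} (h01 : i₀ ≠ i₁) (h : C.Val a b) (t : F) :
    YY i₀ i₁ (JJ P) (ph P i₀) (P.xo (.inl i₀) (.inl i₁)) a b t = ym P a b t := by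
  unfold YY ym
  split_ifs with e
  · rw [PH_eq, map_mul, map_mul, map_inv, ph_xx, conj_zo (c := a) (y := 1)]
    · simp
    · rw [ph_wS, one_smul]; cases a <;> rfl
  · have h' := ix_of_ne e h.1
    rw [conj_xo (P := P) (a := .inl i₀) (b := .inl i₁) (x := 1) (y := 1) (jx_ne.2 h01) h']
    · simp
    · simp only [nn, PH_eq, Subgroup.coe_mul, LinearEquiv.mul_apply, one_smul]
      rw [ph_wS' P b h01.symm, ph_wS, JJ_f]
      have := tau_l h01 (jx_ne.1 h')
      cases a <;> exact congrArg P.f (congrArg _ this)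
    · simp only [nn, PH_eq, Subgroup.coe_mul, LinearEquiv.mul_apply, one_smul]
      rw [ph_wS, ph_wS' P a (by cases b <;> exact h01), JJ_f]
      cases b <;> simp [tau_r]

end Cfsg.Agent.H7.Pr
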