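import Mathlib
import Cfsg.Agent.H6.Induce
import Cfsg.Agent.H6.Galois
import Cfsg.Agent.H6.Values
import Cfsg.Agent.H6.Central
import Cfsg.Agent.L0.SL2Table

/-! Principal series characters of a doubly transitive group. -/

set_option autoImplicit false
set_option linter.unusedSectionVars false

namespace Cfsg.Agent.H7
open Cfsg H6 Finset
open scoped ComplexConjugate

variable {G : Type*} [Group G] [Fintype G]

theorem inner_ind_ind (B : Subgroup G) [Fintype B] (θ φ : B → ℂ) (hφ : IsClassFunction B φ) (s : ℂ)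
    (hs : ∀ x ∉ B, ∑ b : B, θ b * conj (extendByZero B φ (x⁻¹ * b * x)) = s) :
    classInner (indFun B θ) (indFun B φ) =
      classInner θ φ + ((B.index : ℂ) - 1) * s / Nat.card B := by
  classical
  have hB := card_ne_zero_complex B
  rw [classInner_indFun_left B θ (isClassFunction_indFun B φ), classInner_def]
  simp only [indFun_apply, map_mul, map_sum, map_inv₀, map_natCast, mul_sum]
  rw [sum_comm]
  have h1 : ∀ x : G, ∑ b : B, (Nat.card B : ℂ)⁻¹ * (θ b * ((Nat.card B : ℂ)⁻¹ *
      conj (extendByZero B φ (x⁻¹ * b * x)))) = (Nat.card B : ℂ)⁻¹ *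
        if x ∈ B then classInner θ φ else s / Nat.card B := by
    intro x
    rw [← mul_sum]
    congr 1
    split_ifs with hx
    · rw [classInner_def, mul_sum]
      refine sum_congr rfl fun b _ => ?_
      rw [extendByZero_conj' B hφ hx, extendByZero_coe]; ring
    · rw [← hs x hx, div_eq_inv_mul, mul_sum]
      exact sum_congr rfl fun b _ => by ring
  simp only [h1]
  rw [← mul_sum, sum_ite, sum_const, sum_const, nsmul_eq_mul, nsmul_eq_mul]
  have c1 : ((univ.filter fun x : G => x ∈ B).card : ℂ) = Nat.card B := by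
    rw [Nat.card_eq_fintype_card, Fintype.card_subtype]
  have c2 : ((univ.filter fun x : G => x ∉ B).card : ℂ) = Nat.card B * (B.index - 1) := by
    have := card_filter_add_card_filter_not (s := (univ : Finset G)) fun x => x ∈ B
    have h2 := card_eq_card_mul_index B
    rw [card_univ, ← Nat.card_eq_fintype_card] at this
    have h3 := congrArg (Nat.cast : ℕ → ℂ) this
    push_cast at h3
    linear_combination h3 + h2 - c1
  rw [c1, c2]
  field_simp

theorem sum_lin {A : Type*} [Group A] [Fintype A] (ν : A →* ℂˣ) :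
    ∑ a, (ν a : ℂ) = Nat.card A * L0.dl (ν = 1) := by
  classical
  have := sum_hom_units ((Units.coeHom ℂ).comp ν)
  simp only [MonoidHom.comp_apply, Units.coeHom_apply] at this
  rw [this, Nat.card_eq_fintype_card]
  by_cases h : ν = 1
  · rw [if_pos (by rw [h]; ext; simp), L0.dl_pos h, mul_one]
  · rw [if_neg fun e => h (by ext a; simpa using DFunLike.congr_fun e a), L0.dl_neg h, mul_zero]
    simp

theorem conj_lin {A : Type*} [Group A] [Finite A] (ν : A →* ℂˣ) (a : A) :
    conj (ν a : ℂ) = (ν a : ℂ)⁻¹ := by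
  rw [← isCharacter_inv (isCharacter_linear ν)]; simp

theorem inner_lin {A : Type*} [Group A] [Fintype A] (ν μ : A →* ℂˣ) :
    classInner (fun a => (ν a : ℂ)) (fun a => (μ a : ℂ)) = L0.dl (ν = μ) := by
  have := sum_lin (ν / μ)
  simp only [MonoidHom.div_apply, Units.val_div_eq_div_val, div_eq_one] at this
  rw [classInner_def]
  simp only [conj_lin, ← div_eq_mul_inv]
  rw [this, inv_mul_cancel_left₀ (card_ne_zero_complex A)]
  exact L0.dl_congr ⟨fun e => MonoidHom.ext fun a => div_eq_one.1 (DFunLike.congr_fun e a),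
    fun e => MonoidHom.ext fun a => by simp [e]⟩

/-- the elements of `B` that `x` conjugates into `B` -/
def tor (B : Subgroup G) (x : G) : Subgroup B :=
  (B.comap (MulAut.conj x⁻¹).toMonoidHom).subgroupOf B

omit [Fintype G] in
theorem mem_tor {B : Subgroup G} {x : G} {b : B} : b ∈ tor B x ↔ x⁻¹ * b * x ∈ B := by
  simp [tor, Subgroup.mem_subgroupOf]

/-- a split rank one configuration -/
structure R1 (B : Subgroup G) {C : Type*} [Group C] (c : B →* C) (τ : C →* C) : Prop where
  ne : B ≠ ⊤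
  surj : ∀ x ∉ B, ∀ γ, ∃ b : B, x⁻¹ * b * x ∈ B ∧ c b = γ
  tw : ∀ x ∉ B, ∀ (b : B) (h : x⁻¹ * b * x ∈ B), c ⟨_, h⟩ = τ (c b)
  dt : ∀ x ∉ B, ∀ y ∉ B, ∃ b ∈ B, y⁻¹ * b * x ∈ B

omit [Fintype G] in
theorem index_tor [Finite G] {B : Subgroup G} (dt : ∀ x ∉ B, ∀ y ∉ B, ∃ b ∈ B, y⁻¹ * b * x ∈ B)
    {x : G} (hx : x ∉ B) : (tor B x).index + 1 = B.index := by
  have e : tor B x = MulAction.stabilizer B (x : G ⧸ B) := by
    ext b
    rw [mem_tor, MulAction.mem_stabilizer_iff, eq_comm]
    change _ ↔ ((x : G ⧸ B) = ((b * x : G) : G ⧸ B))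
    rw [QuotientGroup.eq, mul_assoc]
  have e2 : MulAction.orbit B (x : G ⧸ B) = {((1 : G) : G ⧸ B)}ᶜ := by
    ext q
    obtain ⟨y, rfl⟩ := QuotientGroup.mk_surjective q
    rw [Set.mem_compl_singleton_iff, Ne, QuotientGroup.eq, mul_one, inv_mem_iff]
    constructor
    · rintro ⟨b, hb⟩ hy
      have : (y : G ⧸ B) = ((b * x : G) : G ⧸ B) := hb.symm
      rw [QuotientGroup.eq] at this
      exact hx (by simpa using B.mul_mem (B.inv_mem b.2) (B.mul_mem hy this))
    · intro hy
      obtain ⟨b, hb, h⟩ := dt x hx y hy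
      refine ⟨⟨b, hb⟩, Eq.symm ?_⟩
      change (y : G ⧸ B) = ((b * x : G) : G ⧸ B)
      rwa [QuotientGroup.eq, ← mul_assoc]
  rw [e, MulAction.index_stabilizer, e2, add_comm, ← Set.ncard_singleton ((1 : G) : G ⧸ B),
    Set.ncard_add_ncard_compl, Subgroup.index]

/-- the principal series -/
noncomputable def ps (B : Subgroup G) {C : Type*} [Group C] (c : B →* C) (l : C →* ℂˣ) : G → ℂ :=
  indFun B fun b => (l (c b) : ℂ)

variable {B : Subgroup G} {C : Type*} [Group C] {c : B →* C} {τ : C →* C}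

theorem isCharacter_ps (l : C →* ℂˣ) : IsCharacter G (ps B c l) :=
  isCharacter_indFun B (isCharacter_linear (l.comp c))

theorem ps_one (l : C →* ℂˣ) : ps B c l 1 = B.index := by simp [ps, indFun_one]

namespace R1
variable (h : R1 B c τ)
include h

theorem exists_not_mem : ∃ x, x ∉ B := by
  by_contra! H
  exact h.ne (top_unique fun x _ => H x)

theorem surjective : Function.Surjective c := fun γ =>
  let ⟨x, hx⟩ := h.exists_not_mem
  (h.surj x hx γ).imp fun _ => (·.2)

theorem inner_ps (l m : C →* ℂˣ) :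
    classInner (ps B c l) (ps B c m) = L0.dl (l = m) + L0.dl (l = m.comp τ) := by
  classical
  have hB := card_ne_zero_complex B
  have := Finite.of_surjective c h.surjective
  have h1 : (B.index : ℂ) - 1 ≠ 0 := by
    rw [sub_ne_zero]
    exact_mod_cast mt Subgroup.index_eq_one.1 h.ne
  rw [ps, ps, inner_ind_ind B _ (fun b => (m (c b) : ℂ)) (isClassFunction_of_isCharacter (isCharacter_linear (m.comp c)))
    (Nat.card B / (B.index - 1) * L0.dl (l = m.comp τ))]
  · congr 1
    · refine (inner_lin (l.comp c) (m.comp c)).trans (congrArg _ (propext ?_))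
      exact MonoidHom.cancel_right h.surjective
    · field_simp
  intro x hx
  rw [sum_eq_sum_subgroup (tor B x) _ fun b hb => by
    rw [extendByZero_of_not_mem _ _ (mt mem_tor.2 hb), map_zero, mul_zero]]
  have := sum_lin ((l / m.comp τ).comp (c.comp (tor B x).subtype))
  rw [show ((l / m.comp τ).comp (c.comp (tor B x).subtype) = 1) = (l = m.comp τ) from propext
    ⟨fun e => div_eq_one.1 (MonoidHom.ext fun γ => by
      obtain ⟨b, hb, rfl⟩ := h.surj x hx γ
      exact DFunLike.congr_fun e ⟨b, mem_tor.2 hb⟩), fun e => by rw [div_eq_one.2 e]; rfl⟩] at this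
  have h2 : (Nat.card B : ℂ) / (B.index - 1) = Nat.card (tor B x) := by
    rw [div_eq_iff h1, ← index_tor h.dt hx, card_eq_card_mul_index (tor B x)]
    push_cast; ring
  rw [h2, ← this]
  refine sum_congr rfl fun b _ => ?_
  rw [extendByZero_of_mem _ _ (mem_tor.1 b.2), h.tw x hx, conj_lin]
  simp [div_eq_mul_inv]

theorem isIrr_ps {l : C →* ℂˣ} (hl : l ≠ l.comp τ) : IsIrrCharacter G (ps B c l) :=
  isIrr_of_norm_one (isCharacter_ps l) (by rw [h.inner_ps, L0.dl_pos rfl, L0.dl_neg hl, add_zero])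

end R1

theorem sum_eval {C : Type*} [CommGroup C] [Finite C] [Fintype (C →* ℂˣ)] (γ : C) :
    ∑ m : C →* ℂˣ, (m γ : ℂ) = Nat.card C * L0.dl (γ = 1) := by
  have := sum_lin (MonoidHom.eval γ : (C →* ℂˣ) →* ℂˣ)
  rw [CommGroup.card_monoidHom_of_hasEnoughRootsOfUnity] at this
  refine this.trans (congrArg _ (L0.dl_congr ⟨fun e => ?_, fun e => by rw [e, map_one]⟩))
  by_contra hγ
  obtain ⟨m, hm⟩ := CommGroup.exists_apply_ne_one_of_hasEnoughRootsOfUnity C ℂ hγ
  exact hm (DFunLike.congr_fun e m)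

theorem sum_ker {C : Type*} [CommGroup C] [Finite C] [Fintype (C →* ℂˣ)] [Fintype B] {c : B →* C}
    (hc : Function.Surjective c) {χ : G → ℂ} (hχ : IsClassFunction G χ) :
    ∑ b : B, L0.dl (c b = 1) * χ b = Nat.card c.ker * ∑ m, classInner χ (ps B c m) := by
  have hB := card_ne_zero_complex B
  have hC := card_ne_zero_complex C
  have e : (Nat.card B : ℂ) = Nat.card c.ker * Nat.card C := by
    rw [card_eq_card_mul_index c.ker, Subgroup.index_ker, MonoidHom.range_eq_top.2 hc,
      Subgroup.card_top]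
  simp only [ps, classInner_indFun_right B _ hχ, classInner_def, conj_lin, ← mul_sum]
  rw [sum_comm]
  simp only [← mul_sum, ← Units.val_inv_eq_inv_val, ← map_inv, sum_eval, inv_eq_one]
  rw [mul_sum, mul_sum]
  refine sum_congr rfl fun b _ => ?_
  have hK := card_ne_zero_complex c.ker
  rw [e, map_inv, inv_eq_one]
  field_simp

omit [Fintype G] in
/-- parity of a sum of character values over a set permuted without fixed points by a
`2`-element -/
theorem two_dvd_sum [Finite G] {χ : G → ℂ} (hχ : IsCharacter G χ) (S : Finset G) (t : G) {k : ℕ}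
    (ht : t ^ 2 ^ k = 1) (hS : ∀ s ∈ S, t * s * t⁻¹ ∈ S) (hf : ∀ s ∈ S, t * s * t⁻¹ ≠ s) {n : ℤ}
    (hn : ∑ s ∈ S, χ s = n) : 2 ∣ n := by
  classical
  have key : ∀ v, 2 ∣ (S.filter fun s => χ s = v).card := by
    intro v
    let f : Function.End {s // s ∈ S.filter fun s => χ s = v} := fun s =>
      ⟨t * s * t⁻¹, by
        have := mem_filter.1 s.2
        exact mem_filter.2 ⟨hS _ this.1, (isClassFunction_of_isCharacter hχ _ _).trans this.2⟩⟩
    have hp : ∀ (j : ℕ) s, ((f ^ j) s : G) = t ^ j * s * (t ^ j)⁻¹ := by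
      intro j
      induction j with
      | zero => intro s; simp; rfl
      | succ j ih =>
        intro s
        rw [pow_succ']
        change t * ((f ^ j) s : G) * t⁻¹ = _
        rw [ih, pow_succ']; group
    have := Equiv.Perm.card_fixedPoints_modEq (f := f) (p := 2) (n := k) (by
      funext s
      exact Subtype.ext (by rw [hp, ht]; simp; rfl))
    rw [Fintype.card_coe, Fintype.card_eq_zero_iff.2 ⟨fun s =>
      hf _ (mem_filter.1 s.1.2).1 (congrArg Subtype.val s.2)⟩] at this
    exact (Nat.modEq_zero_iff_dvd).1 this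
  refine int_dvd_of_isIntegral_div two_ne_zero ?_
  rw [← hn, ← sum_fiberwise_of_maps_to (g := χ) (t := S.image χ) fun s hs => mem_image_of_mem _ hs,
    sum_div]
  refine IsIntegral.sum _ fun v hv => ?_
  obtain ⟨s, -, rfl⟩ := mem_image.1 hv
  obtain ⟨m, hm⟩ := key (χ s)
  rw [sum_congr rfl fun x hx => (mem_filter.1 hx).2, sum_const, hm, nsmul_eq_mul]
  rw [show ((2 * m : ℕ) : ℂ) * χ s / (2 : ℤ) = m • χ s by push_cast; rw [nsmul_eq_mul]; ring]
  exact (isCharacter_isIntegral hχ s).nsmul m

end Cfsg.Agent.H7
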