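import Mathlib
import Cfsg.Agent.H7.R1
import Cfsg.Agent.H23.SCd
import Cfsg.Agent.H23.Cnt
import Cfsg.Prelude.Def_DegreeGraph
import Cfsg.Agent.H11.UBridge
import Cfsg.Agent.L0.SL2Count
import Cfsg.Agent.S2366

/-! Some character degrees of `PSU₃(3)`. -/

set_option autoImplicit false
set_option linter.unusedSectionVars false

namespace Cfsg.Agent.H7
open Cfsg H6 Finset Module H11

theorem mem_charDegrees {G : Type*} [Group G] [Finite G] {χ : G → ℂ} (hχ : IsIrrCharacter G χ)
    {n : ℕ} (h : χ 1 = n) : n ∈ charDegrees G :=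
  ⟨⟨χ, hχ⟩, by exact_mod_cast (H8.irr_one_eq (⟨χ, hχ⟩ : IrrCharacter G)).symm.trans h⟩

theorem charDegrees_congr {G H : Type*} [Group G] [Group H] [Finite G] [Finite H] (e : G ≃* H) :
    charDegrees G = charDegrees H := by
  ext n
  constructor <;> rintro ⟨χ, rfl⟩
  · exact mem_charDegrees (isIrr_comp_equiv e.symm χ.2) (by rw [map_one, H8.irr_one_eq])
  · exact mem_charDegrees (isIrr_comp_equiv e χ.2) (by rw [map_one, H8.irr_one_eq])

theorem dvd_card_of_mem_charDegrees {G : Type*} [Group G] [Finite G] {n : ℕ}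
    (h : n ∈ charDegrees G) : n ∣ Nat.card G := by
  obtain ⟨χ, rfl⟩ := h
  exact degree_dvd_card χ.2 (H8.irr_one_eq χ)

section Abstract
variable {G : Type*} [Group G] [Finite G] [IsSimpleGroup G] (hG : Nat.card G = 6048)
include hG

theorem deg_six : ∃ d ∈ charDegrees G, 6 ∣ d := by
  have nc := H20.simple_not_comm_of_not_prime (G := G) (by rw [hG]; norm_num)
  have : Fact (Nat.Prime 7) := ⟨by norm_num⟩
  obtain ⟨x, hx⟩ := exists_prime_orderOf_dvd_card' (G := G) 7 (by rw [hG]; norm_num)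
  obtain ⟨hs, hk, he⟩ := H23.sc_of_kev (B := 78) (k := 288) (e := 3) hG (by norm_num) (by norm_num)
    (by norm_num) (by norm_num) (by norm_num) (by decide +kernel) hx
  obtain ⟨m, c, δ, hδ, c2, cd, -, m1, hm, hc, -, hS⟩ :=
    H23.exists_mult nc hs.syl1 (by norm_num) he hk (t := 2) rfl
  by_contra! H
  have H' : ∀ n, H23.cnt G n ≠ 0 → ¬ 6 ∣ n := fun n hn => H n (H23.cnt_ne_zero.1 hn)
  have hm' : ∀ n, m n ≠ 0 → n ∈ ({1, 8, 27} : Finset ℕ) := fun n hn => by
    obtain ⟨a, b, c⟩ := hm n hn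
    have := H' n (by have := hc n; omega)
    have : n ≤ 77 := by nlinarith
    simp only [mem_insert, mem_singleton]
    interval_cases n <;> omega
  obtain ⟨a1, a2, -⟩ := hS _ hm'
  have a3 := H' c (by have := hc c; simp at this; omega)
  simp only [mem_insert, mem_singleton, sum_insert, sum_singleton, m1, not_false_eq_true,
    Nat.reduceEqDiff, or_self, Nat.reduceMod, if_true, if_false] at a1 a2
  have : m 8 ≤ 2 := by omega
  have : c = 17 ∨ c = 18 ∨ c = 53 := by rcases hδ with rfl | rfl <;> omega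
  rcases this with rfl | rfl | rfl <;> omega

theorem deg_ps {B : Subgroup G} {C : Type*} [CommGroup C] [IsCyclic C] {c : B →* C} {τ : C →* C}
    (h : R1 B c τ) (hC : Nat.card C = 8) (hτ : ∀ γ, τ γ = γ ^ 5) (hU : Nat.card c.ker = 27)
    (ho : ∀ g : G, orderOf g ∣ 12 ∨ orderOf g ∣ 8 ∨ orderOf g ∣ 7) :
    28 ∈ charDegrees G ∧ 21 ∈ charDegrees G := by
  classical
  have nc := H20.simple_not_comm_of_not_prime (G := G) (by rw [hG]; norm_num)
  have := Fintype.ofFinite G
  have := Finite.of_surjective c h.surjective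
  have := Fintype.ofFinite (C →* ℂˣ)
  have hB : B.index = 28 := by
    have h1 := c.ker.card_mul_index
    have h2 := B.card_mul_index
    rw [Subgroup.index_ker, MonoidHom.range_eq_top.2 h.surjective, Subgroup.card_top] at h1
    rw [← h1, hU, hC, hG] at h2
    omega
  have hτ' : ∀ l : C →* ℂˣ, l.comp τ = l ^ 5 := fun l => MonoidHom.ext fun γ => by simp [hτ]
  obtain ⟨e⟩ := CommGroup.monoidHom_mulEquiv_of_hasEnoughRootsOfUnity C ℂ
  obtain ⟨a, ha⟩ := L0.exists_pow_four_ne_one (A := C) (by omega)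
  have h4 : e.symm a ^ 4 ≠ 1 := fun h => ha (by rwa [← map_pow, EmbeddingLike.map_eq_one_iff] at h)
  have h8 : e.symm a ^ 8 = 1 := by rw [← map_pow, ← hC, pow_card_eq_one', map_one]
  generalize e.symm a = β at h4 h8
  refine ⟨mem_charDegrees (h.isIrr_ps (l := β) fun e => h4 ?_) (by rw [ps_one, hB]), ?_⟩
  · rw [hτ', pow_succ] at e
    exact (mul_eq_right.1 e.symm)
  have h5 : (β ^ 4) ^ 5 = β ^ 4 := by
    rw [← pow_mul, show 4 * 5 = 8 * 2 + 4 by rfl, pow_add, pow_mul, h8, one_pow, one_mul]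
  have hi : ∀ m, classInner (ps B c (β ^ 4)) (ps B c m) = 2 * L0.dl (β ^ 4 = m) := fun m => by
    rw [h.inner_ps, hτ', two_mul]
    refine congrArg _ (L0.dl_congr ⟨fun e => ?_, fun e => by rw [← e, h5]⟩)
    have : m ^ 8 = 1 := by
      ext γ; rw [MonoidHom.pow_apply, ← map_pow, ← hC, pow_card_eq_one']; simp
    rw [← h5, e, ← pow_mul, show 5 * 5 = 8 * 3 + 1 by rfl, pow_add, pow_mul, this]; simp
  have hΦ := isCharacter_ps (c := c) (β ^ 4)
  obtain ⟨χ, hχ, hχ'⟩ := exists_irr_constituent hΦ fun e => by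
    have := hi (β ^ 4)
    rw [e, L0.dl_pos rfl, classInner_zero_left] at this
    norm_num at this
  obtain ⟨ψ, hψ, hne, hadd⟩ := L0.exists_add_of_norm_two hΦ (by rw [hi, L0.dl_pos rfl, mul_one]) hχ hχ'
  have hk : ∀ m, classInner χ (ps B c m) = L0.dl (β ^ 4 = m) := fun m => by
    by_cases e : β ^ 4 = m
    · rw [← e, hadd, classInner_add_right, classInner_irr_self hχ, classInner_irr_of_ne hχ hψ hne,
        L0.dl_pos rfl, add_zero]
    · obtain ⟨u, hu⟩ := classInner_nat (isCharacter_of_irr hχ) (isCharacter_ps (c := c) m)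
      obtain ⟨v, hv⟩ := classInner_nat (isCharacter_of_irr hψ) (isCharacter_ps (c := c) m)
      have := hi m
      rw [hadd, classInner_add_left, hu, hv, L0.dl_neg e, mul_zero] at this
      have : u + v = 0 := by exact_mod_cast this
      rw [hu, L0.dl_neg e, show u = 0 by omega, Nat.cast_zero]
  have hne1 : ∀ η, IsIrrCharacter G η → classInner (ps B c (β ^ 4)) η ≠ 0 → η 1 ≠ (1 : ℕ) := by
    intro η hη h0 h1
    have := H23.deg_ne_one (H20.simple_commutator_eq_top nc) (χ := ⟨η, hη⟩) fun e => by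
      have e' : η = fun _ => 1 := funext fun g => by
        rw [← H8.irrOne_apply g, ← e]
      rw [e', ps, classInner_indFun_left _ _ (isClassFunction_const 1)] at h0
      have h6 := inner_lin ((β ^ 4).comp c) 1
      simp only [MonoidHom.one_apply, Units.val_one, MonoidHom.comp_apply] at h6
      rw [h6, L0.dl_neg fun e => h4 ((MonoidHom.cancel_right h.surjective).1
        (e.trans (MonoidHom.one_comp c).symm))] at h0
      exact h0 rfl
    have h2 : charDegree η = 1 := by
      exact_mod_cast (H8.irr_one_eq (⟨η, hη⟩ : IrrCharacter G)).symm.trans h1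
    exact absurd (this.trans_eq h2) (by norm_num)
  obtain ⟨u, hu⟩ : ∃ u : ℕ, χ 1 = u := ⟨_, H8.irr_one_eq ⟨χ, hχ⟩⟩
  obtain ⟨v, hv⟩ : ∃ u : ℕ, ψ 1 = u := ⟨_, H8.irr_one_eq ⟨ψ, hψ⟩⟩
  have huv : u + v = 28 := by
    have := congrFun hadd 1
    rw [ps_one, hB, Pi.add_apply, hu, hv] at this
    exact_mod_cast this.symm
  have hv1 : v ≠ 1 := fun e => hne1 ψ hψ (by
    rw [hadd, classInner_add_left, classInner_irr_self hψ, classInner_irr_of_ne hχ hψ hne]; simp)
    (e ▸ hv)
  have hu1 : u ≠ 1 := fun e => hne1 χ hχ hχ' (e ▸ hu)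
  have hs := sum_ker h.surjective (isClassFunction_of_irr hχ)
  simp only [hk] at hs
  rw [hU, show ∑ m, L0.dl (β ^ 4 = m) = 1 by simpa using L0.sum_dl_eq (β ^ 4) fun _ => 1] at hs
  obtain ⟨γ, hγ⟩ := IsCyclic.exists_ofOrder_eq_natCard (α := C)
  obtain ⟨t, rfl⟩ := h.surjective γ
  have ht : ∀ g : B, c g = c t → orderOf g = 8 := fun g hg => by
    have h1 := orderOf_map_dvd c g
    have h2 := ho g
    rw [hg, hγ, hC] at h1
    rw [Subgroup.orderOf_coe] at h2
    rcases h2 with h2 | h2 | h2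
    exacts [absurd (h1.trans h2) (by norm_num), Nat.dvd_antisymm h2 h1,
      absurd (h1.trans h2) (by norm_num)]
  have hpar := two_dvd_sum (isCharacter_restrict B (isCharacter_of_irr hχ))
    ((univ.filter fun b => c b = 1).erase 1) t (k := 3) (n := 27 - u)
    (by rw [show 2 ^ 3 = 8 by rfl, ← ht t rfl, pow_orderOf_eq_one])
    (fun s hs => by
      simp only [mem_erase, mem_filter, mem_univ, true_and] at hs ⊢
      exact ⟨by simpa [mul_inv_eq_one] using hs.1, by simp [hs.2]⟩)
    (fun s hs e => by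
      simp only [mem_erase, mem_filter, mem_univ, true_and] at hs
      have hc : Commute t s := mul_inv_eq_iff_eq_mul.1 e
      have h1 : (t * s) ^ 8 = 1 := by rw [← ht (t * s) (by simp [hs.2]), pow_orderOf_eq_one]
      rw [hc.mul_pow, ← ht t rfl, pow_orderOf_eq_one, one_mul, ht t rfl] at h1
      have h2 := Subgroup.orderOf_dvd_natCard c.ker hs.2
      rw [hU] at h2
      exact hs.1 (orderOf_eq_one_iff.1 (Nat.eq_one_of_dvd_coprimes (by norm_num)
        (orderOf_dvd_of_pow_eq_one h1) h2)))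
    (by
      rw [sum_erase_eq_sub (by simp), sum_filter]
      simp only [L0.dl_eq_ite, ite_mul, one_mul, zero_mul] at hs
      rw [hs]; simp [hu])
  have d1 := degree_dvd_card hχ hu
  have d2 := degree_dvd_card hψ hv
  rw [hG] at d1 d2
  have : u = 21 ∨ v = 21 := by
    obtain rfl : v = 28 - u := by omega
    have : u ≤ 28 := by omega
    interval_cases u <;> omega
  rcases this with rfl | rfl
  exacts [mem_charDegrees hχ hu, mem_charDegrees hψ hv]

end Abstract

section Unitary
variable {F : Type*} [Field F] {V : Type*} [AddCommGroup V] [Module F V] {σ : F →+* F}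
  {B : V →ₛₗ[σ] V →ₗ[F] F}

variable (B) in
/-- the stabilizer of a line -/
def lineStab (e : V) : Subgroup (SIsom B) where
  carrier := {g | ∃ c : Fˣ, g.1.1 e = (c : F) • e}
  one_mem' := ⟨1, by simp⟩
  mul_mem' := by
    rintro a b ⟨c, hc⟩ ⟨d, hd⟩
    exact ⟨c * d, by simp [hc, hd, smul_smul, mul_comm]⟩
  inv_mem' := by
    rintro a ⟨c, hc⟩
    refine ⟨c⁻¹, a.1.1.injective ?_⟩
    simp [hc, smul_smul]

theorem mem_lineStab {e : V} (he : e ≠ 0) {g : SIsom B} :
    g ∈ lineStab B e ↔ ∃ c : F, g.1.1 e = c • e :=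
  ⟨fun ⟨c, hc⟩ => ⟨c, hc⟩, fun ⟨c, hc⟩ => ⟨Units.mk0 c fun h => he (g.1.1.injective
    (by simp [hc, h])), hc⟩⟩

/-- the eigenvalue on a fixed line -/
noncomputable def lineEv {e : V} (he : e ≠ 0) : lineStab B e →* Fˣ :=
  MonoidHom.mk' (fun g => g.2.choose) fun a b => Units.ext (smul_left_injective F he (by
    have h1 := a.2.choose_spec
    have h2 := b.2.choose_spec
    have h3 := (a * b).2.choose_spec
    refine h3.symm.trans ((congrArg a.1.1.1 h2).trans ?_)
    rw [map_smul]
    refine (congrArg _ h1).trans ?_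
    rw [smul_smul, mul_comm]; rfl))

theorem lineEv_spec {e : V} (he : e ≠ 0) (g : lineStab B e) :
    g.1.1.1 e = (lineEv he g : F) • e := g.2.choose_spec

theorem lineEv_eq {e : V} (he : e ≠ 0) (g : lineStab B e) {c : F} (h : g.1.1.1 e = c • e) :
    (lineEv he g : F) = c := smul_left_injective F he ((lineEv_spec he g).symm.trans h)

variable [FiniteDimensional F V] (h : IsHerm B) (hB : B.SeparatingLeft) (h3 : finrank F V = 3)
include h hB h3

theorem smul_of_perp {e v : V} (he : e ≠ 0) (h0 : B e e = 0) (hv : B v v = 0) (hev : B e v = 0) :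
    ∃ c : F, v = c • e := by
  by_contra! H
  have li : LinearIndependent F ![e, v] := (LinearIndependent.pair_iff' he).2 fun a e => H a e.symm
  have := h.form.two_mul_finrank_le hB (h.form.totSing_span (s := Set.range ![e, v])
    (by simp [h0, hv]) (by simp [h0, hv, hev, h.refl hev]))
  rw [finrank_span_eq_card li, h3] at this
  simp at this

theorem r1_su {q : ℕ} (hq : QConj σ q) {e : V} (he : e ≠ 0) (h0 : B e e = 0) :
    R1 (lineStab B e) (lineEv he) (invMonoidHom.comp (powMonoidHom q)) := by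
  have := hq.finite
  have hne : ∀ x ∉ lineStab B e, B e (x.1.1 e) ≠ 0 := fun x hx H =>
    hx ((mem_lineStab he).2 (smul_of_perp h hB h3 he h0 (by rw [x.1.2.1, h0]) H))
  have hinv : ∀ (x : SIsom B) v, x⁻¹.1.1 (x.1.1 v) = v := fun x v => x.1.1.symm_apply_apply v
  refine ⟨fun H => ?_, fun x hx γ => ?_, fun x hx b hb => ?_, fun x hx y hy => ?_⟩
  · obtain ⟨f, f0, hf⟩ := h.form.exists_partner hB h0 he
    obtain ⟨m, hm, c, c0, hc⟩ := h.exists_eichSub_point hB h0 he f0 (by rintro rfl; simp at hf)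
    rw [h.eichSub_eq hB] at hm
    obtain ⟨d, hd⟩ : (⟨m, hm⟩ : SIsom B) ∈ lineStab B e := H ▸ Subgroup.mem_top _
    have := congrArg (B e) (hc.symm.trans hd)
    simp [h0, hf, c0] at this
  · have hx' := hne x hx
    obtain ⟨f, hf⟩ : ∃ f, x.1.1 e = B e (x.1.1 e) • f :=
      ⟨(B e (x.1.1 e))⁻¹ • x.1.1 e, by simp [smul_smul, hx']⟩
    have ef : B e f = 1 := by
      have := congrArg (B e) hf
      rw [map_smul, smul_eq_mul] at this
      exact (mul_eq_left₀ hx').1 this.symm
    have ff : B f f = 0 := by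
      have := x.1.2.1 e e
      rw [hf, h0] at this
      simpa [hx'] using this
    obtain ⟨w, hw, w0⟩ : ∃ w ∈ perp B (Submodule.span F (Set.range ![e, f])), w ≠ 0 := by
      refine Submodule.exists_mem_ne_zero_of_ne_bot fun H => ?_
      have h1 := h.form.finrank_perp hB (Submodule.span F (Set.range ![e, f]))
      have h2 := finrank_range_le_card (R := F) ![e, f]
      rw [H, finrank_bot, h3] at h1
      simp only [Set.finrank, Fintype.card_fin] at h2
      omega
    rw [mem_perp_span] at hw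
    have w1 : B e w = 0 := hw e ⟨0, rfl⟩
    have w2 : B f w = 0 := hw f ⟨1, rfl⟩
    have ww : B w w ≠ 0 := fun H => by
      obtain ⟨c, rfl⟩ := smul_of_perp h hB h3 he h0 H w1
      simp only [map_smul, h.flip_one ef, smul_eq_mul, mul_one] at w2
      exact w0 (by simp [w2])
    have hσ : σ γ ≠ 0 := by simp
    have ha : σ (σ γ / γ) * (σ γ / γ) = 1 := by
      rw [map_div₀, h.invol]; field_simp
    let g : SIsom B := ⟨h.dil h0 ff ef γ.ne_zero * h.qref ww ha, by
      rw [MonoidHom.mem_ker, map_mul]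
      apply Units.ext
      rw [Units.val_mul, detI_coe, detI_coe, h.det_dil, h.det_qref]
      simp; field_simp⟩
    have g1 : g.1.1 e = (γ : F) • e := by
      change (h.dil h0 ff ef γ.ne_zero).1 ((h.qref ww ha).1 e) = _
      rw [h.qref_of_perp ww ha (h.refl w1), h.dil_apply, h0, h.flip_one ef]
      module
    have g2 : g.1.1 f = (σ γ)⁻¹ • f := by
      change (h.dil h0 ff ef γ.ne_zero).1 ((h.qref ww ha).1 f) = _
      rw [h.qref_of_perp ww ha (h.refl w2), h.dil_apply, ff, ef]
      module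
    refine ⟨⟨g, γ, g1⟩, (mem_lineStab he).2 ⟨(σ γ)⁻¹, ?_⟩, Units.ext (lineEv_eq he _ g1)⟩
    change x⁻¹.1.1 (g.1.1 (x.1.1 e)) = _
    rw [hf, map_smul, g2, smul_comm, ← hf, map_smul, hinv]
  · apply Units.ext
    have h1 := lineEv_spec he ⟨_, hb⟩
    have h2 : b.1.1.1 (x.1.1 e) = (lineEv he ⟨_, hb⟩ : F) • x.1.1 e := by
      rw [← map_smul, ← h1]
      exact (x.1.1.apply_symm_apply _).symm
    have h4 := b.1.1.2.1 e (x.1.1 e)
    rw [h2, lineEv_spec he b] at h4
    simp only [map_smul, map_smulₛₗ, LinearMap.smul_apply, smul_eq_mul] at h4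
    have := hne x hx
    simp only [MonoidHom.comp_apply, powMonoidHom_apply, invMonoidHom_apply,
      Units.val_inv_eq_inv_val, Units.val_pow_eq_pow_val, ← hq.eq]
    refine eq_inv_of_mul_eq_one_left (mul_right_cancel₀ this ?_)
    linear_combination h4
  · obtain ⟨w, c, h1, h2, h4⟩ := h.exists_eich_apply (v := x.1.1 e)
      (v' := (B e (x.1.1 e) / B e (y.1.1 e)) • y.1.1 e) h0
      (by simp [x.1.2.1, y.1.2.1, h0]) (by simp [hne y hy]) (hne x hx)
    refine ⟨⟨_, h.eich_mem_sisom h0 h1 h2⟩, (mem_lineStab he).2 ⟨1, by simp [h.eich_self]⟩,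
      (mem_lineStab he).2 ⟨B e (x.1.1 e) / B e (y.1.1 e), ?_⟩⟩
    change y⁻¹.1.1 ((h.eich h0 h1 h2).1 (x.1.1 e)) = _
    rw [h4, map_smul, hinv]

theorem card_ker_lineEv (hq : QConj σ 3) {e : V} (he : e ≠ 0) (h0 : B e e = 0)
    (hG : Nat.card (SIsom B) = 6048) : Nat.card (lineEv (B := B) he).ker = 27 := by
  have := hq.finite
  have := Module.finite_of_finite F (M := V)
  have e1 : Nat.card (lineEv (B := B) he).ker = Nat.card (MulAction.stabilizer (SIsom B) e) :=
    Nat.card_congr ⟨fun g => ⟨g.1.1, by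
        have := lineEv_spec he g.1
        rw [MonoidHom.mem_ker.1 g.2] at this
        exact this.trans (one_smul _ _)⟩,
      fun g => ⟨⟨g.1, 1, g.2.trans (one_smul _ _).symm⟩,
        Units.ext (lineEv_eq he _ (g.2.trans (one_smul _ _).symm))⟩, fun _ => rfl, fun _ => rfl⟩
  have e2 : MulAction.orbit (SIsom B) e = {v | B v v = 0} \ {0} := by
    ext v
    constructor
    · rintro ⟨g, rfl⟩
      exact ⟨(g.1.2.1 e e).trans h0, fun H => he (g.1.1.injective (H.trans (map_zero _).symm))⟩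
    · rintro ⟨v1, v0⟩
      obtain ⟨m, hm, c, c0, hc⟩ := h.exists_eichSub_point hB h0 he v1 v0
      obtain ⟨f, f0, hf⟩ := h.form.exists_partner hB v1 v0
      obtain ⟨n, hn, hn'⟩ := h.exists_eichSub_smul hB v1 f0 hf (inv_ne_zero c0) (.inl h3.ge)
      rw [h.eichSub_eq hB] at hm hn
      refine ⟨⟨n, hn⟩ * ⟨m, hm⟩, ?_⟩
      change n.1 (m.1 e) = v
      rw [hc, map_smul, hn', smul_smul, mul_inv_cancel₀ c0, one_smul]
  have e3 := h.card_isotropic hq hB h3
  have e4 := (MulAction.stabilizer (SIsom B) e).card_mul_index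
  rw [MulAction.index_stabilizer, e2, Set.ncard_diff_singleton_of_mem (by simp), hG,
    ← Nat.card_coe_set_eq, Set.coe_setOf, e3] at e4
  rw [if_neg (by decide)] at e4
  omega

end Unitary

theorem psu33_degrees {F : Type*} [Field F] [Fintype F] (hF : Fintype.card F = 9) :
    Nat.card (PSU 3 F 3) = 6048 ∧ (∃ d ∈ charDegrees (PSU 3 F 3), 6 ∣ d) ∧
      28 ∈ charDegrees (PSU 3 F 3) ∧ 21 ∈ charDegrees (PSU 3 F 3) := by
  have hq := qConj_conjQ (q := 3) hF
  have := charP_of_card_eq_prime_pow (p := 3) (f := 2) hF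
  have h := hq.isHerm (Fin 3)
  have hB := hermB_sep (σ := conjQ (q := 3) hF) (Fin 3)
  have h3 : finrank F (Fin 3 → F) = 3 := by simp
  have hZ := h.card_center_sisom hq hB (by omega)
  rw [h3, show Nat.gcd 3 (3 + 1) = 1 by norm_num, Subgroup.card_eq_one] at hZ
  have e := (psuEquiv hq 3).trans ((QuotientGroup.quotientMulEquivOfEq hZ).trans
    QuotientGroup.quotientBot)
  have hG := h.card_sisom hq hB h3 (by norm_num)
  rw [show uOrd 3 3 = 4 * 6048 by decide] at hG
  replace hG := Nat.eq_of_mul_eq_mul_left (by norm_num) hG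
  have : Finite (SIsom (hermB (Fin 3) (conjQ (q := 3) hF))) := Nat.finite_of_card_ne_zero (by omega)
  have : Finite (PSU 3 F 3) := Finite.of_equiv _ e.symm.toEquiv
  have := h.isSimpleGroup_psu hB (hq.simple_cond le_rfl (by simp))
  have := ((psuEquiv hq 3).symm.trans e).symm.isSimpleGroup
  obtain ⟨u, u0, hu⟩ := h.exists_isotropic hB (by omega)
  rw [charDegrees_congr e, Nat.card_congr e.toEquiv]
  refine ⟨hG, deg_six hG, deg_ps hG (r1_su h hB h3 hq u0 hu) (by
    rw [Nat.card_units, Nat.card_eq_fintype_card, hF]) (fun γ => ?_)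
    (card_ker_lineEv h hB h3 hq u0 hu hG) fun g => ?_⟩
  · have := pow_card_eq_one' (x := γ)
    rw [Nat.card_units, Nat.card_eq_fintype_card, hF] at this
    exact inv_eq_of_mul_eq_one_right ((pow_add γ 3 5).symm.trans this)
  · have : orderOf g ∈ Set.range (orderOf : PSU 3 F 3 → ℕ) := ⟨e.symm g, e.symm.orderOf_eq g⟩
    rw [S2366.result 3 (by norm_num) 3 hF] at this
    simp only [Set.mem_union, Set.mem_setOf_eq] at this
    norm_num at this
    rcases this with ((h | h) | h) | h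
    exacts [.inl (h.trans (by norm_num)), .inl h, .inr (.inl h), .inr (.inr h)]

section Aff
variable (R : Type*) [CommRing R]

/-- the affine group of a commutative ring -/
abbrev AffR := Multiplicative R ⋊[(MulAutMultiplicative R).symm.toMonoidHom.comp
  (DistribMulAction.toAddAut Rˣ R)] Rˣ

theorem card_affR : Nat.card (AffR R) = Nat.card R * Nat.card Rˣ := SemidirectProduct.card

instance : Group.IsSolvable (AffR R) :=
  solvable_of_ker_le_range SemidirectProduct.inl SemidirectProduct.rightHom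
    SemidirectProduct.range_inl_eq_ker_rightHom.ge

instance [Finite R] : Finite (AffR R) := Finite.of_equiv _ SemidirectProduct.equivProd.symm

variable {R} in
theorem exists_irr_affR [Finite R] {ψ : AddChar R ℂ} (hψ : ψ.IsPrimitive) :
    ∃ χ, IsIrrCharacter (AffR R) χ ∧ χ 1 = Nat.card Rˣ := by
  have := Fintype.ofFinite (AffR R)
  let N : Subgroup (AffR R) := SemidirectProduct.rightHom.ker
  let l : N →* ℂ := ⟨⟨fun a => ψ a.1.left.toAdd, by simp⟩, fun a b => by
    have : a.1.right = 1 := a.2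
    simp [this, ψ.map_add_eq_mul]⟩
  refine ⟨indFun N fun a => (l.toHomUnits a : ℂ), (isIrr_indFun_normal_iff N
    (isIrr_linear _)).2 (le_antisymm (fun g hg => ?_) (le_inertia _ (isClassFunction_of_irr
      (isIrr_linear _)))), ?_⟩
  · by_contra hN
    refine hψ (a := g.right - 1) (fun e => hN (Units.ext (sub_eq_zero.1 e))) (AddChar.ext _ _ fun x => ?_)
    have := congrFun ((mem_inertia N).1 hg)
      ⟨SemidirectProduct.inl (Multiplicative.ofAdd x), SemidirectProduct.rightHom_inl _⟩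
    change ψ (g.left.toAdd + g.right • x + (g.right * 1) • g.right⁻¹ • (-g.left.toAdd)) = ψ x at this
    rw [mul_one, smul_inv_smul, add_neg_cancel_comm, Units.smul_def, smul_eq_mul] at this
    rw [AddChar.mulShift_apply, sub_mul, one_mul, ψ.map_sub_eq_div, this, AddChar.one_apply,
      div_self (ψ.val_isUnit x).ne_zero]
  · rw [indFun_one, Subgroup.index_ker, MonoidHom.range_eq_top.2
      SemidirectProduct.rightHom_surjective]
    simp

end Aff

theorem exists_solvable_6048 : ∃ (H : Type) (_ : Group H) (_ : Fintype H), Group.IsSolvable H ∧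
    Nat.card H = 6048 ∧ 42 ∈ charDegrees H := by
  have : Fact (Nat.Prime 2) := ⟨Nat.prime_two⟩
  have := Fintype.ofFinite (GaloisField 2 3)
  obtain ⟨a, ha, a1⟩ := exists_irr_affR
    (AddChar.FiniteField.primitiveChar_to_Complex_isPrimitive (GaloisField 2 3))
  obtain ⟨b, hb, b1⟩ := exists_irr_affR (ZMod.isPrimitive_stdAddChar 9)
  obtain ⟨c, hc, c1⟩ := exists_irr_affR (ZMod.isPrimitive_stdAddChar 2)
  have e1 : Nat.card (GaloisField 2 3) = 8 := GaloisField.card 2 3 (by norm_num)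
  have e2 : Nat.card (ZMod 9)ˣ = 6 := by
    rw [Nat.card_eq_fintype_card, ZMod.card_units_eq_totient]; decide
  have e3 : Nat.card (ZMod 2)ˣ = 1 := by
    rw [Nat.card_eq_fintype_card, ZMod.card_units_eq_totient]; decide
  refine ⟨AffR (GaloisField 2 3) × AffR (ZMod 9) × AffR (ZMod 2), inferInstance,
    Fintype.ofFinite _, inferInstance, ?_,
    mem_charDegrees (isIrr_prod_fun ha (isIrr_prod_fun hb hc)) ?_⟩
  · simp only [Nat.card_prod, card_affR, Nat.card_units, e1, e2, e3, Nat.card_zmod]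
  · simp only [Prod.fst_one, Prod.snd_one, a1, b1, c1, Nat.card_units, e1, e2, e3]
    norm_num

theorem graph_complete {G : Type*} [Group G] [Finite G] (hG : Nat.card G = 6048)
    (h1 : ∃ d ∈ charDegrees G, 6 ∣ d) (h2 : ∃ d ∈ charDegrees G, 14 ∣ d)
    (h3 : ∃ d ∈ charDegrees G, 21 ∣ d) : degreePrimes G = {2, 3, 7} ∧
      ∀ p q, (degreeGraph G).Adj p q ↔ p ≠ q ∧ p ∈ ({2, 3, 7} : Set ℕ) ∧ q ∈ ({2, 3, 7} : Set ℕ) := by
  have key : ∀ p d, p.Prime → d ∈ charDegrees G → p ∣ d → p ∈ ({2, 3, 7} : Set ℕ) := by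
    intro p d hp hd h
    have := h.trans (dvd_card_of_mem_charDegrees hd)
    rw [hG, show 6048 = 2 ^ 5 * (3 ^ 3 * 7) by norm_num, hp.dvd_mul, hp.dvd_mul] at this
    rcases this with h | h | h
    exacts [.inl ((Nat.prime_dvd_prime_iff_eq hp Nat.prime_two).1 (hp.dvd_of_dvd_pow h)),
      .inr (.inl ((Nat.prime_dvd_prime_iff_eq hp Nat.prime_three).1 (hp.dvd_of_dvd_pow h))),
      .inr (.inr ((Nat.prime_dvd_prime_iff_eq hp (by norm_num)).1 h))]
  obtain ⟨a, ha, a'⟩ := h1
  obtain ⟨b, hb, b'⟩ := h2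
  obtain ⟨c, hc, c'⟩ := h3
  refine ⟨Set.ext fun p => ⟨fun ⟨hp, d, hd, h⟩ => key p d hp hd h, ?_⟩, fun p q =>
    ⟨fun ⟨h, hp, hq, d, hd, h'⟩ => ⟨h, key p d hp hd ((dvd_mul_right _ _).trans h'),
      key q d hq hd ((dvd_mul_left _ _).trans h')⟩, ?_⟩⟩
  · rintro (rfl | rfl | rfl)
    exacts [⟨by norm_num, a, ha, by omega⟩, ⟨by norm_num, a, ha, by omega⟩,
      ⟨by norm_num, b, hb, by omega⟩]
  · rintro ⟨h, rfl | rfl | rfl, rfl | rfl | rfl⟩ <;> first
      | exact absurd rfl h
      | exact ⟨h, by norm_num, by norm_num, a, ha, by omega⟩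
      | exact ⟨h, by norm_num, by norm_num, b, hb, by omega⟩
      | exact ⟨h, by norm_num, by norm_num, c, hc, by omega⟩

end Cfsg.Agent.H7
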